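import Cfsg.Agent.Lib.Perm.Dickson.SubfieldPair
import Cfsg.Agent.Lib.Perm.Dickson.TwoTransv

/-!
# A transvection group of degree two with one opposite transvection

The upper translations of a subgroup of `SL(2, q)` containing `1` above and `e` below form the additive group of a
subfield containing `e`, apart from three translations with `e² = -1` in characteristic three.
-/

set_option autoImplicit false
set_option linter.all false

namespace CfsgLib.Perm.Trans.ThreeRes.Tv

open Matrix CfsgLib.Perm.Dickson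

variable {F : Type*} [Field F] [Fintype F]

theorem upS_mul (s t : F) : upS s * upS t = upS (s + t) := Subtype.ext (by
  show (upS s).1 * (upS t).1 = (upS (s + t)).1
  simp [upS, Matrix.mul_fin_two, add_comm])

theorem upS_pow (t : F) (n : ℕ) : upS t ^ n = upS ((n : F) * t) := by
  induction n with
  | zero => rw [pow_zero, Nat.cast_zero, zero_mul]; exact Subtype.ext (by simp [upS, Matrix.one_fin_two])
  | succ n ih => rw [pow_succ, ih, upS_mul]; congr 1; push_cast; ring

theorem upS_inv (t : F) : (upS t)⁻¹ = upS (-t) := by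
  refine inv_eq_of_mul_eq_one_right ?_
  rw [upS_mul, add_neg_cancel]
  exact Subtype.ext (by simp [upS, Matrix.one_fin_two])

theorem zmod_three_cases : ∀ z : ZMod 3, z = 0 ∨ z = 1 ∨ z = -1 := by decide

theorem alt_five_orders : ∀ x : alternatingGroup (Fin 5), x ^ 2 = 1 ∨ x ^ 3 = 1 ∨ x ^ 5 = 1 := by decide +kernel

/-- lifting translations from the projective group -/
theorem upS_mem_of_tr (p : ℕ) [Fact p.Prime] [CharP F p] {G : Subgroup (SpecialLinearGroup (Fin 2) F)} {t : F}
    (h : tr t ∈ G.map projS) : upS t ∈ G := by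
  obtain ⟨A, hA, hAt⟩ := h
  have h1 : slToG2 (A * upS (-t)) = 1 := by
    show projS (A * upS (-t)) = 1
    rw [map_mul, hAt, projS_upS, tr_mul, add_neg_cancel, tr_zero]
  have hA' : A = A * upS (-t) * upS t := by rw [← upS_inv, inv_mul_cancel_right]
  rcases slToG2_eq_one _ h1 with e | e
  · rw [show A * upS (-t) = 1 from Subtype.ext e, one_mul] at hA'
    exact hA' ▸ hA
  · obtain ⟨z, hz⟩ : ∃ z, z = A * upS (-t) := ⟨_, rfl⟩
    rw [← hz] at hA' e
    rcases (Fact.out : p.Prime).eq_two_or_odd' with hp | hp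
    · subst hp
      rw [show z = 1 from Subtype.ext (e.trans (by simp [CharTwo.neg_eq])), one_mul] at hA'
      exact hA' ▸ hA
    · have hc : Commute z (upS t) := Subtype.ext (by
        rw [Matrix.SpecialLinearGroup.coe_mul, Matrix.SpecialLinearGroup.coe_mul, e]; simp)
      have hzp : z ^ (p + 1) = 1 := Subtype.ext (by
        rw [Matrix.SpecialLinearGroup.coe_pow, e, hp.add_one.neg_one_pow]; rfl)
      have hAp : A ^ (p + 1) = upS t := by
        rw [hA', hc.mul_pow, hzp, one_mul, upS_pow, Nat.cast_add, CharP.cast_eq_zero, Nat.cast_one, zero_add, one_mul]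
      exact hAp ▸ pow_mem hA _

theorem pair_field (p : ℕ) [Fact p.Prime] [CharP F p] {G : Subgroup (SpecialLinearGroup (Fin 2) F)} (h1 : upS 1 ∈ G)
    {e : F} (he : e ≠ 0) (hlo : loS e ∈ G) (hbig : p = 2 → ∃ a, upS a ∈ G ∧ a ≠ 0 ∧ a ≠ 1) :
    (∃ K : Subfield F, e ∈ K ∧ ∀ t, upS t ∈ G ↔ t ∈ K) ∨
      (p = 3 ∧ e ^ 2 = -1 ∧ ∀ t, upS t ∈ G ↔ t = 0 ∨ t = 1 ∨ t = -1) := by
  classical
  haveI := finite_G2 (F := F)
  obtain ⟨H, hH⟩ : ∃ H, H = G.map projS := ⟨_, rfl⟩
  have hHtr : ∀ t, upS t ∈ G ↔ tr t ∈ H := fun t =>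
    ⟨fun ht => hH ▸ ⟨upS t, ht, projS_upS t⟩, fun ht => upS_mem_of_tr p (hH ▸ ht)⟩
  have hHlo : projS (loS e) ∈ H := hH ▸ ⟨_, hlo, rfl⟩
  have hup : ∀ n : ℕ, upS (n : F) ∈ G := fun n => by
    have := pow_mem h1 n
    rwa [upS_pow, mul_one] at this
  have hpow : ∀ t : F, tr t ^ p = 1 := fun t => by rw [tr_pow, CharP.cast_eq_zero F p, zero_mul, tr_zero]
  have hord : ∀ {t : F}, t ≠ 0 → orderOf (tr t) = p := fun {t} ht =>
    orderOf_eq_prime (hpow t) fun e' => ht (tr_injective (e'.trans tr_zero.symm))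
  have hnot : ∀ {a b : P2 (Kc F)}, GoodPair a b → ∀ {t : F}, t ≠ 0 → tr t ∉ pairFix a b := by
    intro a b hg t ht hm
    apply not_p_dvd_torus p hg
    have := orderOf_dvd_natCard (⟨tr t, hm⟩ : pairFix a b)
    rwa [Subgroup.orderOf_mk, hord ht] at this
  have hpH : p ∣ Nat.card H := by
    have := orderOf_dvd_natCard (⟨tr (1 : F), (hHtr 1).1 h1⟩ : H)
    rwa [Subgroup.orderOf_mk, hord one_ne_zero] at this
  have htrace : ∀ t, upS t ∈ G → ∀ (σ : G2 F) (F1 : Subfield F), conjG σ H ≤ pglSub F1 →
      (2 + t * e) * (2 + t * e) ∈ F1 := by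
    intro t ht σ F1 hle
    have hmem : σ * projS (upS t * loS e) * σ⁻¹ ∈ pglSub F1 := hle (mem_conjG.2 (by
      rw [show σ⁻¹ * (σ * projS (upS t * loS e) * σ⁻¹) * σ = projS (upS t * loS e) by group, hH]
      exact ⟨_, mul_mem ht hlo, rfl⟩))
    convert trace_sq_mem hmem using 1
    simp only [show ∀ i j, (upS t * loS e).1 i j = ((upS t).1 * (loS e).1) i j from fun _ _ => rfl]
    simp [upS, loS, Matrix.mul_apply, Fin.sum_univ_two]
    ring
  cases classify_finite p H with
  | borel x hx =>
    exfalso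
    have e1 := single_tr one_ne_zero x (hx _ ((hHtr 1).1 h1))
    have e2 := hx _ hHlo
    rw [e1, projS_loS_ip he] at e2
    exact fp_ne_ip _ e2
  | cyclic a b hg hle hne => exact absurd (hle ((hHtr 1).1 h1)) (hnot hg one_ne_zero)
  | dihedral a b hg hle hn hC =>
    exfalso
    have swap : ∀ {s t : F}, upS s ∈ G → upS t ∈ G → s ≠ 0 → t ≠ 0 → s + t ≠ 0 → False := by
      intro s t hs ht hs0 ht0 hst
      have := mul_mem_of_swap (hle ((hHtr s).1 hs)) (hnot hg hs0) (hle ((hHtr t).1 ht)) (hnot hg ht0)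
      rw [tr_mul] at this
      exact hnot hg hst this
    rcases (Fact.out : p.Prime).eq_two_or_odd' with hp | hp
    · subst hp
      obtain ⟨x, hx, hx0, hx1⟩ := hbig rfl
      exact swap h1 hx one_ne_zero hx0 (fun h => hx1 (CharTwo.add_eq_zero.1 h).symm)
    · refine swap h1 h1 one_ne_zero one_ne_zero fun h => ?_
      have h2 : ((2 : ℕ) : F) = 0 := by push_cast; linear_combination h
      have := Nat.le_of_dvd two_pos ((CharP.cast_eq_zero_iff F p 2).1 h2)
      have := (Fact.out : p.Prime).two_le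
      exact absurd hp (by interval_cases p; decide)
  | a4 hN h2 h3 _ =>
    exfalso
    rw [hN, show 12 = 2 ^ 2 * 3 by norm_num] at hpH
    rcases (Nat.Prime.dvd_mul Fact.out).1 hpH with h | h
    · exact h2 ((Nat.prime_dvd_prime_iff_eq Fact.out Nat.prime_two).1 ((Fact.out : p.Prime).dvd_of_dvd_pow h))
    · exact h3 ((Nat.prime_dvd_prime_iff_eq Fact.out Nat.prime_three).1 h)
  | s4 hN h2 h3 _ =>
    exfalso
    rw [hN, show 24 = 2 ^ 3 * 3 by norm_num] at hpH
    rcases (Nat.Prime.dvd_mul Fact.out).1 hpH with h | h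
    · exact h2 ((Nat.prime_dvd_prime_iff_eq Fact.out Nat.prime_two).1 ((Fact.out : p.Prime).dvd_of_dvd_pow h))
    · exact h3 ((Nat.prime_dvd_prime_iff_eq Fact.out Nat.prime_three).1 h)
  | a5 hN h2 h5 hiso =>
    have hp3 : p = 3 := by
      rw [hN, show 60 = 2 ^ 2 * 3 * 5 by norm_num] at hpH
      rcases (Nat.Prime.dvd_mul Fact.out).1 hpH with h | h
      · rcases (Nat.Prime.dvd_mul Fact.out).1 h with h | h
        · exact absurd ((Nat.prime_dvd_prime_iff_eq Fact.out Nat.prime_two).1
            ((Fact.out : p.Prime).dvd_of_dvd_pow h)) h2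
        · exact (Nat.prime_dvd_prime_iff_eq Fact.out Nat.prime_three).1 h
      · exact absurd ((Nat.prime_dvd_prime_iff_eq Fact.out (by norm_num)).1 h) h5
    subst hp3
    obtain ⟨iso⟩ := hiso
    have h30 : (3 : F) = 0 := by exact_mod_cast CharP.cast_eq_zero F 3
    -- only three translations
    have hT : ∀ t, upS t ∈ G → t = 0 ∨ t = 1 ∨ t = -1 := by
      intro t ht
      by_contra hcon
      push Not at hcon
      obtain ⟨ht0, ht1, ht2⟩ := hcon
      let f : Multiplicative (ZMod 3 × ZMod 3) →* G2 F :=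
        MonoidHom.mk' (fun x => tr (ZMod.castHom (dvd_refl 3) F (Multiplicative.toAdd x).1 +
          ZMod.castHom (dvd_refl 3) F (Multiplicative.toAdd x).2 * t)) fun x y => by
          rw [tr_mul, toAdd_mul, Prod.fst_add, Prod.snd_add, map_add, map_add]
          congr 1
          ring
      have hf : ∀ x, f x ∈ H := fun x => by
        refine (hHtr _).1 ?_
        show upS (_ + _ * t) ∈ G
        rw [← upS_mul]
        refine mul_mem ?_ ?_
        · rw [← ZMod.natCast_zmod_val (Multiplicative.toAdd x).1, map_natCast]; exact hup _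
        · rw [← ZMod.natCast_zmod_val (Multiplicative.toAdd x).2, map_natCast, ← upS_pow]
          exact pow_mem ht _
      have hinj : Function.Injective f := by
        refine (injective_iff_map_eq_one f).2 fun x hx => ?_
        have hz : ZMod.castHom (dvd_refl 3) F (Multiplicative.toAdd x).1 +
            ZMod.castHom (dvd_refl 3) F (Multiplicative.toAdd x).2 * t = 0 :=
          tr_injective (hx.trans tr_zero.symm)
        have hc : (Multiplicative.toAdd x).2 = 0 := by
          generalize (Multiplicative.toAdd x).1 = a at hz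
          generalize (Multiplicative.toAdd x).2 = b at hz ⊢
          by_contra hb
          obtain ⟨φ, hφ⟩ : ∃ φ : ZMod 3 →+* F, φ = ZMod.castHom (dvd_refl 3) F := ⟨_, rfl⟩
          rw [← hφ] at hz
          have hb' : φ b ≠ 0 := (map_ne_zero φ).2 hb
          have ht' : t = φ (-a * b⁻¹) := by
            rw [map_mul, map_neg, map_inv₀, ← div_eq_mul_inv, eq_div_iff hb']
            linear_combination hz
          rcases zmod_three_cases (-a * b⁻¹) with h | h | h <;> rw [h] at ht'
          · exact ht0 (by rw [ht', map_zero])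
          · exact ht1 (by rw [ht', map_one])
          · exact ht2 (by rw [ht', map_neg, map_one])
        rw [hc, map_zero, zero_mul, add_zero] at hz
        have ha : (Multiplicative.toAdd x).1 = 0 :=
          (ZMod.castHom (dvd_refl 3) F).injective (by rw [hz, map_zero])
        exact Multiplicative.toAdd.injective (Prod.ext ha hc)
      have h9 : Nat.card (Multiplicative (ZMod 3 × ZMod 3)) ∣ Nat.card H :=
        Subgroup.card_dvd_of_injective (f.codRestrict H hf) fun a b hab => hinj (congrArg Subtype.val hab :)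
      rw [hN, Nat.card_congr Multiplicative.toAdd, Nat.card_prod, Nat.card_zmod] at h9
      norm_num at h9
    have hT' : ∀ t, t = 0 ∨ t = 1 ∨ t = -1 → upS t ∈ G := by
      rintro t (rfl | rfl | rfl)
      · exact_mod_cast hup 0
      · exact h1
      · rw [← upS_inv]; exact inv_mem h1
    have hcase : ∀ s : F, loS s ∈ G → (2 + s = 0 ∨ (2 + s) ^ 2 = 1) ∨ (2 + s) ^ 4 + 1 = 0 := by
      intro s hs
      have hm : slToG2 (upS 1 * loS s) ∈ H := hH ▸ ⟨_, mul_mem h1 hs, rfl⟩
      have := slToG2_pow_cases (g := upS 1 * loS s) (by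
        have hx := alt_five_orders (iso ⟨_, hm⟩)
        simp only [← map_pow, map_eq_one_iff iso iso.injective] at hx
        exact hx.imp (fun h => congrArg Subtype.val h) (Or.imp (fun h => congrArg Subtype.val h)
          (fun h => congrArg Subtype.val h)))
      have ht2s : (upS 1 * loS s).1 0 0 + (upS 1 * loS s).1 1 1 = 2 + s := by
        rw [Matrix.SpecialLinearGroup.coe_mul]
        simp [upS, loS, Matrix.mul_apply, Fin.sum_univ_two]
        ring
      simp only [ht2s] at this
      rcases this with h | h | h | h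
      · exact Or.inl (Or.inl (by linear_combination h))
      · exact Or.inl (Or.inr (by linear_combination h))
      · exact Or.inl (Or.inr (by linear_combination h + h30))
      · exact Or.inr (by linear_combination h + (2 + s) ^ 2 * h30)
    have hfield : (e = 1 ∨ e = -1) → ∃ K : Subfield F, e ∈ K ∧ ∀ t, upS t ∈ G ↔ t ∈ K := by
      intro h
      refine ⟨(ZMod.castHom (dvd_refl 3) F).fieldRange, ?_, fun t => ⟨fun ht => ?_, ?_⟩⟩
      · rcases h with rfl | rfl
        · exact one_mem _
        · exact neg_mem (one_mem _)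
      · rcases hT t ht with rfl | rfl | rfl
        · exact zero_mem _
        · exact one_mem _
        · exact neg_mem (one_mem _)
      · rintro ⟨a, rfl⟩
        rw [← ZMod.natCast_zmod_val a, map_natCast]
        exact hup _
    have hsmall : ∀ s : F, s ≠ 0 → (2 + s = 0 ∨ (2 + s) ^ 2 = 1) → s = 1 ∨ s = -1 := by
      intro s hs h
      rcases h with h | h
      · exact Or.inl (by linear_combination h - h30)
      · have : s * (s + 1) = 0 := by linear_combination h - (s + 1) * h30
        exact Or.inr (eq_neg_of_add_eq_zero_left ((mul_eq_zero.1 this).resolve_left hs))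
    have hneg : loS (-e) ∈ G := by
      have hmul : loS e * loS (-e) = 1 := Subtype.ext (by
        rw [Matrix.SpecialLinearGroup.coe_mul, Matrix.SpecialLinearGroup.coe_one]
        simp [loS, Matrix.mul_fin_two, Matrix.one_fin_two])
      rw [← inv_eq_of_mul_eq_one_right hmul]
      exact inv_mem hlo
    rcases hcase e hlo with h | h
    · exact Or.inl (hfield (hsmall e he h))
    rcases hcase (-e) hneg with h' | h'
    · refine Or.inl (hfield ?_)
      rcases hsmall (-e) (neg_ne_zero.2 he) h' with h'' | h''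
      · exact Or.inr (by linear_combination -h'')
      · exact Or.inl (by linear_combination -h'')
    · have h0 : e * (e ^ 2 + 1) = 0 := by linear_combination h - h' - (5 * e ^ 3 + 21 * e) * h30
      exact Or.inr ⟨rfl, eq_neg_of_add_eq_zero_left ((mul_eq_zero.1 h0).resolve_left he),
        fun t => ⟨hT t, hT' t⟩⟩
  | subfield σ F1 h31 h =>
    have hle : conjG σ H ≤ pglSub F1 := by
      rcases h with h | ⟨-, h⟩ <;> rw [h]
      exact pslSub_le_pglSub F1
    have hge : pslSub F1 ≤ conjG σ H := by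
      rcases h with h | ⟨-, h⟩ <;> rw [h]
      exact pslSub_le_pglSub F1
    refine Or.inl ⟨F1, ?_⟩
    obtain ⟨n, -, hn⟩ := FiniteField.card F p
    have hsqrt : p = 2 → ∀ x : F, x * x ∈ F1 → x ∈ F1 := fun hp x hx => by
      subst hp
      have h := F1.pow_mem hx (2 ^ ((n : ℕ) - 1))
      rwa [← sq, ← pow_mul, ← pow_succ', Nat.sub_add_cancel n.pos, ← hn, FiniteField.pow_card] at h
    have hte : ∀ t, upS t ∈ G → t * e ∈ F1 := by
      intro t ht
      rcases (Fact.out : p.Prime).eq_two_or_odd' with hp | hp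
      · refine hsqrt hp _ ?_
        have h20 : (2 : F) = 0 := by subst hp; exact_mod_cast CharP.cast_eq_zero F 2
        have := htrace t ht σ F1 hle
        rwa [h20, zero_add] at this
      · have hu := htrace t ht σ F1 hle
        have hv := htrace (-t) (by rw [← upS_inv]; exact inv_mem ht) σ F1 hle
        have h2 : (2 : F) ≠ 0 := fun e2 => by
          have h2 : ((2 : ℕ) : F) = 0 := by exact_mod_cast e2
          have := Nat.le_of_dvd two_pos ((CharP.cast_eq_zero_iff F p 2).1 h2)
          have := (Fact.out : p.Prime).two_le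
          exact absurd hp (by interval_cases p; decide)
        have h8 : (2 : F) * 2 * 2 * (t * e) ∈ F1 := by
          convert F1.sub_mem hu hv using 1
          ring
        have := F1.div_mem h8 (F1.mul_mem (F1.mul_mem (ofNat_mem F1 2) (ofNat_mem F1 2)) (ofNat_mem F1 2))
        rwa [mul_div_cancel_left₀ _ (mul_ne_zero (mul_ne_zero h2 h2) h2)] at this
    have he1 : e ∈ F1 := by simpa using hte 1 h1
    have hsub : ∀ t, upS t ∈ G → t ∈ F1 := fun t ht => by
      have := F1.div_mem (hte t ht) he1
      rwa [mul_div_cancel_right₀ _ he] at this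
    -- a rational fixed point of a translation
    haveI : Fintype F1 := Fintype.ofFinite _
    haveI : CharP F1 p := (RingHom.charP_iff_charP F1.subtype p).2 inferInstance
    haveI := finite_G2 (F := F1)
    obtain ⟨B, hB⟩ : σ * tr 1 * σ⁻¹ ∈ pglSub F1 := hle (mem_conjG.2 (by
      rw [show σ⁻¹ * (σ * tr 1 * σ⁻¹) * σ = tr 1 by group]; exact (hHtr 1).1 h1))
    have hBp : IsPGroup p (Subgroup.zpowers B) := by
      refine IsPGroup.of_card (n := 1) ?_
      rw [Nat.card_zpowers, pow_one, ← orderOf_injective _ (mapG_injective F1.subtype) B, hB]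
      rw [show σ * tr 1 * σ⁻¹ = MulAut.conj σ (tr 1) from rfl, MulEquiv.orderOf_eq]
      exact hord one_ne_zero
    obtain ⟨x0, hx0⟩ : ∃ x0 : P2 F1, x0 ∈ MulAction.fixedPoints (Subgroup.zpowers B) (P2 F1) := by
      refine (hBp.nonempty_fixed_point_of_prime_not_dvd_card (P2 F1) ?_)
      rw [card_P2]
      obtain ⟨m, hm, hq⟩ := card_eq_pow (F := F1) p
      intro hd
      rw [hq, Nat.dvd_add_right (dvd_pow_self p (by omega))] at hd
      exact (Fact.out : p.Prime).not_dvd_one hd
    have hfix : B • x0 = x0 := hx0 ⟨B, Subgroup.mem_zpowers B⟩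
    have hip : σ⁻¹ • mapP F1.subtype x0 = (ip : P2 F) := by
      refine single_tr one_ne_zero _ ?_
      calc tr (1 : F) • σ⁻¹ • mapP F1.subtype x0 = σ⁻¹ • (σ * tr 1 * σ⁻¹) • mapP F1.subtype x0 := by
            rw [← mul_smul, ← mul_smul]; congr 1; group
        _ = _ := by rw [← hB, map_smul_pt, hfix]
    obtain ⟨τ, hτ, hτx⟩ := psl_transitive (ip : P2 F1) x0
    obtain ⟨c, hc⟩ : ∃ c : F1 → F, ∀ z, σ⁻¹ * mapG F1.subtype (τ * tr z * τ⁻¹) * σ = tr (c z) := by
      refine ⟨fun z => Classical.epsilon fun t => σ⁻¹ * mapG F1.subtype (τ * tr z * τ⁻¹) * σ = tr t, fun z =>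
        Classical.epsilon_spec (p := fun t => σ⁻¹ * mapG F1.subtype (τ * tr z * τ⁻¹) * σ = tr t) ?_⟩
      have h1' : (τ * tr z * τ⁻¹) • x0 = x0 := by
        rw [mul_smul, mul_smul, show τ⁻¹ • x0 = ip from inv_smul_eq_iff.2 hτx.symm, tr_ip, hτx]
      have hfixip : (σ⁻¹ * mapG F1.subtype (τ * tr z * τ⁻¹) * σ) • (ip : P2 F) = ip := by
        rw [mul_smul, mul_smul, show σ • (ip : P2 F) = mapP F1.subtype x0 by rw [← hip, smul_inv_smul], map_smul_pt,
          h1', hip]
      obtain ⟨t, u, htu⟩ := exists_of_fix_ip hfixip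
      refine ⟨t, ?_⟩
      have hp' : (σ⁻¹ * mapG F1.subtype (τ * tr z * τ⁻¹) * σ) ^ p = 1 := by
        rw [show σ⁻¹ * mapG F1.subtype (τ * tr z * τ⁻¹) * σ = MulAut.conj σ⁻¹ (mapG F1.subtype (MulAut.conj τ (tr z)))
          by simp, ← map_pow, ← map_pow, ← map_pow, tr_pow, CharP.cast_eq_zero F1 p, zero_mul, tr_zero, map_one,
          map_one, map_one]
      let g : MulAction.stabilizer (G2 F) (ip : P2 F) := ⟨_, hfixip⟩
      have hu : chi g = u := chi_spec htu
      have hgp : g ^ p = 1 := Subtype.ext hp'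
      have hu' : (u : F) ^ p = 1 := by
        rw [← hu, ← Units.val_pow_eq_pow_val, ← map_pow, hgp, map_one, Units.val_one]
      have hu1 : (u : F) = 1 := by
        have h0 : ((u : F) - 1) ^ p = 0 := by rw [sub_pow_char, hu', one_pow, sub_self]
        exact sub_eq_zero.1 (pow_eq_zero_iff (Fact.out : p.Prime).ne_zero |>.1 h0)
      rw [htu, show u = 1 from Units.ext hu1, di_one, mul_one]
    have hcG : ∀ z, upS (c z) ∈ G := fun z => (hHtr _).2 (by
      rw [← hc]
      refine mem_conjG.1 (hge ⟨τ * tr z * τ⁻¹, mul_mem (mul_mem hτ (tr_mem_psl z)) (inv_mem hτ), rfl⟩))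
    have hinj : Function.Injective fun z => (⟨c z, hsub _ (hcG z)⟩ : F1) := fun a b hab => by
      have h' : tr (c a) = tr (c b) := congrArg (fun y : F1 => tr (y : F)) hab
      rw [← hc, ← hc] at h'
      simp only [mul_left_inj, mul_right_inj] at h'
      have := mapG_injective F1.subtype h'
      simp only [mul_left_inj, mul_right_inj] at this
      exact tr_injective this
    refine ⟨he1, fun t => ⟨hsub t, fun ht => ?_⟩⟩
    obtain ⟨z, hz⟩ := (Finite.injective_iff_surjective.1 hinj) ⟨t, ht⟩
    have e1 : c z = t := congrArg Subtype.val hz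
    exact e1 ▸ hcG z

end CfsgLib.Perm.Trans.ThreeRes.Tv
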