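import Cfsg.Agent.Lib.Perm.Trans.ThreeRes.Tv.Conj

/-!
# Two axes at one centre: all transvections of the class are rational

In coordinates of a frame adapted to two axes and an opposite pair, all six elementary root groups over the root
field lie in the group, hence every member of the class is rational over that field and the class generates.
-/

set_option autoImplicit false
set_option linter.all false

namespace CfsgLib.Perm.Trans.ThreeRes.Tv

open scoped Matrix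
open Matrix Cfsg.Geo CfsgLib.Perm.Asch CfsgLib.Perm.Trans CfsgLib.Perm.Trans.ThreeDim

variable {F : Type*} [Field F]

local notation "δ₀" => (Pi.single 0 1 : Fin 3 → F)
local notation "δ₁" => (Pi.single 1 1 : Fin 3 → F)
local notation "δ₂" => (Pi.single 2 1 : Fin 3 → F)

/-- matrices over a subfield with inverse over it -/
def ratSub (K : Subfield F) : Subgroup (GL (Fin 3) F) where
  carrier := {g | (∀ i j, (g : Matrix (Fin 3) (Fin 3) F) i j ∈ K) ∧
    ∀ i j, ((g⁻¹ : GL (Fin 3) F) : Matrix (Fin 3) (Fin 3) F) i j ∈ K}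
  one_mem' := by
    have h : ∀ i j : Fin 3, (1 : Matrix (Fin 3) (Fin 3) F) i j ∈ K := fun i j => by
      rw [Matrix.one_apply]
      split_ifs
      exacts [K.one_mem, K.zero_mem]
    exact ⟨fun i j => by rw [Units.val_one]; exact h i j, fun i j => by rw [inv_one, Units.val_one]; exact h i j⟩
  mul_mem' := fun {a b} ha hb => ⟨fun i j => by
      rw [Units.val_mul, Matrix.mul_apply]
      exact K.sum_mem fun k _ => K.mul_mem (ha.1 i k) (hb.1 k j), fun i j => by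
      rw [_root_.mul_inv_rev, Units.val_mul, Matrix.mul_apply]
      exact K.sum_mem fun k _ => K.mul_mem (hb.2 i k) (ha.2 k j)⟩
  inv_mem' := fun {a} ha => ⟨ha.2, by rw [inv_inv]; exact ha.1⟩

theorem tv_mem_ratSub {K : Subfield F} {u φ : Fin 3 → F} (h : φ ⬝ᵥ u = 0) (he : ∀ i j, u i * φ j ∈ K) :
    tv u φ h ∈ ratSub K := by
  have h1 : ∀ i j : Fin 3, (1 : Matrix (Fin 3) (Fin 3) F) i j ∈ K := fun i j => by
    rw [Matrix.one_apply]
    split_ifs
    exacts [K.one_mem, K.zero_mem]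
  refine ⟨fun i j => ?_, fun i j => ?_⟩
  · rw [tv_coe, Matrix.add_apply, vecMulVec_apply]
    exact K.add_mem (h1 i j) (he i j)
  · show (1 - vecMulVec u φ) i j ∈ K
    rw [Matrix.sub_apply, vecMulVec_apply]
    exact K.sub_mem (h1 i j) (he i j)

variable {P : Subgroup (GL (Fin 3) F)} {K : Subfield F} {e a : F}

theorem nine_false (he : e ≠ 0) (hr : Root P δ₀ δ₁ K) (hm : Mem P δ₀ δ₁ δ₁ (e • δ₀))
    (ha : Mem P δ₀ δ₁ δ₀ (a • δ₁ + δ₂)) (hn : Nine P δ₀ δ₁ K) (hi : e ^ 2 = -1) : False := by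
  obtain ⟨h3, hs, -⟩ := hn
  obtain ⟨h01, hX⟩ := hr.base
  obtain ⟨h10, hY⟩ := hm.has hr.base
  obtain ⟨X, hXd⟩ : ∃ X, X = tv δ₀ δ₁ h01 := ⟨_, rfl⟩
  obtain ⟨Y, hYd⟩ : ∃ Y, Y = tv δ₁ (e • δ₀) h10 := ⟨_, rfl⟩
  rw [← hXd] at hX
  rw [← hYd] at hY
  have hM : ((X * Y : GL (Fin 3) F) : Matrix (Fin 3) (Fin 3) F) = !![1 + e, 1, 0; e, 1, 0; 0, 0, 1] := by
    rw [hXd, hYd, Units.val_mul, tv_coe, tv_coe]
    ext i j
    fin_cases i <;> fin_cases j <;> simp [Matrix.mul_apply, Fin.sum_univ_three, vecMulVec_apply, Pi.single_apply]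
  obtain ⟨M, hMd⟩ : ∃ M : Matrix (Fin 3) (Fin 3) F, M = !![1 + e, 1, 0; e, 1, 0; 0, 0, 1] := ⟨_, rfl⟩
  have h2 : M * M = !![0, 2 + e, 0; 2 * e + 2, e + 1, 0; 0, 0, 1] := by
    rw [hMd]
    ext i j
    fin_cases i <;> fin_cases j <;> simp [Matrix.mul_apply, Fin.sum_univ_three] <;>
      first | linear_combination hi + e * h3 | linear_combination hi - h3 | ring
  have h4 : M * M * (M * M) = !![2, 1, 0; e, 2 * e + 2, 0; 0, 0, 1] := by
    rw [h2]
    ext i j
    fin_cases i <;> fin_cases j <;> simp [Matrix.mul_apply, Fin.sum_univ_three] <;>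
      first
        | linear_combination 2 * hi + 2 * e * h3
        | linear_combination hi + e * h3
        | linear_combination 2 * hi + e * h3
        | linear_combination 3 * hi + 2 * e * h3
        | linear_combination hi + (e + 0) * h3
        | ring
  have h5 : ((X * Y) ^ 5 : GL (Fin 3) F).val = !![-1, 0, 0; 0, -1, 0; 0, 0, 1] := by
    rw [Units.val_pow_eq_pow_val, hM, ← hMd, show M ^ 5 = M * M * (M * M) * M by noncomm_ring, h4, hMd]
    ext i j
    fin_cases i <;> fin_cases j <;> simp [Matrix.mul_apply, Fin.sum_univ_three] <;>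
      first
        | linear_combination (1 + e) * h3
        | linear_combination (e + e ^ 2) * h3
        | linear_combination h3
        | linear_combination hi + (e + 1) * h3
        | linear_combination 3 * hi + (2 * e + 1) * h3
        | linear_combination 3 * hi + (e + 1) * h3
        | linear_combination (3 : F) * hi + e * h3
        | linear_combination hi + e * h3
        | linear_combination e * h3
        | ring
  obtain ⟨J, hJ⟩ : ∃ J, J = (X * Y) ^ 5 := ⟨_, rfl⟩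
  rw [← hJ] at h5
  have hJm : J ∈ P := hJ ▸ P.pow_mem (P.mul_mem hX hY) 5
  have hJi : J⁻¹ = J := inv_eq_of_mul_eq_one_right (Units.ext (by
    rw [Units.val_mul, h5, Units.val_one]
    ext i j
    fin_cases i <;> fin_cases j <;> simp [Matrix.mul_apply, Fin.sum_univ_three]))
  have hj := ((ha.conj hJm).scale (c := (-1 : F)) (by simp))
  rw [hJi, h5] at hj
  have hj' : Has P δ₀ (a • δ₁ - δ₂) := by
    have := hj.has hr.base
    convert this using 1
    · ext i; fin_cases i <;> simp [Matrix.mulVec, dotProduct, Fin.sum_univ_three, Pi.single_apply, Matrix.vecHead, Matrix.vecTail]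
    · ext i; fin_cases i <;> simp [Matrix.vecMul, dotProduct, Fin.sum_univ_three, Pi.single_apply, Matrix.vecHead, Matrix.vecTail]
  have h02 : Has P δ₀ δ₂ := by
    have := ((ha.has hr.base).add_right hj'.neg).neg
    convert this using 1
    ext i
    fin_cases i <;> simp <;> linear_combination h3
  have h12 : Has P δ₁ (e • δ₂) := by
    have := (hm.has hr.base).comm h02 (by simp)
    simpa using this
  have h02e : Has P δ₀ (e • δ₂) := by
    have := hr.base.comm h12 (by simp)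
    simpa using this
  rcases hs δ₀ δ₂ (by simp) (by simp) h02 e ((has_smul_iff _ _).2 h02e) with h | h | h
  · exact he h
  · exact one_ne_zero (α := F) (by rw [h] at hi; linear_combination h3 - hi)
  · exact one_ne_zero (α := F) (by rw [h] at hi; linear_combination h3 - hi)

theorem rat_std (hc : Core P) (hr : Root P δ₀ δ₁ K) (he : e ≠ 0) (hm : Mem P δ₀ δ₁ δ₁ (e • δ₀))
    (ha : Mem P δ₀ δ₁ δ₀ (a • δ₁ + δ₂)) (hn : Nine P δ₀ δ₁ K → e ^ 2 = -1) :
    P ≤ ratSub K ∧ (∀ c ∈ K, Has P δ₀ (c • δ₁)) ∧ ∀ c ∈ K, Has P δ₀ (c • δ₂) := by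
  classical
  have hK : ∀ c ∈ K, Has P (c • δ₀) δ₁ := hr.dich.resolve_right fun h => nine_false he hr hm ha h (hn h)
  have heK : e ∈ K := by simpa [pr] using hr.pr_mem _ _ _ _ Mem.refl hm
  have haK : a ∈ K := by
    have h := K.div_mem (show a * e ∈ K by simpa [pr] using hr.pr_mem _ _ _ _ ha hm) heK
    rwa [mul_div_cancel_right₀ _ he] at h
  have hT12 : ∀ c ∈ K, Has P δ₀ (c • δ₁) := fun c hc' => (has_smul_iff _ _).1 (hK c hc')
  have hT13 : ∀ c ∈ K, Has P δ₀ (c • δ₂) := fun c hc' => by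
    have h1 := (has_smul_iff _ _).1 ((ha.hsub_iff c).2 (hK c hc'))
    have h2 := h1.add_right (hT12 _ (K.neg_mem (K.mul_mem hc' haK)))
    convert h2 using 1
    ext i
    fin_cases i <;> simp
  have hT21 : ∀ c ∈ K, Has P δ₁ (c • δ₀) := fun c hc' => by
    have h1 := (has_smul_iff _ _).1 ((hm.hsub_iff (c / e)).2 (hK _ (K.div_mem hc' heK)))
    rwa [smul_smul, div_mul_cancel₀ _ he] at h1
  have hT23 : ∀ c ∈ K, Has P δ₁ (c • δ₂) := fun c hc' => by
    simpa using (hT21 1 K.one_mem).comm (hT13 c hc') (by simp)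
  have h21 : Has P δ₁ δ₀ := by simpa using hT21 1 K.one_mem
  -- products with the class
  have hA : ∀ c ∈ K, Mem P δ₀ δ₁ δ₀ (δ₁ + c • δ₂) := fun c hc' => by
    have h1 := (Mem.refl (P := P) (u₀ := δ₀) (φ₀ := δ₁)).tvconj (hT23 _ (K.neg_mem hc'))
    convert h1 using 1
    · ext i; fin_cases i <;> simp
    · ext i; fin_cases i <;> simp
  have hB : ∀ c ∈ K, Mem P δ₀ δ₁ δ₁ (e • (δ₀ + c • δ₂)) := fun c hc' => by
    have h1 := hm.tvconj (hT13 _ (K.neg_mem hc'))
    convert h1 using 1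
    · ext i; fin_cases i <;> simp
    · ext i; fin_cases i <;> simp
  have hprod : ∀ z ζ, Mem P δ₀ δ₁ z ζ →
      z 1 * ζ 0 ∈ K ∧ z 2 * ζ 0 ∈ K ∧ z 0 * ζ 1 ∈ K ∧ z 2 * ζ 1 ∈ K := by
    intro z ζ hz
    have a0 : z 1 * ζ 0 ∈ K := by simpa [pr] using hr.pr_mem _ _ _ _ (hA 0 K.zero_mem) hz
    have a1 : (z 1 + z 2) * ζ 0 ∈ K := by simpa [pr] using hr.pr_mem _ _ _ _ (hA 1 K.one_mem) hz
    have b0 : z 0 * ζ 1 ∈ K := by
      have h := K.div_mem (show e * z 0 * ζ 1 ∈ K by simpa [pr] using hr.pr_mem _ _ _ _ (hB 0 K.zero_mem) hz) heK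
      convert h using 1
      field_simp
    have b1 : (z 0 + z 2) * ζ 1 ∈ K := by
      have h := K.div_mem (show e * (z 0 + z 2) * ζ 1 ∈ K by
        simpa [pr, mul_add] using hr.pr_mem _ _ _ _ (hB 1 K.one_mem) hz) heK
      convert h using 1
      field_simp
    refine ⟨a0, ?_, b0, ?_⟩
    · convert K.sub_mem a1 a0 using 1; ring
    · convert K.sub_mem b1 b0 using 1; ring
  have horth : ∀ z ζ, Mem P δ₀ δ₁ z ζ → ζ 0 * z 0 + ζ 1 * z 1 + ζ 2 * z 2 = 0 := fun z ζ hz => by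
    have := (hz.has hr.base).orth
    rwa [dotProduct, Fin.sum_univ_three] at this
  -- rationality when a product with the third coordinate survives
  have hmain : ∀ z ζ, Mem P δ₀ δ₁ z ζ → z 2 * ζ 0 ≠ 0 ∨ z 2 * ζ 1 ≠ 0 → ∀ i j, z i * ζ j ∈ K := by
    intro z ζ hz hne
    obtain ⟨n10, n20, n01, n21⟩ := hprod z ζ hz
    have hd : z 1 * ζ 1 - z 0 * ζ 0 ∈ K := by
      have hc1 := (hprod _ _ (hz.tvconj hr.base)).2.2.1
      have : (z 0 + z 1) * (ζ 1 - ζ 0) ∈ K := by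
        convert hc1 using 1
        simp
      convert K.add_mem (K.sub_mem this n01) n10 using 1
      ring
    have hdiag : z 0 * ζ 0 ∈ K ∧ z 1 * ζ 1 ∈ K := by
      rcases hne with h | h
      · have h11 : z 1 * ζ 1 ∈ K := by
          convert K.div_mem (K.mul_mem n10 n21) n20 using 1
          field_simp [(mul_ne_zero_iff.1 h).1, (mul_ne_zero_iff.1 h).2]
        refine ⟨?_, h11⟩
        convert K.sub_mem h11 hd using 1
        ring
      · have h00 : z 0 * ζ 0 ∈ K := by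
          convert K.div_mem (K.mul_mem n01 n20) n21 using 1
          field_simp [(mul_ne_zero_iff.1 h).1, (mul_ne_zero_iff.1 h).2]
        refine ⟨h00, ?_⟩
        convert K.add_mem h00 hd using 1
        ring
    obtain ⟨h00, h11⟩ := hdiag
    have h22 : z 2 * ζ 2 ∈ K := by
      convert K.neg_mem (K.add_mem h00 h11) using 1
      linear_combination horth z ζ hz
    have hlast : z 0 * ζ 2 ∈ K ∧ z 1 * ζ 2 ∈ K := by
      rcases hne with h | h
      · constructor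
        · convert K.div_mem (K.mul_mem h00 h22) n20 using 1
          field_simp [(mul_ne_zero_iff.1 h).1, (mul_ne_zero_iff.1 h).2]
        · convert K.div_mem (K.mul_mem n10 h22) n20 using 1
          field_simp [(mul_ne_zero_iff.1 h).1, (mul_ne_zero_iff.1 h).2]
      · constructor
        · convert K.div_mem (K.mul_mem n01 h22) n21 using 1
          field_simp [(mul_ne_zero_iff.1 h).1, (mul_ne_zero_iff.1 h).2]
        · convert K.div_mem (K.mul_mem h11 h22) n21 using 1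
          field_simp [(mul_ne_zero_iff.1 h).1, (mul_ne_zero_iff.1 h).2]
    intro i j
    fin_cases i <;> fin_cases j
    exacts [h00, n01, hlast.1, n10, h11, hlast.2, n20, n21, h22]
  -- a member off the plane
  obtain ⟨z, ζ, hz, hne⟩ : ∃ z ζ, Mem P δ₀ δ₁ z ζ ∧ (z 2 * ζ 0 ≠ 0 ∨ z 2 * ζ 1 ≠ 0) := by
    obtain ⟨z, ζ, hz, hout⟩ := exists_centre (φ₀ := δ₁) hc hr.ne_u (W := LinearMap.ker (SingTv.fnl δ₂)) fun h => by
      have := LinearMap.mem_ker.1 (h ▸ Submodule.mem_top : δ₂ ∈ LinearMap.ker (SingTv.fnl (F := F) δ₂))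
      simp [SingTv.fnl] at this
    have hz2 : z 2 ≠ 0 := fun h => hout (LinearMap.mem_ker.2 (by simp [SingTv.fnl, h]))
    refine ⟨z, ζ, hz, ?_⟩
    by_contra h
    push Not at h
    have h0 := (mul_eq_zero.1 h.1).resolve_left hz2
    have h1 := (mul_eq_zero.1 h.2).resolve_left hz2
    have hh := horth z ζ hz
    rw [h0, h1, zero_mul, zero_mul, zero_add, zero_add] at hh
    refine (hz.ne_zero hr.ne_u hr.ne_φ).2 (funext fun i => ?_)
    fin_cases i
    exacts [h0, h1, (mul_eq_zero.1 hh).resolve_right hz2]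
  have hz2 : z 2 ≠ 0 := by rcases hne with h | h <;> exact (mul_ne_zero_iff.1 h).1
  obtain ⟨z', ζ', hz', hz'2, hz'K, hζK, hζne⟩ : ∃ z' ζ', Mem P δ₀ δ₁ z' ζ' ∧ z' 2 = 1 ∧ (∀ i, z' i ∈ K) ∧
      (∀ j, ζ' j ∈ K) ∧ (ζ' 0 ≠ 0 ∨ ζ' 1 ≠ 0) := by
    have hN := hmain z ζ hz hne
    refine ⟨_, _, hz.scale (inv_ne_zero hz2), by simp [hz2], fun i => ?_, fun j => ?_, ?_⟩
    · rcases hne with h | h
      · convert K.div_mem (hN i 0) (hN 2 0) using 1
        simp
        field_simp [(mul_ne_zero_iff.1 h).2]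
      · convert K.div_mem (hN i 1) (hN 2 1) using 1
        simp
        field_simp [(mul_ne_zero_iff.1 h).2]
    · simpa using hN 2 j
    · simpa [hz2] using hne
  have hm' := (hz'.tvconj (hT13 _ (K.neg_mem (hz'K 0)))).tvconj (hT23 _ (K.neg_mem (hz'K 1)))
  obtain ⟨χ, hχ, hmχ⟩ : ∃ χ : Fin 3 → F, χ = ![ζ' 0, ζ' 1, 0] ∧ Mem P δ₀ δ₁ δ₂ χ := by
    refine ⟨_, rfl, ?_⟩
    have ho := horth _ _ hz'
    rw [hz'2] at ho
    convert hm' using 1
    · ext i; fin_cases i <;> simp [hz'2]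
    · ext i
      fin_cases i <;> simp
      linear_combination -ho
  have hχ' : ∀ c ∈ K, Has P δ₂ (c • χ) := fun c hc' => (has_smul_iff _ _).1 ((hmχ.hsub_iff c).2 (hK c hc'))
  have hc0 : ∀ c ∈ K, Has P δ₂ ((c * ζ' 1) • δ₀) := fun c hc' => by
    simpa [hχ] using (hχ' c hc').comm h21 (by simp)
  have hc1 : ∀ c ∈ K, Has P δ₂ ((c * ζ' 0) • δ₁) := fun c hc' => by
    simpa [hχ] using (hχ' c hc').comm hr.base (by simp)
  have h3031 : Has P δ₂ δ₀ ∧ Has P δ₂ δ₁ := by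
    rcases hζne with h | h
    · have h1 : Has P δ₂ δ₁ := by simpa [inv_mul_cancel₀ h] using hc1 (ζ' 0)⁻¹ (K.inv_mem (hζK 0))
      exact ⟨by simpa using h1.comm h21 (by simp), h1⟩
    · have h1 : Has P δ₂ δ₀ := by simpa [inv_mul_cancel₀ h] using hc0 (ζ' 1)⁻¹ (K.inv_mem (hζK 1))
      exact ⟨h1, by simpa using h1.comm hr.base (by simp)⟩
  have hall : ∀ w ψ, Mem P δ₀ δ₁ w ψ → ∀ i j, w i * ψ j ∈ K := by
    intro w ψ hw
    by_cases hbad : w 2 * ψ 0 ≠ 0 ∨ w 2 * ψ 1 ≠ 0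
    · exact hmain w ψ hw hbad
    push Not at hbad
    have hw2 : w 2 = 0 := by
      by_contra h2
      have h0 := (mul_eq_zero.1 hbad.1).resolve_left h2
      have h1 := (mul_eq_zero.1 hbad.2).resolve_left h2
      have hh := horth w ψ hw
      rw [h0, h1, zero_mul, zero_mul, zero_add, zero_add] at hh
      refine (hw.ne_zero hr.ne_u hr.ne_φ).2 (funext fun i => ?_)
      fin_cases i
      exacts [h0, h1, (mul_eq_zero.1 hh).resolve_right h2]
    have hh := horth w ψ hw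
    rw [hw2, mul_zero, add_zero] at hh
    have hψne := (hw.ne_zero hr.ne_u hr.ne_φ).2
    rcases ne_or_eq (w 0) 0 with h0 | h0
    · obtain ⟨w', hw'd⟩ : ∃ w', w' = w + (δ₀ ⬝ᵥ w) • δ₂ := ⟨_, rfl⟩
      obtain ⟨ψ', hψ'd⟩ : ∃ ψ', ψ' = ψ - (ψ ⬝ᵥ δ₂) • δ₀ := ⟨_, rfl⟩
      have hmem : Mem P δ₀ δ₁ w' ψ' := by rw [hw'd, hψ'd]; exact hw.tvconj h3031.1
      have hv : w' 0 = w 0 ∧ w' 1 = w 1 ∧ w' 2 = w 0 ∧ ψ' 0 = ψ 0 - ψ 2 ∧ ψ' 1 = ψ 1 ∧ ψ' 2 = ψ 2 := by
        simp [hw'd, hψ'd, hw2]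
      obtain ⟨e0, e1, e2, f0, f1, f2⟩ := hv
      have hN := hmain w' ψ' hmem (by
        rw [e2, f0, f1]
        by_contra hcon
        push Not at hcon
        have a := sub_eq_zero.1 ((mul_eq_zero.1 hcon.1).resolve_left h0)
        have b := (mul_eq_zero.1 hcon.2).resolve_left h0
        rw [b, zero_mul, add_zero] at hh
        have c := (mul_eq_zero.1 hh).resolve_right h0
        refine hψne (funext fun i => ?_)
        fin_cases i
        exacts [c, b, a ▸ c])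
      intro i j
      have hw' : ∀ i, w i = w' i ∨ w i = 0 := fun i => by fin_cases i <;> simp [e0, e1, hw2]
      rcases hw' i with e | e <;> rw [e]
      · fin_cases j
        · show _ * ψ 0 ∈ K
          have h := K.add_mem (hN i 0) (hN i 2)
          rw [f0, f2] at h
          convert h using 1
          ring
        · show _ * ψ 1 ∈ K
          rw [← f1]; exact hN i 1
        · show _ * ψ 2 ∈ K
          rw [← f2]; exact hN i 2
      · rw [zero_mul]; exact K.zero_mem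
    · have h1 : w 1 ≠ 0 := fun h1 => (hw.ne_zero hr.ne_u hr.ne_φ).1 (funext fun i => by
        fin_cases i
        exacts [h0, h1, hw2])
      obtain ⟨w', hw'd⟩ : ∃ w', w' = w + (δ₁ ⬝ᵥ w) • δ₂ := ⟨_, rfl⟩
      obtain ⟨ψ', hψ'd⟩ : ∃ ψ', ψ' = ψ - (ψ ⬝ᵥ δ₂) • δ₁ := ⟨_, rfl⟩
      have hmem : Mem P δ₀ δ₁ w' ψ' := by rw [hw'd, hψ'd]; exact hw.tvconj h3031.2
      have hv : w' 0 = w 0 ∧ w' 1 = w 1 ∧ w' 2 = w 1 ∧ ψ' 0 = ψ 0 ∧ ψ' 1 = ψ 1 - ψ 2 ∧ ψ' 2 = ψ 2 := by
        simp [hw'd, hψ'd, hw2]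
      obtain ⟨e0, e1, e2, f0, f1, f2⟩ := hv
      have hN := hmain w' ψ' hmem (by
        rw [e2, f0, f1]
        by_contra hcon
        push Not at hcon
        have b := (mul_eq_zero.1 hcon.1).resolve_left h1
        have a := sub_eq_zero.1 ((mul_eq_zero.1 hcon.2).resolve_left h1)
        rw [b, zero_mul, zero_add] at hh
        have c := (mul_eq_zero.1 hh).resolve_right h1
        refine hψne (funext fun i => ?_)
        fin_cases i
        exacts [b, c, a ▸ c])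
      intro i j
      have hw' : ∀ i, w i = w' i ∨ w i = 0 := fun i => by fin_cases i <;> simp [e0, e1, hw2]
      rcases hw' i with e | e <;> rw [e]
      · fin_cases j
        · show _ * ψ 0 ∈ K
          rw [← f0]; exact hN i 0
        · show _ * ψ 1 ∈ K
          have h := K.add_mem (hN i 1) (hN i 2)
          rw [f1, f2] at h
          convert h using 1
          ring
        · show _ * ψ 2 ∈ K
          rw [← f2]; exact hN i 2
      · rw [zero_mul]; exact K.zero_mem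
  refine ⟨?_, hT12, hT13⟩
  obtain ⟨h01, hX⟩ := hr.base
  refine hc.nc _ hX (tv_not_scalar hr.ne_u hr.ne_φ h01) _ fun g hg => ?_
  have hmg := (Mem.refl (P := P) (u₀ := δ₀) (φ₀ := δ₁)).conj hg
  obtain ⟨hg0, hgm⟩ := hmg.has hr.base
  rw [show g * tv δ₀ δ₁ h01 * g⁻¹ = tv _ _ hg0 from gl_ext_vec fun x => by
    rw [gl_mul_mulVec, gl_mul_mulVec, tv_mulVec, tv_mulVec, mulVec_add, gl_mulVec_inv, mulVec_smul,
      ← dotProduct_mulVec]]
  exact tv_mem_ratSub _ (hall _ _ hmg)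

/-- two axes at one centre: a frame in which the group is rational, with two full root groups at one centre -/
theorem rat_of_twoAx {u₀ φ₀ : Fin 3 → F} (hc : Core P) (hr : Root P u₀ φ₀ K) (h2 : TwoAx P u₀ φ₀) :
    ∃ T : GL (Fin 3) F, (∀ g ∈ P, ∀ i j,
      ((T⁻¹ : GL (Fin 3) F) * g * T : Matrix (Fin 3) (Fin 3) F) i j ∈ K) ∧
      ∃ u φ ψ : Fin 3 → F, u ≠ 0 ∧ LinearIndependent F ![φ, ψ] ∧
        (∀ c ∈ K, Has P u (c • φ)) ∧ ∀ c ∈ K, Has P u (c • ψ) := by
  classical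
  obtain ⟨w, χ, hm, he, hnine⟩ : ∃ w χ, Mem P u₀ φ₀ w χ ∧ pr u₀ φ₀ w χ ≠ 0 ∧
      (Nine P u₀ φ₀ K → pr u₀ φ₀ w χ ^ 2 = -1) := by
    by_cases hn : Nine P u₀ φ₀ K
    · obtain ⟨-, -, i, hi, -, w, χ, hm, he⟩ := hn
      exact ⟨w, χ, hm, fun h => by rw [← he, h] at hi; simp at hi, fun _ => he ▸ hi⟩
    · obtain ⟨w, χ, hm, he⟩ := exists_partner hc hr.ne_u hr.ne_φ hr.base
      exact ⟨w, χ, hm, he, fun h => absurd h hn⟩
  obtain ⟨ψ, hψ, hind⟩ := h2
  have hw : φ₀ ⬝ᵥ w ≠ 0 := fun e => he (by rw [pr, e, zero_mul])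
  have hχu : χ ⬝ᵥ u₀ ≠ 0 := fun e => he (by rw [pr, e, mul_zero])
  obtain ⟨x, hx, hx1, hx2⟩ : ∃ x : Fin 3 → F, x ≠ 0 ∧ φ₀ ⬝ᵥ x = 0 ∧ χ ⬝ᵥ x = 0 := by
    let L : (Fin 3 → F) →ₗ[F] (Fin 2 → F) :=
      { toFun := fun x => ![φ₀ ⬝ᵥ x, χ ⬝ᵥ x]
        map_add' := fun x y => by funext i; fin_cases i <;> simp [dotProduct_add]
        map_smul' := fun c x => by funext i; fin_cases i <;> simp [dotProduct_smul] }
    have h2 := LinearMap.finrank_range_add_finrank_ker L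
    have h3 : Module.finrank F (LinearMap.range L) ≤ Module.finrank F (Fin 2 → F) := Submodule.finrank_le _
    rw [Module.finrank_fin_fun] at h2 h3
    obtain ⟨v, hv, hv0⟩ := Submodule.exists_mem_ne_zero_of_ne_bot
      (show LinearMap.ker L ≠ ⊥ from fun e => by rw [e, finrank_bot] at h2; omega)
    have hL : L v = 0 := LinearMap.mem_ker.1 hv
    exact ⟨v, hv0, by simpa [L] using congrFun hL 0, by simpa [L] using congrFun hL 1⟩
  obtain ⟨e2, he2⟩ : ∃ e2, e2 = (φ₀ ⬝ᵥ w)⁻¹ • w := ⟨_, rfl⟩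
  have hφ2 : φ₀ ⬝ᵥ e2 = 1 := by rw [he2, dotProduct_smul, smul_eq_mul, inv_mul_cancel₀ hw]
  have hχ2 : χ ⬝ᵥ e2 = 0 := by rw [he2, dotProduct_smul, (hm.has hr.base).orth, smul_zero]
  obtain ⟨A, hA⟩ : ∃ A : Matrix (Fin 3) (Fin 3) F, A = (Matrix.of ![u₀, e2, x])ᵀ := ⟨_, rfl⟩
  have hAv : ∀ v : Fin 3 → F, A *ᵥ v = v 0 • u₀ + v 1 • e2 + v 2 • x := fun v => by
    ext i
    simp [hA, Matrix.mulVec, dotProduct, Fin.sum_univ_three, mul_comm]
  have hdet : A.det ≠ 0 := fun h0 => by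
    obtain ⟨v, hv0, hv⟩ := Matrix.exists_mulVec_eq_zero_iff.2 h0
    rw [hAv] at hv
    have h1 := congrArg (fun y => φ₀ ⬝ᵥ y) hv
    simp only [dotProduct_add, dotProduct_smul, smul_eq_mul, hr.base.orth, hφ2, hx1, mul_zero, mul_one, zero_add,
      add_zero, dotProduct_zero] at h1
    have h2 := congrArg (fun y => χ ⬝ᵥ y) hv
    simp only [dotProduct_add, dotProduct_smul, smul_eq_mul, hχ2, hx2, mul_zero, add_zero, dotProduct_zero] at h2
    have h0' := (mul_eq_zero.1 h2).resolve_right hχu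
    rw [h0', h1, zero_smul, zero_smul, zero_add, zero_add] at hv
    exact hv0 (funext fun i => by
      fin_cases i
      exacts [h0', h1, (smul_eq_zero.1 hv).resolve_right hx])
  obtain ⟨b, hb⟩ : ∃ b, b = ψ ⬝ᵥ x := ⟨_, rfl⟩
  have hψu : ψ ⬝ᵥ u₀ = 0 := (hψ.has hr.base).orth
  have hb0 : b ≠ 0 := fun h => hind (ψ ⬝ᵥ e2) (by
    refine funext fun i => ?_
    obtain ⟨v, hv⟩ : ∃ v, A *ᵥ v = Pi.single i 1 := ⟨A⁻¹ *ᵥ Pi.single i 1, by
      rw [Matrix.mulVec_mulVec, Matrix.mul_nonsing_inv _ (isUnit_iff_ne_zero.2 hdet), Matrix.one_mulVec]⟩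
    have e1 := congrArg (fun y => ψ ⬝ᵥ y) hv
    have e2' := congrArg (fun y => φ₀ ⬝ᵥ y) hv
    simp only [hAv, dotProduct_add, dotProduct_smul, smul_eq_mul, hψu, ← hb, h, hr.base.orth, hφ2, hx1, mul_zero,
      mul_one, zero_add, add_zero, dotProduct_single_one] at e1 e2'
    rw [Pi.smul_apply, smul_eq_mul, ← e1, ← e2', mul_comm])
  have hdet' : ((Matrix.of ![u₀, e2, b⁻¹ • x])ᵀ).det ≠ 0 := fun h0 => by
    obtain ⟨v, hv0, hv⟩ := Matrix.exists_mulVec_eq_zero_iff.2 h0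
    refine hdet (Matrix.exists_mulVec_eq_zero_iff.1 ⟨![v 0, v 1, v 2 * b⁻¹], fun e => hv0 ?_, ?_⟩)
    · funext i
      fin_cases i
      · simpa using congrFun e 0
      · simpa using congrFun e 1
      · have := congrFun e 2
        simp [hb0] at this
        exact this
    · rw [hAv, ← hv]
      ext i
      simp [Matrix.mulVec, dotProduct, Fin.sum_univ_three]
      ring
  obtain ⟨T, hT⟩ : ∃ T : GL (Fin 3) F, (T : Matrix (Fin 3) (Fin 3) F) = (Matrix.of ![u₀, e2, b⁻¹ • x])ᵀ :=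
    ⟨Matrix.GeneralLinearGroup.mkOfDetNeZero _ hdet', rfl⟩
  have hcol : ∀ j, (T : Matrix (Fin 3) (Fin 3) F) *ᵥ Pi.single j 1 = ![u₀, e2, b⁻¹ • x] j := fun j => by
    rw [hT, mulVec_single_one]; ext i; simp
  have hrow : ∀ η : Fin 3 → F,
      η ᵥ* (T : Matrix (Fin 3) (Fin 3) F) = ![η ⬝ᵥ u₀, η ⬝ᵥ e2, η ⬝ᵥ (b⁻¹ • x)] := fun η => by
    funext j
    rw [hT]
    fin_cases j <;> simp [Matrix.vecMul, dotProduct]
  have hinv : ∀ j, ((T⁻¹ : GL (Fin 3) F) : Matrix (Fin 3) (Fin 3) F) *ᵥ ![u₀, e2, b⁻¹ • x] j = Pi.single j 1 :=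
    fun j => by rw [← hcol, gl_inv_mulVec]
  have hu' : ((T⁻¹ : GL (Fin 3) F) : Matrix (Fin 3) (Fin 3) F) *ᵥ u₀ = δ₀ := hinv 0
  have hφ' : φ₀ ᵥ* (T : Matrix (Fin 3) (Fin 3) F) = δ₁ := by
    rw [hrow]; funext j; fin_cases j <;> simp [hr.base.orth, hφ2, dotProduct_smul, hx1]
  have hr' := hr.cjg T
  rw [hu', hφ'] at hr'
  have hm1 := (hm.scale (inv_ne_zero hw)).cjg T
  rw [hu', hφ', ← he2, inv_inv, show ((T⁻¹ : GL (Fin 3) F) : Matrix (Fin 3) (Fin 3) F) *ᵥ e2 = δ₁ from hinv 1] at hm1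
  have hm2 : Mem (cjg T P) δ₀ δ₁ δ₁ (pr u₀ φ₀ w χ • δ₀) := by
    convert hm1 using 1
    rw [hrow]
    funext j
    fin_cases j <;> simp [pr, smul_dotProduct, dotProduct_smul, hχ2, hx2]
  have ha := hψ.cjg T
  rw [hu', hφ'] at ha
  have ha2 : Mem (cjg T P) δ₀ δ₁ δ₀ ((ψ ⬝ᵥ e2) • δ₁ + δ₂) := by
    convert ha using 1
    rw [hrow]
    funext j
    fin_cases j <;> simp [hψu, dotProduct_smul, ← hb, hb0]
  obtain ⟨hle, h12, h13⟩ := rat_std (hc.cjg T) hr' he hm2 ha2 (fun hn => by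
    refine hnine ?_
    have hb' := hr.dich
    rcases hb' with hfull | hn'
    · exfalso
      obtain ⟨h3, hs, i, hi, -, w', ψ', hmw, hei⟩ := hn
      have hiK : i ∈ K := hei ▸ hr'.pr_mem _ _ _ _ Mem.refl hmw
      have := hfull i hiK
      have h' : Has (cjg T P) (i • δ₀) δ₁ := by
        rw [← hu', ← hφ', ← mulVec_smul]
        exact has_cjg.2 this
      rcases hs δ₀ δ₁ (by simp) (by simp) hr'.base i h' with h | h | h
      · rw [h] at hi; simp at hi
      · exact one_ne_zero (α := F) (by rw [h] at hi; linear_combination h3 - hi)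
      · exact one_ne_zero (α := F) (by rw [h] at hi; linear_combination h3 - hi)
    · exact hn')
  refine ⟨T, fun g hg i j => ?_, u₀, φ₀, (δ₂ : Fin 3 → F) ᵥ* ((T⁻¹ : GL (Fin 3) F) : Matrix (Fin 3) (Fin 3) F),
    hr.ne_u, ?_, fun c hc' => ?_, fun c hc' => ?_⟩
  · have hgm : T⁻¹ * g * T ∈ cjg T P := mem_cjg.2 (by rwa [show T * (T⁻¹ * g * T) * T⁻¹ = g by group])
    have := (hle hgm).1 i j
    rwa [Units.val_mul, Units.val_mul] at this
  · refine (LinearIndependent.pair_iff' hr.ne_φ).2 fun c hc' => ?_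
    have := congrArg (fun v => v ᵥ* (T : Matrix (Fin 3) (Fin 3) F)) hc'
    simp only [smul_vecMul, vecMul_vecMul, Units.inv_mul, vecMul_one, hφ'] at this
    simpa using congrFun this 2
  · rw [← has_cjg (T := T), hu', smul_vecMul, hφ']
    exact h12 c hc'
  · rw [← has_cjg (T := T), hu', smul_vecMul, vecMul_vecMul, Units.inv_mul, vecMul_one]
    exact h13 c hc'

end CfsgLib.Perm.Trans.ThreeRes.Tv
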