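import Cfsg.Agent.Lib.Perm.Trans.ThreeRes.Tv.Single
import Cfsg.Agent.Lib.Perm.Trans.ThreeRes.Tv.CaseA
import Cfsg.Agent.Lib.Perm.Trans.Herm
import Cfsg.Agent.Lib.Perm.Trans.Unit

/-!
# Centres and axes in bijection: the hermitian form

With the zero rule the class lies over the quadratic extension of the root field and fixes a hermitian form written
down from one triangle.
-/

set_option autoImplicit false
set_option linter.all false

namespace CfsgLib.Perm.Trans.ThreeRes.Tv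

open scoped Matrix
open Matrix Cfsg.Geo CfsgLib.Perm.Asch CfsgLib.Perm.Trans CfsgLib.Perm.Trans.ThreeDim CfsgLib.Perm.Trans.Unit

variable {F : Type*} [Field F] {P : Subgroup (GL (Fin 3) F)} {u₀ φ₀ : Fin 3 → F} {K : Subfield F}

local notation "δ₀" => (Pi.single 0 1 : Fin 3 → F)
local notation "δ₁" => (Pi.single 1 1 : Fin 3 → F)
local notation "δ₂" => (Pi.single 2 1 : Fin 3 → F)

theorem Single.cjg (hS : Single P u₀ φ₀) (T : GL (Fin 3) F) :
    Single (Tv.cjg T P) (((T⁻¹ : GL (Fin 3) F) : Matrix (Fin 3) (Fin 3) F) *ᵥ u₀)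
      (φ₀ ᵥ* (T : Matrix (Fin 3) (Fin 3) F)) := by
  refine ⟨?_, ?_⟩
  · rintro ⟨ψ, hψ, hne⟩
    have h := hψ.of_cjg
    rw [gl_mulVec_inv] at h
    refine hS.1 ⟨_, h, fun c hc => hne c ?_⟩
    have := congrArg (fun v => v ᵥ* (T : Matrix (Fin 3) (Fin 3) F)) hc
    simpa only [vecMul_vecMul, Units.inv_mul, vecMul_one, smul_vecMul] using this
  · rintro ⟨w, hw, hne⟩
    have h := (mem_dual.1 hw).of_cjg
    rw [vecMul_vecMul, Units.mul_inv, vecMul_one] at h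
    refine hS.2 ⟨_, mem_dual.2 h, fun c hc => hne c ?_⟩
    have := congrArg (fun v => ((T⁻¹ : GL (Fin 3) F) : Matrix (Fin 3) (Fin 3) F) *ᵥ v) hc
    simpa only [gl_inv_mulVec, mulVec_smul] using this

theorem Single.same (hS : Single P u₀ φ₀) (hr : Root P u₀ φ₀ K) {u φ ψ : Fin 3 → F} (h : Mem P u₀ φ₀ u φ)
    (h' : Mem P u₀ φ₀ u ψ) : ∃ k ∈ K, k ≠ 0 ∧ ψ = k • φ := by
  obtain ⟨k, hk⟩ : ∃ k : F, ψ = k • φ := by
    by_contra hcon
    push Not at hcon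
    exact hS.1 (twoAx_of (c := 1) h (by rwa [one_smul]) one_ne_zero hcon)
  have hk0 : k ≠ 0 := fun e => (h'.ne_zero hr.ne_u hr.ne_φ).2 (by rw [hk, e, zero_smul])
  refine ⟨k, hr.sub k ((h.hsub_iff k).1 ((has_smul_iff u φ).2 ?_)), hk0, hk⟩
  rw [← hk]
  exact h'.has hr.base

theorem Single.cycle (hS : Single P u₀ φ₀) (hr : Root P u₀ φ₀ K) (hfull : ∀ a ∈ K, Has P (a • u₀) φ₀) (s : F →+* F)
    (hsK : ∀ x, s x = x ↔ x ∈ K) {u₁ φ₁ u₂ φ₂ u₃ φ₃ : Fin 3 → F}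
    (h₁ : Mem P u₀ φ₀ u₁ φ₁) (h₂ : Mem P u₀ φ₀ u₂ φ₂) (h₃ : Mem P u₀ φ₀ u₃ φ₃)
    (h12 : ∀ a : F, u₂ ≠ a • u₁) (hind : ∀ a b : F, u₃ ≠ a • u₁ + b • u₂) :
    (φ₁ ⬝ᵥ u₂) * (φ₂ ⬝ᵥ u₃) * (φ₃ ⬝ᵥ u₁) ∉ K ∧
      s ((φ₁ ⬝ᵥ u₂) * (φ₂ ⬝ᵥ u₃) * (φ₃ ⬝ᵥ u₁)) = -((φ₁ ⬝ᵥ u₃) * (φ₃ ⬝ᵥ u₂) * (φ₂ ⬝ᵥ u₁)) := by
  obtain ⟨o12, o21⟩ := hS.opp hr h₁ h₂ h12
  obtain ⟨o13, o31⟩ := hS.opp hr h₁ h₃ fun a h => hind a 0 (by simp [h])
  obtain ⟨o23, o32⟩ := hS.opp hr h₂ h₃ fun a h => hind 0 a (by simp [h])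
  have k12 := hr.pr_mem _ _ _ _ h₁ h₂
  have k13 := hr.pr_mem _ _ _ _ h₁ h₃
  have k23 := hr.pr_mem _ _ _ _ h₂ h₃
  unfold pr at k12 k13 k23
  obtain ⟨d, hd⟩ : ∃ d, d = (φ₁ ⬝ᵥ u₂) * (φ₂ ⬝ᵥ u₃) * (φ₃ ⬝ᵥ u₁) := ⟨_, rfl⟩
  obtain ⟨d', hd'⟩ : ∃ d', d' = (φ₁ ⬝ᵥ u₃) * (φ₃ ⬝ᵥ u₂) * (φ₂ ⬝ᵥ u₁) := ⟨_, rfl⟩
  rw [← hd, ← hd']
  have hδ : d - d' ∈ K := by
    have h := (hS.zero_rule hr h₁ h₂ h₃ hind ((h₁.hsub_iff 1).2 (hfull 1 K.one_mem))).1
    convert K.add_mem (K.sub_mem h k23) (K.mul_mem k12 k13) using 1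
    rw [hd, hd']
    ring
  have hdd : d * d' ∈ K := by
    convert K.mul_mem (K.mul_mem k12 k13) k23 using 1
    rw [hd, hd']
    ring
  have hnot : d ∉ K := fun hK => by
    have hd0 : d ≠ 0 := by rw [hd]; exact mul_ne_zero (mul_ne_zero o12 o23) o31
    refine (hS.zero_rule hr h₁ h₂ h₃ hind ((h₁.hsub_iff _).2 (hfull (-((φ₂ ⬝ᵥ u₃) * (φ₃ ⬝ᵥ u₂)) / d)
      (K.div_mem (K.neg_mem k23) hK)))).2.1 ?_
    rw [hd]
    field_simp
    ring
  refine ⟨hnot, ?_⟩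
  have h1 := (hsK _).2 hδ
  have h2 := (hsK _).2 hdd
  rw [map_sub] at h1
  rw [map_mul] at h2
  have : (s d - d) * (s d + d') = 0 := by linear_combination (s d) * h1 + h2
  rcases mul_eq_zero.1 this with h | h
  · exact absurd ((hsK d).1 (sub_eq_zero.1 h)) hnot
  · exact eq_neg_of_add_eq_zero_left h

theorem herm_std [Fintype F] {a b c g : F} (hc : Core P) (hr : Root P δ₀ ![0, a, b] K) (hS : Single P δ₀ ![0, a, b])
    (hfull : ∀ x ∈ K, Has P (x • δ₀) ![0, a, b]) (s : F →+* F) (hsK : ∀ x, s x = x ↔ x ∈ K)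
    (hB : Mem P δ₀ ![0, a, b] δ₁ ![1, 0, c]) (hC : Mem P δ₀ ![0, a, b] δ₂ ![1, g, 0]) (E : Subfield F)
    (hE : ∀ x, x ∈ E ↔ s (s x) = x) :
    P ≤ ratSub E ∧ (E = ⊤ → ∃ (σ : F ≃+* F) (f : (Fin 3 → F) → (Fin 3 → F) → F), IsUnitaryForm σ f ∧ P ≤ isoU f) := by
  classical
  have hA : Mem P δ₀ ![0, a, b] δ₀ ![0, a, b] := Mem.refl
  have haK : a ∈ K := by simpa [pr] using hr.pr_mem _ _ _ _ hA hB
  have hbK : b ∈ K := by simpa [pr] using hr.pr_mem _ _ _ _ hA hC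
  have ha0 : a ≠ 0 := by
    simpa using (hS.opp hr hA hB fun x h => by simpa using congrFun h 1).1
  have hb0 : b ≠ 0 := by
    simpa using (hS.opp hr hA hC fun x h => by simpa using congrFun h 2).1
  obtain ⟨hc0, hg0⟩ : c ≠ 0 ∧ g ≠ 0 := by
    simpa using hS.opp hr hB hC fun x h => by simpa using congrFun h 2
  obtain ⟨hdK, hsd⟩ := hS.cycle hr hfull s hsK hA hB hC (fun x h => by simpa using congrFun h 1)
    (fun x y h => by simpa using congrFun h 2)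
  simp at hdK hsd
  rw [← map_mul] at hsd
  have hsa : s a = a := (hsK a).2 haK
  have hsb : s b = b := (hsK b).2 hbK
  obtain ⟨D, hD⟩ : ∃ D, D = a * c + b * g := ⟨_, rfl⟩
  have hsc : a * s c = -(b * g) := by rw [← hsa, ← map_mul, hsd]
  have hssd : s (s (a * c)) = a * c := by
    have hk : s (a * c * (b * g)) = a * c * (b * g) := by
      have h23 : c * g ∈ K := by simpa [pr] using hr.pr_mem _ _ _ _ hB hC
      refine (hsK _).2 ?_
      convert K.mul_mem (K.mul_mem haK hbK) h23 using 1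
      ring
    rw [map_mul, hsd] at hk
    have hbg : b * g ≠ 0 := mul_ne_zero hb0 hg0
    have : s (b * g) = -(a * c) := mul_left_cancel₀ hbg (by linear_combination -hk)
    rw [hsd, map_neg, this, neg_neg]
  have hsg : b * s g = -(a * c) := by
    rw [← hsb, ← map_mul, show b * g = -s (a * c) by rw [hsd, neg_neg], map_neg, hssd]
  have hsD : s D = -D := by rw [hD, map_add, map_mul, map_mul, hsa, hsb, hsc, hsg]; ring
  have hD0 : D ≠ 0 := fun h => hdK ((hsK _).1 (by rw [hsd]; linear_combination h.symm.trans hD))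
  have hEK : ∀ x ∈ K, x ∈ E := fun x hx => (hE x).2 (by rw [(hsK x).2 hx, (hsK x).2 hx])
  have hEs : ∀ x ∈ E, s x ∈ E := fun x hx => (hE _).2 (by rw [(hE x).1 hx])
  have hcE : c ∈ E := by
    have := E.div_mem ((hE _).2 hssd) (hEK a haK)
    rwa [mul_div_cancel_left₀ _ ha0] at this
  have hgE : g ∈ E := by
    have h : b * g = -(a * s c) := by rw [hsc, neg_neg]
    have := E.div_mem (h ▸ E.neg_mem (E.mul_mem (hEK a haK) (hEs c hcE)) : b * g ∈ E) (hEK b hbK)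
    rwa [mul_div_cancel_left₀ _ hb0] at this
  have hDE : D ∈ E := hD ▸ E.add_mem (E.mul_mem (hEK a haK) hcE) (E.mul_mem (hEK b hbK) hgE)
  obtain ⟨H, hH⟩ : ∃ H : (Fin 3 → F) → (Fin 3 → F) → F, ∀ x y, H x y =
      D * (x 0 * (-a * s (y 1) - b * s (y 2)) + x 1 * (a * s (y 0) - b * g * s (y 2)) +
        x 2 * (b * s (y 0) - a * c * s (y 1))) := ⟨_, fun x y => rfl⟩
  -- the normalised members
  have hnorm : ∀ v φ, Mem P δ₀ ![0, a, b] v φ → ∃ v' φ' : Fin 3 → F, ∃ l : F, l ≠ 0 ∧ v' = l • v ∧ φ' = l⁻¹ • φ ∧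
      (∀ i, v' i ∈ E) ∧ (∀ i, φ' i ∈ E) ∧ ∃ m, s m = -m ∧ ∀ x, φ' ⬝ᵥ x = m * H x v' := by
    intro v φ hv
    obtain ⟨hv0, hφ0⟩ := hv.ne_zero hr.ne_u hr.ne_φ
    have hone : ∀ (i : Fin 3) (B : Fin 3 → F) (m : F), Mem P δ₀ ![0, a, b] (Pi.single i 1) B → (∀ j, B j ∈ E) →
        s m = -m → (∀ x, B ⬝ᵥ x = m * H x (Pi.single i 1)) → ∀ t : F, v = t • Pi.single i 1 →
        ∃ v' φ' : Fin 3 → F, ∃ l : F, l ≠ 0 ∧ v' = l • v ∧ φ' = l⁻¹ • φ ∧
          (∀ i, v' i ∈ E) ∧ (∀ i, φ' i ∈ E) ∧ ∃ m, s m = -m ∧ ∀ x, φ' ⬝ᵥ x = m * H x v' := by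
      intro i B m hi hBE hm hform t ht
      have ht0 : t ≠ 0 := fun e => hv0 (by rw [ht, e, zero_smul])
      have hv' := hv.scale (inv_ne_zero ht0)
      rw [ht, smul_smul, inv_mul_cancel₀ ht0, one_smul, inv_inv] at hv'
      obtain ⟨k, hk, hk0, hkφ⟩ := hS.same hr hi hv'
      refine ⟨Pi.single i 1, k • B, t⁻¹, inv_ne_zero ht0, ?_, ?_, fun j => ?_, fun j => ?_, k * m, ?_, fun x => ?_⟩
      · rw [ht, smul_smul, inv_mul_cancel₀ ht0, one_smul]
      · rw [inv_inv, hkφ]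
      · rw [Pi.single_apply]
        split_ifs
        exacts [E.one_mem, E.zero_mem]
      · exact E.mul_mem (hEK k hk) (hBE j)
      · rw [map_mul, hm, (hsK k).2 hk]; ring
      · rw [smul_dotProduct, hform, smul_eq_mul, mul_assoc]
    by_cases h0 : ∃ t : F, v = t • δ₀
    · obtain ⟨t, ht⟩ := h0
      refine hone 0 ![0, a, b] D⁻¹ hA (fun j => by fin_cases j <;> simp [hEK a haK, hEK b hbK, E.zero_mem])
        (by rw [map_inv₀, hsD, inv_neg]) (fun x => ?_) t ht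
      rw [hH, dotProduct, Fin.sum_univ_three]
      simp
      field_simp
    by_cases h1 : ∃ t : F, v = t • δ₁
    · obtain ⟨t, ht⟩ := h1
      refine hone 1 ![1, 0, c] (-(a * D)⁻¹) hB (fun j => by fin_cases j <;> simp [hcE, E.zero_mem, E.one_mem])
        (by rw [map_neg, map_inv₀, map_mul, hsa, hsD, mul_neg, inv_neg]) (fun x => ?_) t ht
      rw [hH, dotProduct, Fin.sum_univ_three]
      simp
      field_simp
      ring
    by_cases h2 : ∃ t : F, v = t • δ₂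
    · obtain ⟨t, ht⟩ := h2
      refine hone 2 ![1, g, 0] (-(b * D)⁻¹) hC (fun j => by fin_cases j <;> simp [hgE, E.zero_mem, E.one_mem])
        (by rw [map_neg, map_inv₀, map_mul, hsb, hsD, mul_neg, inv_neg]) (fun x => ?_) t ht
      rw [hH, dotProduct, Fin.sum_univ_three]
      simp
      field_simp
      ring
    push Not at h0 h1 h2
    have o0 : a * v 1 + b * v 2 ≠ 0 := by simpa [dotProduct, Fin.sum_univ_three] using (hS.opp hr hA hv h0).1
    obtain ⟨l, hl⟩ : ∃ l, l = (a * v 1 + b * v 2)⁻¹ := ⟨_, rfl⟩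
    have hl0 : l ≠ 0 := hl ▸ inv_ne_zero o0
    obtain ⟨w, hw⟩ : ∃ w, w = l • v := ⟨_, rfl⟩
    obtain ⟨y, hy⟩ : ∃ y, y = l⁻¹ • φ := ⟨_, rfl⟩
    have hm : Mem P δ₀ ![0, a, b] w y := by rw [hw, hy]; exact hv.scale hl0
    have hw0 : a * w 1 + b * w 2 = 1 := by
      rw [hw]
      simp only [Pi.smul_apply, smul_eq_mul]
      rw [show a * (l * v 1) + b * (l * v 2) = l * (a * v 1 + b * v 2) by ring, hl, inv_mul_cancel₀ o0]
    have hne : ∀ i, (∀ t : F, v ≠ t • Pi.single i 1) → ∀ t : F, w ≠ t • Pi.single i 1 := fun i h t ht => h (l⁻¹ * t) (by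
      rw [mul_smul, ← ht, hw, smul_smul, inv_mul_cancel₀ hl0, one_smul])
    obtain ⟨-, p0⟩ := hS.opp hr hA hm (hne 0 h0)
    obtain ⟨x1, p1⟩ := hS.opp hr hB hm (hne 1 h1)
    obtain ⟨x2, p2⟩ := hS.opp hr hC hm (hne 2 h2)
    obtain ⟨X1, hX1⟩ : ∃ X1, X1 = w 0 + c * w 2 := ⟨_, rfl⟩
    obtain ⟨X2, hX2⟩ : ∃ X2, X2 = w 0 + g * w 1 := ⟨_, rfl⟩
    have e1 : ![1, 0, c] ⬝ᵥ w = X1 := by simp [dotProduct, Fin.sum_univ_three, hX1]
    have e2 : ![1, g, 0] ⬝ᵥ w = X2 := by simp [dotProduct, Fin.sum_univ_three, hX2]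
    rw [e1] at x1
    rw [e2] at x2
    simp only [dotProduct_single_one] at p0 p1 p2
    have hy0 : y 0 ∈ K := by
      have := hr.pr_mem _ _ _ _ hA hm
      simpa [pr, dotProduct_single_one, dotProduct, Fin.sum_univ_three, hw0] using this
    have hg1 : X1 * y 1 ∈ K := by
      have := hr.pr_mem _ _ _ _ hB hm
      rwa [pr, e1, dotProduct_single_one] at this
    have hg2 : X2 * y 2 ∈ K := by
      have := hr.pr_mem _ _ _ _ hC hm
      rwa [pr, e2, dotProduct_single_one] at this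
    have hsy0 : s (y 0) = y 0 := (hsK _).2 hy0
    have hindw : ∀ i j k : Fin 3, i ≠ j → k ≠ i → k ≠ j → w k ≠ 0 →
        ∀ p q : F, (Pi.single j 1 : Fin 3 → F) ≠ p • w + q • Pi.single i 1 := by
      intro i j k hij hki hkj hwk p q h
      have hk := congrFun h k
      simp [Pi.single_apply, hki, hkj] at hk
      rw [hk.resolve_right hwk, zero_smul, zero_add] at h
      simpa [Pi.single_apply, hij.symm] using congrFun h j
    have hlo : ∀ i : Fin 3, (∀ t : F, v ≠ t • Pi.single i 1) → ∀ t : F, (Pi.single i 1 : Fin 3 → F) ≠ t • w := fun i h t ht => by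
      rcases eq_or_ne t 0 with rfl | ht0
      · simpa using congrFun ht i
      · exact hne i h t⁻¹ (by rw [ht, smul_smul, inv_mul_cancel₀ ht0, one_smul])
    -- the three linking relations
    have P12 : w 2 ≠ 0 → y 1 = -(y 0 * a * s X1) := fun hw2 => by
      have h := (hS.cycle hr hfull s hsK hm hA hB (hlo 0 h0) (hindw 0 1 2 (by decide) (by decide) (by decide) hw2)).2
      rw [e1, show ![0, a, b] ⬝ᵥ δ₁ = a by simp, show ![1, 0, c] ⬝ᵥ δ₀ = 1 by simp, dotProduct_single_one,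
        dotProduct_single_one, map_mul, map_mul, hsy0, hsa,
        show ![0, a, b] ⬝ᵥ w = 1 by simp [dotProduct, Fin.sum_univ_three, hw0]] at h
      linear_combination h
    have P13 : w 1 ≠ 0 → y 2 = -(y 0 * b * s X2) := fun hw1 => by
      have h := (hS.cycle hr hfull s hsK hm hA hC (hlo 0 h0) (hindw 0 2 1 (by decide) (by decide) (by decide) hw1)).2
      rw [e2, show ![0, a, b] ⬝ᵥ δ₂ = b by simp, show ![1, g, 0] ⬝ᵥ δ₀ = 1 by simp, dotProduct_single_one,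
        dotProduct_single_one, map_mul, map_mul, hsy0, hsb,
        show ![0, a, b] ⬝ᵥ w = 1 by simp [dotProduct, Fin.sum_univ_three, hw0]] at h
      linear_combination h
    have P23 : w 0 ≠ 0 → s (y 1) * s c * s X2 = -(y 2 * g * X1) := fun hw0' => by
      have h := (hS.cycle hr hfull s hsK hm hB hC (hlo 1 h1) (hindw 1 2 0 (by decide) (by decide) (by decide) hw0')).2
      rw [e1, e2, show ![1, 0, c] ⬝ᵥ δ₂ = c by simp, show ![1, g, 0] ⬝ᵥ δ₁ = g by simp, dotProduct_single_one,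
        dotProduct_single_one, map_mul, map_mul] at h
      exact h
    have hsX : ∀ {X : F}, X ≠ 0 → s X ≠ 0 := fun h => (map_ne_zero s).2 h
    -- each single relation is conjugation invariant
    have hfix : ∀ (k X Y : F), s k = k → k ≠ 0 → X ≠ 0 → X * Y ∈ K →
        (Y = -(y 0 * k * s X) ∨ s Y = -(y 0 * k * X)) → s (s X) = X ∧ Y = -(y 0 * k * s X) := by
      intro k X Y hk hk0 hX hXY h
      have hy00 : y 0 ≠ 0 := p0
      have hg := (hsK _).2 hXY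
      rw [map_mul] at hg
      have hN : s (X * s X) = X * s X := by
        rcases h with h | h
        · refine mul_left_cancel₀ (neg_ne_zero.2 (mul_ne_zero hy00 hk0)) ?_
          rw [h, map_neg, map_mul, map_mul, hsy0, hk] at hg
          rw [map_mul]
          linear_combination hg
        · have he : X * Y = -(y 0 * k) * (X * s X) := by rw [← hg, h]; ring
          refine mul_left_cancel₀ (neg_ne_zero.2 (mul_ne_zero hy00 hk0)) ?_
          have e2 := (hsK _).2 hXY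
          rw [he] at e2
          simp only [map_mul, map_neg, hsy0, hk] at e2
          rw [map_mul]
          exact e2
      rw [map_mul, mul_comm] at hN
      have hss : s (s X) = X := mul_right_cancel₀ (hsX hX) hN
      refine ⟨hss, h.elim id fun h => ?_⟩
      have h' := congrArg s h
      rw [map_neg, map_mul, map_mul, hsy0, hk] at h'
      rw [← h']
      refine mul_left_cancel₀ hX ?_
      have e2 : s (s (X * Y)) = X * Y := by rw [(hsK _).2 hXY, (hsK _).2 hXY]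
      rw [map_mul, map_mul, hss] at e2
      exact e2.symm
    obtain ⟨R1, R2⟩ : (s (s X1) = X1 ∧ y 1 = -(y 0 * a * s X1)) ∧ (s (s X2) = X2 ∧ y 2 = -(y 0 * b * s X2)) := by
      by_cases hw2 : w 2 = 0
      · have hw1 : w 1 ≠ 0 := fun h => by rw [h, hw2] at hw0; simp at hw0
        have hw0' : w 0 ≠ 0 := fun h => hne 1 h1 (w 1) (funext fun i => by fin_cases i <;> simp [h, hw2])
        have r2 := hfix b X2 (y 2) hsb hb0 x2 hg2 (Or.inl (P13 hw1))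
        refine ⟨hfix a X1 (y 1) hsa ha0 x1 hg1 (Or.inr ?_), r2⟩
        have h := P23 hw0'
        rw [r2.2] at h
        refine mul_left_cancel₀ (mul_ne_zero (mul_ne_zero hb0 hg0) (hsX x2)) ?_
        linear_combination (-a) * h + s (y 1) * s X2 * hsc
      · have r1 := hfix a X1 (y 1) hsa ha0 x1 hg1 (Or.inl (P12 hw2))
        refine ⟨r1, ?_⟩
        by_cases hw1 : w 1 = 0
        · have hw0' : w 0 ≠ 0 := fun h => hne 2 h2 (w 2) (funext fun i => by fin_cases i <;> simp [h, hw1])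
          refine hfix b X2 (y 2) hsb hb0 x2 hg2 (Or.inl ?_)
          have h := P23 hw0'
          rw [r1.2, map_neg, map_mul, map_mul, hsy0, hsa, r1.1] at h
          refine mul_left_cancel₀ (mul_ne_zero hg0 x1) ?_
          linear_combination h + y 0 * X1 * s X2 * hsc
        · exact hfix b X2 (y 2) hsb hb0 x2 hg2 (Or.inl (P13 hw1))
    have hXE1 : X1 ∈ E := (hE _).2 R1.1
    have hXE2 : X2 ∈ E := (hE _).2 R2.1
    have hw1E : w 1 ∈ E := by
      convert E.div_mem (E.add_mem hcE (E.mul_mem (hEK b hbK) (E.sub_mem hXE2 hXE1))) hDE using 1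
      rw [eq_div_iff hD0, hD, hX1, hX2]
      linear_combination c * hw0
    have hw2E : w 2 ∈ E := by
      convert E.div_mem (E.sub_mem hgE (E.mul_mem (hEK a haK) (E.sub_mem hXE2 hXE1))) hDE using 1
      rw [eq_div_iff hD0, hD, hX1, hX2]
      linear_combination g * hw0
    have hw0E : w 0 ∈ E := by
      convert E.sub_mem hXE2 (E.mul_mem hgE hw1E) using 1
      rw [hX2]; ring
    refine ⟨w, y, l, hl0, hw, hy, fun i => by fin_cases i <;> assumption, fun i => ?_, -(y 0) / D * (1 : F), ?_, fun x => ?_⟩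
    · fin_cases i
      · exact hEK _ hy0
      · show y 1 ∈ E
        rw [R1.2]; exact E.neg_mem (E.mul_mem (E.mul_mem (hEK _ hy0) (hEK a haK)) (hEs _ hXE1))
      · show y 2 ∈ E
        rw [R2.2]; exact E.neg_mem (E.mul_mem (E.mul_mem (hEK _ hy0) (hEK b hbK)) (hEs _ hXE2))
    · rw [mul_one, map_div₀, map_neg, hsy0, hsD, div_neg]
    · rw [hH, dotProduct, Fin.sum_univ_three, R1.2, R2.2, hX1, hX2, map_add, map_add, map_mul, map_mul]
      have h0' := congrArg s hw0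
      rw [map_add, map_mul, map_mul, hsa, hsb, map_one] at h0'
      rw [mul_one, ← mul_assoc, div_mul_cancel₀ _ hD0]
      linear_combination (-(y 0 * x 1 * s (w 2))) * hsc - (y 0 * x 2 * s (w 1)) * hsg - y 0 * x 0 * h0'
  obtain ⟨h01, hX⟩ := hr.base
  have hmem : ∀ h ∈ P, ∃ u φ, Mem P δ₀ ![0, a, b] u φ ∧ ∃ hh : φ ⬝ᵥ u = 0,
      h * tv δ₀ ![0, a, b] h01 * h⁻¹ = tv u φ hh := by
    intro h hh
    refine ⟨_, _, hA.conj hh, ((hA.conj hh).has hr.base).orth, gl_ext_vec fun x => ?_⟩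
    rw [gl_mul_mulVec, gl_mul_mulVec, tv_mulVec, tv_mulVec, mulVec_add, gl_mulVec_inv, mulVec_smul,
      ← dotProduct_mulVec]
  refine ⟨hc.nc _ hX (tv_not_scalar hr.ne_u hr.ne_φ h01) _ fun h hh => ?_, fun htop => ?_⟩
  · obtain ⟨u, φ, hm, hu, e⟩ := hmem h hh
    rw [e]
    obtain ⟨v', φ', l, hl, hv', hφ', hvE, hφE, -⟩ := hnorm u φ hm
    refine tv_mem_ratSub _ fun i j => ?_
    convert E.mul_mem (hvE i) (hφE j) using 1
    rw [hv', hφ', Pi.smul_apply, Pi.smul_apply, smul_eq_mul, smul_eq_mul]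
    field_simp
  · have hinv : ∀ x, s (s x) = x := fun x => (hE x).1 (htop ▸ Subfield.mem_top x)
    obtain ⟨σ, hσ⟩ : ∃ σ : F ≃+* F, ∀ x, σ x = s x := ⟨RingEquiv.ofRingHom s s (RingHom.ext hinv) (RingHom.ext hinv), fun x => rfl⟩
    have hf : IsUnitaryForm σ H := by
      refine ⟨fun e => hdK ((hsK _).1 ?_), fun x => by rw [hσ, hσ, hinv], fun x y v => ?_, fun t x v => ?_,
        fun v w => ?_, fun v hv => ?_⟩
      · rw [← hσ, e]; rfl
      · simp only [hH, Pi.add_apply]; ring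
      · simp only [hH, Pi.smul_apply, smul_eq_mul]; ring
      · rw [hσ, hH, hH]
        simp only [map_mul, map_add, map_sub, map_neg, hsD, hinv, hsa, hsb]
        linear_combination (-(D * s (w 1) * v 2)) * hsg - (D * s (w 2) * v 1) * hsc
      · have key : (∀ x, H x v = 0) → False := by
          intro hz
          have z0 := hz δ₀
          have z1 := hz δ₁
          have z2 := hz δ₂
          simp [hH, hD0] at z0 z1 z2
          have n1 : s (v 1) = 0 := by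
            refine (mul_eq_zero.1 (show (a * D) * s (v 1) = 0 from ?_)).resolve_left (mul_ne_zero ha0 hD0)
            rw [hD]
            linear_combination (-(b * g)) * z0 + b * z1 - a * z2
          have n2 : s (v 2) = 0 := by
            rw [n1] at z0
            simpa [hb0] using z0
          have n0 : s (v 0) = 0 := by
            rw [n2, mul_zero, sub_zero] at z1
            simpa [ha0] using z1
          refine hv (funext fun i => s.injective ?_)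
          rw [Pi.zero_apply, map_zero]
          fin_cases i <;> assumption
        refine ⟨?_, ?_⟩
        · by_contra hz; push Not at hz; exact key hz
        · by_contra hz
          push Not at hz
          refine key fun x => ?_
          have e : σ (H v x) = H x v := by
            rw [hσ, hH, hH]
            simp only [map_mul, map_add, map_sub, map_neg, hsD, hinv, hsa, hsb]
            linear_combination (D * x 2 * s (v 1)) * hsg + (D * x 1 * s (v 2)) * hsc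
          rw [← e, hz, map_zero]
    refine ⟨σ, H, hf, hc.nc _ hX (tv_not_scalar hr.ne_u hr.ne_φ h01) _ fun h hh => ?_⟩
    obtain ⟨u, φ, hm, hu, e⟩ := hmem h hh
    rw [e]
    obtain ⟨v', φ', l, hl, hv', hφ', -, -, m, hm', hform⟩ := hnorm u φ hm
    have hvv : H v' v' = 0 := by
      have h0 : φ' ⬝ᵥ v' = 0 := by rw [hv', hφ', smul_dotProduct, dotProduct_smul, hu, smul_zero, smul_zero]
      rw [hform] at h0
      refine (mul_eq_zero.1 h0).resolve_left fun hm0 => (hm.ne_zero hr.ne_u hr.ne_φ).2 (funext fun i => ?_)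
      have := hform (Pi.single i 1)
      rw [hm0, zero_mul, dotProduct_single_one, hφ', Pi.smul_apply, smul_eq_mul] at this
      exact (mul_eq_zero.1 this).resolve_left (inv_ne_zero hl)
    have h0 := utv_orth hf hvv m
    have e' : tv u φ hu = tv v' (m • hv hf v') h0 := tv_congr_gl hu h0 fun x => by
      rw [smul_dotProduct, hv_dot, smul_eq_mul, ← hform, hv', hφ', smul_dotProduct, smul_eq_mul, smul_smul]
      congr 1
      field_simp
    rw [e']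
    exact fun x y => utv_isometry hf v' hvv (by rw [hσ]; exact hm') h0 x y

variable [Fintype F]

theorem herm_of_single (hc : Core P) (hns : NoSubfield P) (hr : Root P u₀ φ₀ K) (hS : Single P u₀ φ₀) :
    ∃ (σ : F ≃+* F) (f : (Fin 3 → F) → (Fin 3 → F) → F), IsUnitaryForm σ f ∧ P ≤ isoU f ∧
      Fintype.card F ≤ Nat.card (SingTv.hsub P u₀ φ₀) ^ 2 := by
  classical
  have hfull : ∀ a ∈ K, Has P (a • u₀) φ₀ := hr.dich.resolve_right (hS.nine_false hc hr)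
  obtain ⟨p, hp⟩ := CharP.exists F
  haveI : Fact p.Prime := ⟨CharP.char_is_prime F p⟩
  haveI := hp
  haveI : Fintype K := Fintype.ofFinite _
  haveI : CharP K p := (RingHom.charP_iff_charP K.subtype p).2 inferInstance
  obtain ⟨n, -, hn⟩ := FiniteField.card K p
  have hq : Nat.card K = p ^ (n : ℕ) := by rw [Nat.card_eq_fintype_card, hn]
  obtain ⟨s, hs⟩ : ∃ s : F →+* F, ∀ x, s x = x ^ Nat.card K :=
    ⟨iterateFrobenius F p n, fun x => by rw [iterateFrobenius_def, hq]⟩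
  have hsK : ∀ x, s x = x ↔ x ∈ K := fun x => by
    rw [hs, ← SetLike.mem_coe, CfsgLib.Perm.Dickson.coe_subfield_eq K]
    rfl
  obtain ⟨E, hE⟩ : ∃ E : Subfield F, ∀ x, x ∈ E ↔ s (s x) = x :=
    ⟨(s.comp s).eqLocusField (RingHom.id F), fun x => Iff.rfl⟩
  obtain ⟨w, ψ, hm, he⟩ := exists_partner hc hr.ne_u hr.ne_φ hr.base
  have hw : φ₀ ⬝ᵥ w ≠ 0 := fun e => he (by rw [pr, e, zero_mul])
  have hψu : ψ ⬝ᵥ u₀ ≠ 0 := fun e => he (by rw [pr, e, mul_zero])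
  obtain ⟨z, ζ, hz, hind⟩ := exists_third (φ₀ := φ₀) hc hr.ne_u u₀ w
  obtain ⟨-, hζu⟩ := hS.opp hr Mem.refl hz fun x h => hind x 0 (by simpa using h)
  have hm' := hm.scale hψu
  have hz' := hz.scale hζu
  obtain ⟨A, hA⟩ : ∃ A : Matrix (Fin 3) (Fin 3) F, A = (Matrix.of ![u₀, (ψ ⬝ᵥ u₀) • w, (ζ ⬝ᵥ u₀) • z])ᵀ := ⟨_, rfl⟩
  have hdet : A.det ≠ 0 := fun h0 => by
    obtain ⟨v, hv0, hv⟩ := Matrix.exists_mulVec_eq_zero_iff.2 h0
    have hv' : v 0 • u₀ + (v 1 * (ψ ⬝ᵥ u₀)) • w + (v 2 * (ζ ⬝ᵥ u₀)) • z = 0 := by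
      rw [← hv]
      ext i
      simp [hA, Matrix.mulVec, dotProduct, Fin.sum_univ_three]
      ring
    have h2 : v 2 = 0 := by
      by_contra h2
      have hne := mul_ne_zero h2 hζu
      refine hind (-(v 2 * (ζ ⬝ᵥ u₀))⁻¹ * v 0) (-(v 2 * (ζ ⬝ᵥ u₀))⁻¹ * (v 1 * (ψ ⬝ᵥ u₀))) ?_
      rw [mul_smul, mul_smul, ← smul_add, eq_neg_of_add_eq_zero_left hv', smul_neg, neg_smul, neg_neg, smul_smul,
        inv_mul_cancel₀ hne, one_smul]
    rw [h2, zero_mul, zero_smul, add_zero] at hv'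
    have h := congrArg (fun x => φ₀ ⬝ᵥ x) hv'
    simp only [dotProduct_add, dotProduct_smul, smul_eq_mul, hr.base.orth, mul_zero, zero_add, dotProduct_zero] at h
    have h1 : v 1 = 0 := (mul_eq_zero.1 ((mul_eq_zero.1 h).resolve_right hw)).resolve_right hψu
    rw [h1, zero_mul, zero_smul, add_zero] at hv'
    exact hv0 (funext fun i => by
      fin_cases i
      exacts [(smul_eq_zero.1 hv').resolve_right hr.ne_u, h1, h2])
  obtain ⟨T, hT⟩ : ∃ T : GL (Fin 3) F, (T : Matrix (Fin 3) (Fin 3) F) = A :=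
    ⟨Matrix.GeneralLinearGroup.mkOfDetNeZero _ hdet, rfl⟩
  have hinv : ∀ j, ((T⁻¹ : GL (Fin 3) F) : Matrix (Fin 3) (Fin 3) F) *ᵥ
      ![u₀, (ψ ⬝ᵥ u₀) • w, (ζ ⬝ᵥ u₀) • z] j = Pi.single j 1 := fun j => by
    have : (T : Matrix (Fin 3) (Fin 3) F) *ᵥ Pi.single j 1 = ![u₀, (ψ ⬝ᵥ u₀) • w, (ζ ⬝ᵥ u₀) • z] j := by
      rw [hT, hA, mulVec_single_one]; ext i; simp
    rw [← this, gl_inv_mulVec]
  have hrow : ∀ η : Fin 3 → F, η ᵥ* (T : Matrix (Fin 3) (Fin 3) F) =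
      ![η ⬝ᵥ u₀, η ⬝ᵥ ((ψ ⬝ᵥ u₀) • w), η ⬝ᵥ ((ζ ⬝ᵥ u₀) • z)] := fun η => by
    funext j
    rw [hT, hA]
    fin_cases j <;> simp [Matrix.vecMul, dotProduct]
  obtain ⟨a, ha⟩ : ∃ a, a = φ₀ ⬝ᵥ ((ψ ⬝ᵥ u₀) • w) := ⟨_, rfl⟩
  obtain ⟨b, hb⟩ : ∃ b, b = φ₀ ⬝ᵥ ((ζ ⬝ᵥ u₀) • z) := ⟨_, rfl⟩
  have hu' : ((T⁻¹ : GL (Fin 3) F) : Matrix (Fin 3) (Fin 3) F) *ᵥ u₀ = δ₀ := hinv 0
  have hφ' : φ₀ ᵥ* (T : Matrix (Fin 3) (Fin 3) F) = ![0, a, b] := by rw [hrow, hr.base.orth, ← ha, ← hb]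
  have hr' := hr.cjg T
  have hS' := hS.cjg T
  have h1 := hm'.cjg T
  have h2 := hz'.cjg T
  rw [hu', hφ'] at hr' hS' h1 h2
  rw [show ((T⁻¹ : GL (Fin 3) F) : Matrix (Fin 3) (Fin 3) F) *ᵥ ((ψ ⬝ᵥ u₀) • w) = δ₁ from hinv 1] at h1
  rw [show ((T⁻¹ : GL (Fin 3) F) : Matrix (Fin 3) (Fin 3) F) *ᵥ ((ζ ⬝ᵥ u₀) • z) = δ₂ from hinv 2] at h2
  obtain ⟨c, hc'⟩ : ∃ c, c = ((ψ ⬝ᵥ u₀)⁻¹ • ψ) ⬝ᵥ ((ζ ⬝ᵥ u₀) • z) := ⟨_, rfl⟩
  obtain ⟨g, hg⟩ : ∃ g, g = ((ζ ⬝ᵥ u₀)⁻¹ • ζ) ⬝ᵥ ((ψ ⬝ᵥ u₀) • w) := ⟨_, rfl⟩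
  rw [show ((ψ ⬝ᵥ u₀)⁻¹ • ψ) ᵥ* (T : Matrix (Fin 3) (Fin 3) F) = ![1, 0, c] by
    rw [hrow, ← hc']
    simp [smul_dotProduct, dotProduct_smul, hψu, (hm.has hr.base).orth]] at h1
  rw [show ((ζ ⬝ᵥ u₀)⁻¹ • ζ) ᵥ* (T : Matrix (Fin 3) (Fin 3) F) = ![1, g, 0] by
    rw [hrow, ← hg]
    simp [smul_dotProduct, dotProduct_smul, hζu, (hz.has hr.base).orth]] at h2
  obtain ⟨hle, hherm⟩ := herm_std (hc.cjg T) hr' hS' (fun x hx => by
    rw [← hu', ← hφ', ← mulVec_smul]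
    exact has_cjg.2 (hfull x hx)) s hsK h1 h2 E hE
  have htop : E = ⊤ := by
    by_contra hne
    refine hns E hne ⟨T⁻¹, ?_⟩
    rintro _ ⟨x, hx, rfl⟩ i j
    have hxm : T⁻¹ * x * T ∈ cjg T P := mem_cjg.2 (by rwa [show T * (T⁻¹ * x * T) * T⁻¹ = x by group])
    have := (hle hxm).1 i j
    rw [Units.val_mul, Units.val_mul] at this
    rwa [inv_inv]
  obtain ⟨σ, f, hf, hfle⟩ := hherm htop
  have hgood : ∀ x y : Fin 3 → F, f (((T⁻¹ : GL (Fin 3) F) : Matrix (Fin 3) (Fin 3) F) *ᵥ x)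
      (((T⁻¹ : GL (Fin 3) F) : Matrix (Fin 3) (Fin 3) F) *ᵥ y) =
      (fun x y => f (((T⁻¹ : GL (Fin 3) F) : Matrix (Fin 3) (Fin 3) F) *ᵥ x)
        (((T⁻¹ : GL (Fin 3) F) : Matrix (Fin 3) (Fin 3) F) *ᵥ y)) x y := fun x y => rfl
  refine ⟨σ, fun x y => f (((T⁻¹ : GL (Fin 3) F) : Matrix (Fin 3) (Fin 3) F) *ᵥ x)
    (((T⁻¹ : GL (Fin 3) F) : Matrix (Fin 3) (Fin 3) F) *ᵥ y), ⟨hf.ne_refl, hf.involutive,
    fun x y v => by rw [mulVec_add, hf.add_left], fun t x v => by rw [mulVec_smul, hf.smul_left],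
    fun v w => hf.herm _ _, fun v hv => ?_⟩, fun x hx u v => ?_, ?_⟩
  · obtain ⟨⟨y, hy⟩, y', hy'⟩ := hf.nondegenerate (((T⁻¹ : GL (Fin 3) F) : Matrix (Fin 3) (Fin 3) F) *ᵥ v)
      fun e => hv (gl_mulVec_eq_zero.1 e)
    exact ⟨⟨(T : Matrix (Fin 3) (Fin 3) F) *ᵥ y, by rw [gl_inv_mulVec]; exact hy⟩,
      ⟨(T : Matrix (Fin 3) (Fin 3) F) *ᵥ y', by rw [gl_inv_mulVec]; exact hy'⟩⟩
  · have hxm : T⁻¹ * x * T ∈ cjg T P := mem_cjg.2 (by rwa [show T * (T⁻¹ * x * T) * T⁻¹ = x by group])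
    have := mem_isoU.1 (hfle hxm) (((T⁻¹ : GL (Fin 3) F) : Matrix (Fin 3) (Fin 3) F) *ᵥ u)
      (((T⁻¹ : GL (Fin 3) F) : Matrix (Fin 3) (Fin 3) F) *ᵥ v)
    rwa [gl_mul_mulVec, gl_mul_mulVec, gl_mulVec_inv, gl_mul_mulVec, gl_mul_mulVec, gl_mulVec_inv] at this
  · have hcard : Nat.card (SingTv.hsub P u₀ φ₀) = Nat.card K :=
      Nat.card_congr (Equiv.subtypeEquivRight fun x => ⟨hr.sub x, hfull x⟩)
    rw [hcard]
    have h2 : 2 ≤ Nat.card K := CfsgLib.Perm.Dickson.two_le_card_subfield K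
    have hb' := CfsgLib.Perm.Dickson.ncard_pow_fixed_le (F := F) (c := Nat.card K ^ 2) (by nlinarith)
    have hall : {x : F | x ^ Nat.card K ^ 2 = x} = Set.univ := Set.eq_univ_of_forall fun x => by
      have := (hE x).1 (htop ▸ Subfield.mem_top x)
      rw [hs, hs, ← pow_mul, ← pow_two] at this
      exact this
    rwa [hall, Set.ncard_univ, Nat.card_eq_fintype_card] at hb'

end CfsgLib.Perm.Trans.ThreeRes.Tv
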