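import Cfsg.Agent.Lib.Perm.Trans.ThreeRes.Tv.Base

/-!
# Change of coordinates for transvection classes
-/

set_option autoImplicit false
set_option linter.all false

namespace CfsgLib.Perm.Trans.ThreeRes.Tv

open scoped Matrix
open Matrix Cfsg.Geo CfsgLib.Perm.Asch CfsgLib.Perm.Trans CfsgLib.Perm.Trans.ThreeDim

variable {F : Type*} [Field F]

/-- the conjugate `T⁻¹ P T` -/
def cjg (T : GL (Fin 3) F) (P : Subgroup (GL (Fin 3) F)) : Subgroup (GL (Fin 3) F) :=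
  P.map (MulAut.conj T⁻¹).toMonoidHom

variable {T : GL (Fin 3) F} {P : Subgroup (GL (Fin 3) F)} {u₀ φ₀ : Fin 3 → F}

theorem mem_cjg {g : GL (Fin 3) F} : g ∈ cjg T P ↔ T * g * T⁻¹ ∈ P := by
  constructor
  · rintro ⟨x, hx, rfl⟩
    show T * (T⁻¹ * x * T⁻¹⁻¹) * T⁻¹ ∈ P
    rwa [inv_inv, show T * (T⁻¹ * x * T) * T⁻¹ = x by group]
  · intro h
    exact ⟨_, h, show T⁻¹ * (T * g * T⁻¹) * T⁻¹⁻¹ = g by group⟩

theorem cjg_cjg : cjg T⁻¹ (cjg T P) = P := by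
  ext x
  rw [mem_cjg, mem_cjg, inv_inv, show T * (T⁻¹ * x * T) * T⁻¹ = x by group]

theorem conj_tv (T : GL (Fin 3) F) (u φ : Fin 3 → F) (h : φ ⬝ᵥ u = 0)
    (h' : (φ ᵥ* (T : Matrix (Fin 3) (Fin 3) F)) ⬝ᵥ (((T⁻¹ : GL (Fin 3) F) : Matrix (Fin 3) (Fin 3) F) *ᵥ u) = 0) :
    T * tv _ _ h' * T⁻¹ = tv u φ h := gl_ext_vec fun x => by
  rw [gl_mul_mulVec, gl_mul_mulVec, tv_mulVec, tv_mulVec, mulVec_add, gl_mulVec_inv, mulVec_smul, gl_mulVec_inv,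
    ← dotProduct_mulVec, gl_mulVec_inv]

theorem has_cjg {u φ : Fin 3 → F} :
    Has (cjg T P) (((T⁻¹ : GL (Fin 3) F) : Matrix (Fin 3) (Fin 3) F) *ᵥ u) (φ ᵥ* (T : Matrix (Fin 3) (Fin 3) F)) ↔
      Has P u φ := by
  constructor
  · rintro ⟨h, hm⟩
    have h0 : φ ⬝ᵥ u = 0 := by rwa [← dotProduct_mulVec, gl_mulVec_inv] at h
    exact ⟨h0, conj_tv T u φ h0 h ▸ mem_cjg.1 hm⟩
  · rintro ⟨h, hm⟩
    have h' : (φ ᵥ* (T : Matrix (Fin 3) (Fin 3) F)) ⬝ᵥ (((T⁻¹ : GL (Fin 3) F) : Matrix (Fin 3) (Fin 3) F) *ᵥ u) = 0 := by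
      rwa [← dotProduct_mulVec, gl_mulVec_inv]
    exact ⟨h', mem_cjg.2 (by rw [conj_tv T u φ h h']; exact hm)⟩

theorem Mem.cjg (T : GL (Fin 3) F) {u φ : Fin 3 → F} (h : Mem P u₀ φ₀ u φ) :
    Mem (cjg T P) (((T⁻¹ : GL (Fin 3) F) : Matrix (Fin 3) (Fin 3) F) *ᵥ u₀) (φ₀ ᵥ* (T : Matrix (Fin 3) (Fin 3) F))
      (((T⁻¹ : GL (Fin 3) F) : Matrix (Fin 3) (Fin 3) F) *ᵥ u) (φ ᵥ* (T : Matrix (Fin 3) (Fin 3) F)) := by
  obtain ⟨g, hg, l, hl, rfl, rfl⟩ := h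
  refine ⟨T⁻¹ * g * T, mem_cjg.2 (by rwa [show T * (T⁻¹ * g * T) * T⁻¹ = g by group]), l, hl, ?_, ?_⟩
  · rw [mulVec_smul, gl_mul_mulVec, gl_mul_mulVec, gl_mulVec_inv]
  · rw [show (T⁻¹ * g * T)⁻¹ = T⁻¹ * g⁻¹ * T by group, smul_vecMul, vecMul_vecMul, vecMul_vecMul, Units.val_mul,
      Units.val_mul, ← Matrix.mul_assoc, ← Matrix.mul_assoc, Units.mul_inv, Matrix.one_mul]

theorem Mem.of_cjg {u φ : Fin 3 → F}
    (h : Mem (Tv.cjg T P) (((T⁻¹ : GL (Fin 3) F) : Matrix (Fin 3) (Fin 3) F) *ᵥ u₀) (φ₀ ᵥ* (T : Matrix (Fin 3) (Fin 3) F))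
      u φ) :
    Mem P u₀ φ₀ ((T : Matrix (Fin 3) (Fin 3) F) *ᵥ u) (φ ᵥ* ((T⁻¹ : GL (Fin 3) F) : Matrix (Fin 3) (Fin 3) F)) := by
  have := h.cjg T⁻¹
  rwa [cjg_cjg, inv_inv, gl_mulVec_inv, vecMul_vecMul, Units.mul_inv, vecMul_one] at this

theorem Core.cjg (T : GL (Fin 3) F) (hc : Core P) : Core (Tv.cjg T P) := by
  refine ⟨fun W hW => ?_, ?_⟩
  · let L : (Fin 3 → F) →ₗ[F] (Fin 3 → F) := Matrix.toLin' (T : Matrix (Fin 3) (Fin 3) F)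
    have hL : ∀ x, L x = (T : Matrix (Fin 3) (Fin 3) F) *ᵥ x := fun x => Matrix.toLin'_apply _ _
    rcases hc.irr (W.map L) (fun g hg v hv => by
      obtain ⟨w, hw, rfl⟩ := hv
      refine ⟨((T⁻¹ * g * T : GL (Fin 3) F) : Matrix (Fin 3) (Fin 3) F) *ᵥ w,
        hW _ (mem_cjg.2 (by rwa [show T * (T⁻¹ * g * T) * T⁻¹ = g by group])) w hw, ?_⟩
      rw [hL, hL, gl_mul_mulVec, gl_mul_mulVec, gl_mulVec_inv]) with e | e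
    · left
      refine eq_bot_iff.2 fun w hw => ?_
      have : L w = 0 := (Submodule.mem_bot F).1 (e ▸ Submodule.mem_map_of_mem hw)
      rw [hL] at this
      exact (Submodule.mem_bot F).2 (gl_mulVec_eq_zero.1 this)
    · right
      refine eq_top_iff.2 fun w _ => ?_
      obtain ⟨v, hv, hvw⟩ := (e ▸ Submodule.mem_top : L w ∈ W.map L)
      rw [hL, hL] at hvw
      have := congrArg (fun z => ((T⁻¹ : GL (Fin 3) F) : Matrix (Fin 3) (Fin 3) F) *ᵥ z) hvw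
      simp only [gl_inv_mulVec] at this
      exact this ▸ hv
  · intro t ht hts K hK g hg
    have h := hc.nc (T * t * T⁻¹) (mem_cjg.1 ht) (fun hs => hts (by
      have e := scalar_comm hs T⁻¹
      rw [show t = T⁻¹ * (T * t * T⁻¹) * T by group, ← e, inv_mul_cancel_right]
      exact hs))
      (K.comap (MulAut.conj T⁻¹).toMonoidHom) (fun x hx => by
        show T⁻¹ * (x * (T * t * T⁻¹) * x⁻¹) * T⁻¹⁻¹ ∈ K
        have := hK (T⁻¹ * x * T) (mem_cjg.2 (by rwa [show T * (T⁻¹ * x * T) * T⁻¹ = x by group]))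
        rwa [show T⁻¹ * x * T * t * (T⁻¹ * x * T)⁻¹ = T⁻¹ * (x * (T * t * T⁻¹) * x⁻¹) * T⁻¹⁻¹ by group] at this)
      (mem_cjg.1 hg)
    have h' : T⁻¹ * (T * g * T⁻¹) * T⁻¹⁻¹ ∈ K := h
    rwa [show T⁻¹ * (T * g * T⁻¹) * T⁻¹⁻¹ = g by group] at h'

theorem Root.cjg {K : Subfield F} (T : GL (Fin 3) F) (h : Root P u₀ φ₀ K) :
    Root (Tv.cjg T P) (((T⁻¹ : GL (Fin 3) F) : Matrix (Fin 3) (Fin 3) F) *ᵥ u₀)
      (φ₀ ᵥ* (T : Matrix (Fin 3) (Fin 3) F)) K := by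
  have hiff : ∀ (a : F) (u φ : Fin 3 → F),
      Has (Tv.cjg T P) (a • (((T⁻¹ : GL (Fin 3) F) : Matrix (Fin 3) (Fin 3) F) *ᵥ u)) (φ ᵥ* (T : Matrix (Fin 3) (Fin 3) F)) ↔
        Has P (a • u) φ := fun a u φ => by rw [← mulVec_smul]; exact has_cjg
  have hne : ∀ φ : Fin 3 → F, φ ≠ 0 → φ ᵥ* (T : Matrix (Fin 3) (Fin 3) F) ≠ 0 := fun φ hφ => by
    have := vecMul_inv_ne_zero hφ T⁻¹
    rwa [inv_inv] at this
  refine ⟨fun e => h.ne_u (gl_mulVec_eq_zero.1 e), hne _ h.ne_φ, has_cjg.2 h.base,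
    fun a ha => h.sub a ((hiff a _ _).1 ha), fun u φ w ψ h1 h2 => ?_,
    h.dich.imp (fun hK a ha => (hiff a _ _).2 (hK a ha)) ?_⟩
  · rw [← pr_conj T]
    exact h.pr_mem _ _ _ _ h1.of_cjg h2.of_cjg
  · rintro ⟨h3, hs, i, hi, hK, w, ψ, hm, he⟩
    refine ⟨h3, fun u φ hu hφ hh a ha => ?_, i, hi, hK, _, _, hm.cjg T, ?_⟩
    · have e1 : u = ((T⁻¹ : GL (Fin 3) F) : Matrix (Fin 3) (Fin 3) F) *ᵥ ((T : Matrix (Fin 3) (Fin 3) F) *ᵥ u) :=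
        (gl_inv_mulVec T u).symm
      have e2 : φ = (φ ᵥ* ((T⁻¹ : GL (Fin 3) F) : Matrix (Fin 3) (Fin 3) F)) ᵥ* (T : Matrix (Fin 3) (Fin 3) F) := by
        rw [vecMul_vecMul, Units.inv_mul, vecMul_one]
      rw [e1, e2] at ha hh
      exact hs _ _ (fun e => hu (gl_mulVec_eq_zero.1 e)) (vecMul_inv_ne_zero hφ T) (has_cjg.1 hh) a ((hiff a _ _).1 ha)
    · rw [← he]
      have := pr_conj T⁻¹ u₀ φ₀ w ψ
      rwa [inv_inv] at this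

end CfsgLib.Perm.Trans.ThreeRes.Tv
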