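import Cfsg.Agent.Lib.Perm.Trans.ThreeRes.Tv.TwoShape
import Cfsg.Agent.Lib.Perm.Trans.ThreeRes.Tv.Conj
import Cfsg.Agent.Lib.Perm.FixityFour.TwoMain
import Cfsg.Agent.Lib.Perm.Dickson.Recog
import Cfsg.Agent.Lib.Invol.BrauerSuzuki

/-!
# Characteristic two, root sets of size two: dihedral Sylow two-subgroups

A Sylow two-subgroup fixes a flag and meets the scalars trivially. Of the three shapes in unitriangular form the
cyclic and the quaternion one are impossible in a simple group.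
-/

set_option autoImplicit false
set_option linter.all false

namespace CfsgLib.Perm.Trans.ThreeRes.Tv

open scoped Matrix
open Matrix Cfsg.Geo CfsgLib.Perm.Asch CfsgLib.Perm.Trans CfsgLib.Perm.Trans.ThreeDim
open CfsgLib.Perm.Trans.ThreeDim.SingTv (ctr ctr_val fnl finrank_ker_fnl)

variable {F : Type*} [Field F] {P : Subgroup (GL (Fin 3) F)}

local notation "δ₀" => (Pi.single 0 1 : Fin 3 → F)
local notation "δ₁" => (Pi.single 1 1 : Fin 3 → F)
local notation "δ₂" => (Pi.single 2 1 : Fin 3 → F)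
local notation "M3" => Matrix (Fin 3) (Fin 3) F
local notation "G3" => GL (Fin 3) F

/-- a `p`-group fixes a nonzero vector of an invariant nonzero subgroup -/
theorem exists_fixed [Fintype F] {p : ℕ} [Fact p.Prime] [CharP F p] {S : Subgroup G3} (hS : IsPGroup p S)
    (A : AddSubgroup (Fin 3 → F)) (hA : ∀ g ∈ S, ∀ x ∈ A, (g : M3) *ᵥ x ∈ A) (hne : ∃ x ∈ A, x ≠ 0) :
    ∃ x ∈ A, x ≠ 0 ∧ ∀ g ∈ S, (g : M3) *ᵥ x = x := by
  letI : MulAction S A :=
    { smul := fun g x => ⟨((g : G3) : M3) *ᵥ x, hA g g.2 x x.2⟩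
      one_smul := fun x => Subtype.ext (one_mulVec _)
      mul_smul := fun g h x => Subtype.ext (gl_mul_mulVec _ _ _) }
  obtain ⟨x, hx, hx0⟩ := hne
  have hord : addOrderOf (⟨x, hx⟩ : A) = p :=
    addOrderOf_eq_prime (Subtype.ext (funext fun k => by simp)) fun h => hx0 (by simpa using congrArg Subtype.val h)
  have hdvd : p ∣ Nat.card A := hord ▸ addOrderOf_dvd_natCard (⟨x, hx⟩ : A)
  obtain ⟨w, hw, hw0⟩ := IsPGroup.exists_fixed_point_of_prime_dvd_card_of_fixed_point (p := p) hS A hdvd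
    (a := (0 : A)) fun g => Subtype.ext (mulVec_zero ((g : G3) : M3))
  exact ⟨w, w.2, fun h => hw0 (Subtype.ext h.symm), fun g hg => congrArg Subtype.val (hw ⟨g, hg⟩)⟩

/-- coordinates adapted to the flag of a two-group -/
theorem exists_flag [Fintype F] [CharP F 2] {S : Subgroup G3} (hS : IsPGroup 2 S) :
    ∃ T : G3, ∀ g ∈ cjg T S, (g : M3).det = 1 → UT g := by
  haveI : Fact (Nat.Prime 2) := ⟨Nat.prime_two⟩
  obtain ⟨e1, -, he1, hfix⟩ := exists_fixed hS ⊤ (fun _ _ _ _ => trivial)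
    ⟨δ₀, trivial, fun h => by simpa using congrFun h 0⟩
  let A : AddSubgroup (Fin 3 → F) :=
    { carrier := {v | v ⬝ᵥ e1 = 0}
      zero_mem' := zero_dotProduct e1
      add_mem' := fun {a b} ha hb => by
        show (a + b) ⬝ᵥ e1 = 0
        rw [add_dotProduct, show a ⬝ᵥ e1 = 0 from ha, show b ⬝ᵥ e1 = 0 from hb, add_zero]
      neg_mem' := fun {a} ha => by
        show (-a) ⬝ᵥ e1 = 0
        rw [neg_dotProduct, show a ⬝ᵥ e1 = 0 from ha, neg_zero] }
  obtain ⟨ε, hε1, hε0, hεfix⟩ := exists_fixed (hS.map ctr) A (by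
    rintro _ ⟨g, hg, rfl⟩ v hv
    show _ ⬝ᵥ e1 = 0
    rw [ctr_val, mulVec_transpose, ← dotProduct_mulVec, hfix _ (S.inv_mem hg)]
    exact hv) (by
    obtain ⟨v, hv, hv0⟩ := Submodule.exists_mem_ne_zero_of_ne_bot
      (show LinearMap.ker (fnl e1) ≠ ⊥ from fun e => by
        have := finrank_ker_fnl he1
        rw [e, finrank_bot] at this
        omega)
    exact ⟨v, (dotProduct_comm v e1).trans (LinearMap.mem_ker.1 hv), hv0⟩)
  have hε : ∀ g ∈ S, ε ᵥ* (g : M3) = ε := fun g hg => by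
    have := hεfix (ctr g⁻¹) ⟨_, S.inv_mem hg, rfl⟩
    rwa [ctr_val, inv_inv, mulVec_transpose] at this
  obtain ⟨y, hy⟩ := exists_dot_ne_zero hε0
  obtain ⟨e3, he3⟩ : ∃ e3, ε ⬝ᵥ e3 = 1 :=
    ⟨(ε ⬝ᵥ y)⁻¹ • y, by rw [dotProduct_smul, smul_eq_mul, inv_mul_cancel₀ hy]⟩
  obtain ⟨e2, he2, he2'⟩ : ∃ e2, ε ⬝ᵥ e2 = 0 ∧ ∀ c : F, e2 ≠ c • e1 := by
    by_contra hcon
    push Not at hcon
    have h1 := Submodule.finrank_mono (fun x hx => Submodule.mem_span_singleton.2 (by
      obtain ⟨c, hc⟩ := hcon x (LinearMap.mem_ker.1 hx)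
      exact ⟨c, hc.symm⟩) : LinearMap.ker (fnl ε) ≤ Submodule.span F {e1})
    rw [finrank_ker_fnl hε0, finrank_span_singleton he1] at h1
    omega
  obtain ⟨A', hA'⟩ : ∃ A' : M3, A' = (Matrix.of ![e1, e2, e3])ᵀ := ⟨_, rfl⟩
  have hAv : ∀ v : Fin 3 → F, A' *ᵥ v = v 0 • e1 + v 1 • e2 + v 2 • e3 := fun v => by
    ext i
    simp [hA', Matrix.mulVec, dotProduct, Fin.sum_univ_three, mul_comm]
  have hdet : A'.det ≠ 0 := fun h0 => by
    obtain ⟨v, hv0, hv⟩ := Matrix.exists_mulVec_eq_zero_iff.2 h0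
    rw [hAv] at hv
    have h2 := congrArg (fun x => ε ⬝ᵥ x) hv
    simp only [dotProduct_add, dotProduct_smul, smul_eq_mul, show ε ⬝ᵥ e1 = 0 from hε1, he2, he3, mul_zero, mul_one,
      zero_add, dotProduct_zero] at h2
    rw [h2, zero_smul, add_zero] at hv
    have h1 : v 1 = 0 := by
      by_contra h1
      refine he2' (-(v 1)⁻¹ * v 0) ?_
      rw [mul_smul, eq_neg_of_add_eq_zero_left hv, smul_neg, neg_smul, neg_neg, smul_smul, inv_mul_cancel₀ h1,
        one_smul]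
    rw [h1, zero_smul, add_zero] at hv
    exact hv0 (funext fun i => by
      fin_cases i
      exacts [(smul_eq_zero.1 hv).resolve_right he1, h1, h2])
  obtain ⟨T, hT⟩ : ∃ T : G3, (T : M3) = A' := ⟨Matrix.GeneralLinearGroup.mkOfDetNeZero A' hdet, rfl⟩
  refine ⟨T, fun g hg hd => ?_⟩
  rw [mem_cjg] at hg
  have hc0 : (g : M3) *ᵥ δ₀ = δ₀ := by
    have h := hfix _ hg
    have hTe : (T : M3) *ᵥ δ₀ = e1 := by rw [hT, hAv]; simp
    rw [← hTe, gl_mul_mulVec, gl_mul_mulVec, gl_inv_mulVec] at h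
    have h' := congrArg (fun x => ((T⁻¹ : G3) : M3) *ᵥ x) h
    simp only [gl_inv_mulVec] at h'
    exact h'
  have hr2 : δ₂ ᵥ* (g : M3) = δ₂ := by
    have h := hε _ hg
    have hTε : ε ᵥ* (T : M3) = δ₂ := by
      ext j
      have : (ε ᵥ* (T : M3)) j = ε ⬝ᵥ ((T : M3) *ᵥ Pi.single j 1) := by rw [dotProduct_mulVec, dotProduct_single_one]
      rw [this, hT, hAv]
      fin_cases j <;> simp [dotProduct_add, show ε ⬝ᵥ e1 = 0 from hε1, he2, he3]
    have h' := congrArg (fun x => x ᵥ* (T : M3)) h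
    simp only [Units.val_mul, vecMul_vecMul] at h'
    rw [Matrix.mul_assoc _ _ (T : M3), Units.inv_mul, Matrix.mul_one, ← vecMul_vecMul, hTε] at h'
    exact h'
  have c : ∀ i, (g : M3) i 0 = δ₀ i := fun i => by
    have := congrFun hc0 i
    rwa [mulVec_single_one] at this
  have r : ∀ j, (g : M3) 2 j = δ₂ j := fun j => by
    have := congrFun hr2 j
    rwa [single_one_vecMul] at this
  have h00 : (g : M3) 0 0 = 1 := by rw [c]; simp
  have h10 : (g : M3) 1 0 = 0 := by rw [c]; simp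
  have h20 : (g : M3) 2 0 = 0 := by rw [c]; simp
  have h21 : (g : M3) 2 1 = 0 := by rw [r]; simp
  have h22 : (g : M3) 2 2 = 1 := by rw [r]; simp
  refine ⟨h00, h10, h20, ?_, h21, h22⟩
  rw [Matrix.det_fin_three] at hd
  simpa [h00, h10, h20, h21, h22] using hd

theorem Two.cjg (T : G3) (h : Two P) : Two (Tv.cjg T P) := by
  refine ⟨h.1, fun u φ hu hφ hh a ha => ?_⟩
  have e1 : u = ((T⁻¹ : G3) : M3) *ᵥ ((T : M3) *ᵥ u) := (gl_inv_mulVec T u).symm
  have e2 : φ = (φ ᵥ* ((T⁻¹ : G3) : M3)) ᵥ* (T : M3) := by rw [vecMul_vecMul, Units.inv_mul, vecMul_one]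
  rw [e1, e2] at hh ha
  rw [← mulVec_smul] at ha
  exact h.2 _ _ (fun e => hu (gl_mulVec_eq_zero.1 e)) (vecMul_inv_ne_zero hφ T) (has_cjg.1 hh) a (has_cjg.1 ha)

theorem cjg_le_SL (T : G3) (h : P ≤ specialLinear (Fin 3) F) : Tv.cjg T P ≤ specialLinear (Fin 3) F := by
  rintro _ ⟨g, hg, rfl⟩
  show Matrix.GeneralLinearGroup.det (T⁻¹ * g * T⁻¹⁻¹) = 1
  rw [map_mul, map_mul, h hg, mul_one, ← map_mul, mul_inv_cancel, map_one]

variable [Fintype F]

theorem dihedral_of_two (hP : Quasi P) (h2 : Two P) (hnt : ¬ NoTv P) : HasDihedralTwo P := by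
  classical
  haveI : Fact (Nat.Prime 2) := ⟨Nat.prime_two⟩
  haveI : CharP F 2 := by
    obtain ⟨p, hp⟩ := CharP.exists F
    haveI := hp
    have hd := (CharP.cast_eq_zero_iff F p 2).1 (by exact_mod_cast h2.1)
    rwa [(Nat.prime_dvd_prime_iff_eq (CharP.char_is_prime F p) Nat.prime_two).1 hd] at hp
  haveI := hP.simple
  have hna := hP.nonabelian
  let π := QuotientGroup.mk' ((scalars (Fin 3) F).subgroupOf P)
  obtain ⟨x, ξ, ⟨hx0, hx⟩, hxne, hξne⟩ : ∃ x ξ : Fin 3 → F, Has P x ξ ∧ x ≠ 0 ∧ ξ ≠ 0 := by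
    simp only [NoTv, not_forall] at hnt
    obtain ⟨x, ξ, hx, hne⟩ := hnt
    push Not at hne
    exact ⟨x, ξ, hx, hne.1, hne.2⟩
  have ht : orderOf (π ⟨tv x ξ hx0, hx⟩) = 2 := by
    refine orderOf_eq_prime ?_ fun e => tv_not_scalar hxne hξne hx0
      (Subgroup.mem_subgroupOf.1 ((QuotientGroup.eq_one_iff _).1 e))
    rw [← map_pow, ← map_one π]
    refine congrArg π (Subtype.ext (gl_ext_vec fun y => ?_))
    show ((tv x ξ hx0 ^ 2 : G3) : M3) *ᵥ y = _
    rw [pow_two, gl_mul_mulVec, tv_mulVec, tv_mulVec, dotProduct_add, dotProduct_smul, hx0, smul_zero, add_zero,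
      add_assoc, ← add_smul, ← two_mul, h2.1, zero_mul, zero_smul, add_zero]
    simp
  obtain ⟨S⟩ := (inferInstance : Nonempty (Sylow 2 P))
  obtain ⟨S', hS'⟩ : ∃ S' : Subgroup G3, S' = (S : Subgroup P).map P.subtype := ⟨_, rfl⟩
  have hSP : S' ≤ P := by rw [hS']; exact Subgroup.map_subtype_le _
  obtain ⟨T, hT⟩ := exists_flag (show IsPGroup 2 S' by rw [hS']; exact S.2.map _)
  have hsl := cjg_le_SL T hP.le_sl
  have hTP : cjg T S' ≤ cjg T P := Subgroup.map_mono hSP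
  have hut : ∀ g ∈ cjg T S', UT g := fun g hg => hT g hg (det_one_of_mem hsl (hTP hg))
  have hmax : MaxTwo (cjg T P) (cjg T S') := by
    intro s hs t ht' hss htt hst
    rw [mem_cjg] at hs ht'
    obtain ⟨a, ha⟩ : ∃ a : P, (a : G3) = T * s * T⁻¹ := ⟨⟨_, hs⟩, rfl⟩
    obtain ⟨b, hb⟩ : ∃ b : P, (b : G3) = T * t * T⁻¹ := ⟨⟨_, ht'⟩, rfl⟩
    have haa : a * a = 1 := Subtype.ext (by
      rw [Subgroup.coe_mul, ha, show T * s * T⁻¹ * (T * s * T⁻¹) = T * (s * s) * T⁻¹ by group, hss]; simp)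
    have hbb : b * b = 1 := Subtype.ext (by
      rw [Subgroup.coe_mul, hb, show T * t * T⁻¹ * (T * t * T⁻¹) = T * (t * t) * T⁻¹ by group, htt]; simp)
    have hab : b * a = a * b := Subtype.ext (by
      rw [Subgroup.coe_mul, Subgroup.coe_mul, ha, hb,
        show T * t * T⁻¹ * (T * s * T⁻¹) = T * (t * s) * T⁻¹ by group,
        show T * s * T⁻¹ * (T * t * T⁻¹) = T * (s * t) * T⁻¹ by group, hst])
    have haia : a⁻¹ = a := inv_eq_of_mul_eq_one_right haa
    have hbib : b⁻¹ = b := inv_eq_of_mul_eq_one_right hbb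
    let K : Subgroup P :=
      { carrier := {y | y = 1 ∨ y = a ∨ y = b ∨ y = a * b}
        one_mem' := Or.inl rfl
        mul_mem' := by
          have h1 : a * (a * b) = b := by rw [← mul_assoc, haa, one_mul]
          have h2 : b * (a * b) = a := by rw [← mul_assoc, hab, mul_assoc, hbb, mul_one]
          have h3 : a * b * a = b := by rw [mul_assoc, hab, h1]
          have h4 : a * b * b = a := by rw [mul_assoc, hbb, mul_one]
          have h5 : a * b * (a * b) = 1 := by rw [mul_assoc, h2, haa]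
          rintro y z (rfl | rfl | rfl | rfl) (rfl | rfl | rfl | rfl) <;>
            simp [haa, hbb, hab, h1, h2, h3, h4, h5]
        inv_mem' := by
          rintro y (rfl | rfl | rfl | rfl) <;> simp [haia, hbib, hab] }
    have hK : IsPGroup 2 K := fun y => ⟨1, Subtype.ext (by
      have h5 : a * b * (a * b) = 1 := by rw [mul_assoc, ← mul_assoc b a b, hab, mul_assoc a b b, hbb, mul_one, haa]
      rcases y.2 with e | e | e | e <;> simp [e, pow_two, haa, hbb, h5])⟩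
    obtain ⟨R, hR⟩ := hK.exists_le_sylow
    obtain ⟨g, hg⟩ := MulAction.exists_smul_eq P R S
    have hconj : ∀ y ∈ K, g * y * g⁻¹ ∈ (S : Subgroup P) := fun y hy => by
      rw [← hg, Sylow.coe_subgroup_smul]
      exact ⟨y, hR hy, rfl⟩
    refine ⟨T⁻¹ * g * T, mem_cjg.2 (by rw [show T * (T⁻¹ * (g : G3) * T) * T⁻¹ = g by group]; exact g.2), ?_, ?_⟩
    · rw [mem_cjg, hS', show T * (T⁻¹ * (g : G3) * T * s * (T⁻¹ * (g : G3) * T)⁻¹) * T⁻¹ = g * (T * s * T⁻¹) * (g : G3)⁻¹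
        by group, ← ha]
      exact Subgroup.mem_map_of_mem P.subtype (hconj a (Or.inr (Or.inl rfl)))
    · rw [mem_cjg, hS', show T * (T⁻¹ * (g : G3) * T * t * (T⁻¹ * (g : G3) * T)⁻¹) * T⁻¹ = g * (T * t * T⁻¹) * (g : G3)⁻¹
        by group, ← hb]
      exact Subgroup.mem_map_of_mem P.subtype (hconj b (Or.inr (Or.inr (Or.inl rfl))))
  -- the two-group is isomorphic to a Sylow subgroup of the quotient
  let S₁ : Sylow 2 (P ⧸ (scalars (Fin 3) F).subgroupOf P) := S.mapSurjective (QuotientGroup.mk'_surjective _)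
  obtain ⟨e⟩ : Nonempty ((cjg T S' : Subgroup G3) ≃* (S₁ : Subgroup (P ⧸ (scalars (Fin 3) F).subgroupOf P))) := by
    have hinj : Function.Injective (π.subgroupMap (S : Subgroup P)) := (injective_iff_map_eq_one _).2 fun y hy => by
      have hz : ((y : P) : G3) ∈ scalars (Fin 3) F :=
        Subgroup.mem_subgroupOf.1 ((QuotientGroup.eq_one_iff _).1 (congrArg Subtype.val hy))
      obtain ⟨c, hc⟩ := (mem_scalars_iff _).1 hz
      have hmem : ((y : P) : G3) ∈ cjg T S' := by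
        rw [mem_cjg, ← scalar_comm hz T, mul_inv_cancel_right, hS']
        exact Subgroup.mem_map_of_mem P.subtype y.2
      have h1 := (hut _ hmem).1
      rw [hc] at h1
      exact Subtype.ext (Subtype.ext (Units.ext (by
        rw [hc]
        simp at h1
        simp [h1])))
    exact ⟨((Subgroup.equivMapOfInjective S' _ (MulAut.conj T⁻¹).injective).symm.trans
      ((MulEquiv.subgroupCongr hS').trans (Subgroup.equivMapOfInjective _ _ P.subtype_injective).symm)).trans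
      (MulEquiv.ofBijective _ ⟨hinj, MonoidHom.subgroupMap_surjective _ _⟩)⟩
  have hncyc : ¬ IsCyclic (cjg T S' : Subgroup G3) := fun h =>
    CfsgLib.Perm.FixityFour.sylow_two_not_cyclic hna S₁ ht (e.isCyclic.1 h)
  rcases shape ((core_of_quasi hP).cjg T) hsl (h2.cjg T) hTP hut hmax with h | ⟨C, hC, hC2, hCn, hCinv⟩ | ⟨h8, huniq⟩
  · exact absurd h hncyc
  · obtain ⟨d⟩ := CfsgLib.Perm.Dickson.mulEquiv_dihedral hC hC2 hCinv
    exact ⟨S₁, Nat.card C, hCn, ⟨e.symm.trans d⟩⟩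
  · exfalso
    obtain ⟨n, ⟨d⟩⟩ := (CfsgLib.Coprime.cyclic_or_quaternion_of_unique_two
      (IsPGroup.of_card (n := 3) (by rw [h8]; norm_num)) huniq).resolve_left hncyc
    haveI : NeZero (2 ^ n) := ⟨pow_ne_zero _ two_ne_zero⟩
    have hn : 2 ^ n = 2 := by
      have := Nat.card_congr d.toEquiv
      rw [h8, Nat.card_eq_fintype_card, QuaternionGroup.card] at this
      omega
    have hcen : Nat.card (Subgroup.center (P ⧸ (scalars (Fin 3) F).subgroupOf P)) = 2 :=
      CfsgLib.Invol.card_center_eq_two S₁ (N := 2 ^ n) hn.ge (by rw [hn]; exact even_two) (e.symm.trans d) fun K hK hodd => by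
        rcases IsSimpleGroup.eq_bot_or_eq_top_of_normal K hK with h | h
        · exact h
        · exfalso
          rw [h, Subgroup.card_top] at hodd
          exact Nat.not_even_iff_odd.2 hodd (even_iff_two_dvd.2 (ht ▸ orderOf_dvd_natCard _))
    rcases IsSimpleGroup.eq_bot_or_eq_top_of_normal (Subgroup.center (P ⧸ (scalars (Fin 3) F).subgroupOf P))
      inferInstance with h | h
    · rw [h, Subgroup.card_bot] at hcen
      omega
    · exact hna ⟨⟨fun a b => (Subgroup.mem_center_iff.1 (h ▸ Subgroup.mem_top a : a ∈ Subgroup.center _) b).symm⟩⟩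

end CfsgLib.Perm.Trans.ThreeRes.Tv
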