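import Cfsg.Agent.Lib.Perm.Trans.ThreeRes.Tv.CaseA
import Cfsg.Agent.Lib.Perm.Trans.ThreeRes.Tv.Herm
import Cfsg.Agent.Lib.Perm.Trans.ThreeRes.Tv.TwoSylow
import Cfsg.Agent.Lib.Perm.Trans.ThreeDim.SlTv
import Cfsg.Agent.Lib.Perm.Trans.ThreeDim.UnitaryTv
import Cfsg.Agent.Lib.Perm.Trans.UnitSU

/-!
# The residual class in dimension three: groups with transvections

Such a group is the special linear group, or fixes a hermitian form, or has dihedral Sylow two-subgroups modulo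
scalars; inside the unitary group it is the special unitary group unless the Sylow two-subgroups are dihedral.
-/

set_option autoImplicit false
set_option linter.all false

namespace CfsgLib.Perm.Trans.ThreeRes

open scoped Matrix
open Matrix Cfsg.Geo CfsgLib.Perm.Asch CfsgLib.Perm.Trans CfsgLib.Perm.Trans.ThreeDim CfsgLib.Perm.Trans.Unit
open CfsgLib.Perm.Trans.ThreeDim.SingTv (dualGrp ctr ctr_val has_dual hsub mem_hsub dual_le_SL)

variable {F : Type*} [Field F] [Fintype F] {P : Subgroup (GL (Fin 3) F)}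

namespace Tv

/-- two axes at a centre, rational over the whole field -/
theorem has_all_of_top {u φ ψ : Fin 3 → F} (hc : Core P) (hsl : P ≤ specialLinear (Fin 3) F) (hu : u ≠ 0)
    (hli : LinearIndependent F ![φ, ψ]) (h1 : ∀ c : F, Has P u (c • φ)) (h2 : ∀ c : F, Has P u (c • ψ)) :
    fullSub P = ⊤ := by
  refine (hc.irr (fullSub P) fun g hg w hw => fullSub_inv hg hw).resolve_left fun e => hu ?_
  have : u ∈ fullSub P := fullC_of_two hu h1 h2 hli
  rwa [e, Submodule.mem_bot] at this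

theorem sl_of_twoAx (hP : Quasi P) (hns : NoSubfield P) {K : Subfield F} {u₀ φ₀ : Fin 3 → F}
    (hr : Root P u₀ φ₀ K) (h2 : TwoAx P u₀ φ₀) : P = specialLinear (Fin 3) F := by
  have hc := core_of_quasi hP
  obtain ⟨T, hT, u, φ, ψ, hu, hli, hφ, hψ⟩ := rat_of_twoAx hc hr h2
  obtain rfl : K = ⊤ := by
    by_contra hK
    refine hns K hK ⟨T⁻¹, ?_⟩
    rintro _ ⟨g, hg, rfl⟩ i j
    rw [inv_inv]
    exact hT g hg i j
  exact eq_SL_of_fullSub hP.le_sl (has_all_of_top hc hP.le_sl hu hli (fun c => hφ c trivial) fun c => hψ c trivial)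

theorem sl_of_twoCen (hP : Quasi P) (hns : NoSubfield P) {K : Subfield F} {u₀ φ₀ : Fin 3 → F}
    (hr : Root P u₀ φ₀ K) (h2 : TwoCen P u₀ φ₀) : P = specialLinear (Fin 3) F := by
  have hc := (core_of_quasi hP).dual
  obtain ⟨T, hT, u, φ, ψ, hu, hli, hφ, hψ⟩ := rat_of_twoAx hc hr.dual h2
  obtain rfl : K = ⊤ := by
    by_contra hK
    refine hns K hK ⟨(ctr T)⁻¹, ?_⟩
    rintro _ ⟨g, hg, rfl⟩ i j
    have h := hT (ctr g⁻¹) ⟨_, P.inv_mem hg, rfl⟩ j i
    rw [ctr_val, inv_inv] at h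
    convert h using 1
    have e : (((ctr T)⁻¹ : GL (Fin 3) F) : Matrix (Fin 3) (Fin 3) F) * (g : Matrix (Fin 3) (Fin 3) F) *
          ((((ctr T)⁻¹)⁻¹ : GL (Fin 3) F) : Matrix (Fin 3) (Fin 3) F) =
        (((T⁻¹ : GL (Fin 3) F) : Matrix (Fin 3) (Fin 3) F) * (g : Matrix (Fin 3) (Fin 3) F)ᵀ *
          (T : Matrix (Fin 3) (Fin 3) F))ᵀ := by
      rw [inv_inv, ← map_inv, ctr_val, ctr_val, inv_inv]
      simp only [transpose_mul, transpose_transpose, Matrix.mul_assoc]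
    exact congrFun (congrFun e i) j
  have hall := all_of_fullSub (has_all_of_top hc (dual_le_SL hP.le_sl) hu hli (fun c => hφ c trivial) fun c => hψ c trivial)
  refine eq_SL_of_fullSub hP.le_sl (eq_top_iff.2 fun v _ => ?_)
  intro χ hχ
  exact has_dual.1 ⟨by rw [dotProduct_comm]; exact hχ, hall χ v (by rw [dotProduct_comm]; exact hχ)⟩

/-- the trichotomy -/
theorem cases_root (hP : Quasi P) (hns : NoSubfield P) (hnt : ¬ NoTv P) :
    P = specialLinear (Fin 3) F ∨ HasDihedralTwo P ∨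
      ∃ u₀ φ₀, u₀ ≠ 0 ∧ φ₀ ≠ 0 ∧ Has P u₀ φ₀ ∧ Fintype.card F ≤ Nat.card (hsub P u₀ φ₀) ^ 2 ∧ FixesHerm P := by
  have hc := core_of_quasi hP
  rcases exists_root hc hnt with ⟨u₀, φ₀, K, hr⟩ | h2
  · by_cases hA : TwoAx P u₀ φ₀
    · exact Or.inl (sl_of_twoAx hP hns hr hA)
    by_cases hB : TwoCen P u₀ φ₀
    · exact Or.inl (sl_of_twoCen hP hns hr hB)
    obtain ⟨σ, f, hf, hle, hcard⟩ := herm_of_single hc hns hr ⟨hA, hB⟩
    refine Or.inr (Or.inr ⟨u₀, φ₀, hr.ne_u, hr.ne_φ, hr.base, hcard, σ, f, hf, ?_⟩)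
    rintro _ ⟨g, hg, rfl⟩
    exact hle hg
  · exact Or.inr (Or.inl (dihedral_of_two hP h2 hnt))

/-- an isometric transvection is a unitary transvection -/
theorem isometric_tv {σ : F ≃+* F} {f : (Fin 3 → F) → (Fin 3 → F) → F} (hf : IsUnitaryForm σ f) (hle : P ≤ isoU f)
    {u φ : Fin 3 → F} (hu : u ≠ 0) (hφ : φ ≠ 0) (h : Has P u φ) :
    f u u = 0 ∧ ∃ c : F, σ c = -c ∧ φ = c • hv hf u := by
  obtain ⟨h0, hm⟩ := h
  have key : ∀ x y, (φ ⬝ᵥ x) * f u y + σ (φ ⬝ᵥ y) * f x u + (φ ⬝ᵥ x) * σ (φ ⬝ᵥ y) * f u u = 0 := fun x y => by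
    have e := mem_isoU.1 (hle hm) x y
    rw [tv_mulVec, tv_mulVec] at e
    simp only [hf.add_left, herm_add_right hf, hf.smul_left, herm_smul_right hf] at e
    linear_combination e
  obtain ⟨y₀, hy₀⟩ := exists_dot_ne_zero hφ
  have hσy : σ (φ ⬝ᵥ y₀) ≠ 0 := by simpa using hy₀
  have huu : f u u = 0 := by
    have := key y₀ u
    rw [h0, map_zero, zero_mul, mul_zero, zero_mul, add_zero, add_zero] at this
    exact (mul_eq_zero.1 this).resolve_left hy₀
  have hx : ∀ x, f x u = -(f u y₀ / σ (φ ⬝ᵥ y₀)) * (φ ⬝ᵥ x) := fun x => by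
    have := key x y₀
    rw [huu, mul_zero, add_zero] at this
    field_simp
    linear_combination this
  obtain ⟨d, hd⟩ : ∃ d, d = -(f u y₀ / σ (φ ⬝ᵥ y₀)) := ⟨_, rfl⟩
  have hd0 : d ≠ 0 := fun e => by
    obtain ⟨x, hxu⟩ := (hf.nondegenerate u hu).1
    exact hxu (by rw [hx, ← hd, e, zero_mul])
  refine ⟨huu, d⁻¹, ?_, dot_ext hf fun x => ?_⟩
  · have h1 : f y₀ u = d * (φ ⬝ᵥ y₀) := by rw [hd, hx]
    have h2 := key y₀ y₀
    rw [huu, mul_zero, add_zero, show f u y₀ = σ (f y₀ u) from hf.herm _ _, h1, map_mul] at h2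
    have h3 : σ d = -d := by
      refine eq_neg_of_add_eq_zero_left (mul_right_cancel₀ (mul_ne_zero hy₀ hσy) ?_)
      linear_combination h2
    rw [map_inv₀, h3, inv_neg]
  · rw [smul_dotProduct, hv_dot, hx, ← hd, smul_eq_mul, inv_mul_cancel_left₀ hd0]

end Tv

/-- part T of the residual class -/
theorem of_transvection (hP : Quasi P) (hns : NoSubfield P) (hnt : ¬ NoTv P) :
    P = specialLinear (Fin 3) F ∨ FixesHerm P ∨ HasDihedralTwo P := by
  rcases Tv.cases_root hP hns hnt with h | h | ⟨-, -, -, -, -, -, h⟩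
  · exact Or.inl h
  · exact Or.inr (Or.inr h)
  · exact Or.inr (Or.inl h)

/-- part T of the residual class inside the unitary group -/
theorem unitary_of_transvection (q : ℕ) (hF : Fintype.card F = q ^ 2) (hq : 3 ≤ q) (hP : Quasi P)
    (hle : P ≤ Cfsg.GU 3 F q) (hns : NoSubfield P) (hnt : ¬ NoTv P) :
    P = Cfsg.GU 3 F q ⊓ specialLinear (Fin 3) F ∨ HasDihedralTwo P := by
  classical
  obtain ⟨C⟩ := ctx_of_card hF
  have hf : IsUnitaryForm C.bar (Cfsg.hermForm 3 F q) := isUnitary_hermForm C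
  have hiso : P ≤ isoU (Cfsg.hermForm 3 F q) := hle
  rcases Tv.cases_root hP hns hnt with h | h | ⟨u₀, φ₀, hu₀, hφ₀, h0, hcard, -⟩
  · exfalso
    have h1 : (Pi.single 1 1 : Fin 3 → F) ⬝ᵥ Pi.single 0 1 = 0 := by simp
    have h2 : (Pi.single 2 1 : Fin 3 → F) ⬝ᵥ Pi.single 0 1 = 0 := by simp
    obtain ⟨-, a, -, ha⟩ := Tv.isometric_tv hf hiso (by simp) (by simp) ⟨h1, h ▸ tv_mem_SL _ _ h1⟩
    obtain ⟨-, b, -, hb⟩ := Tv.isometric_tv hf hiso (by simp) (by simp) ⟨h2, h ▸ tv_mem_SL _ _ h2⟩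
    have e1 := congrFun ha 1
    have e2 := congrFun hb 1
    have e3 := congrFun hb 2
    simp at e1 e2 e3
    rcases e2 with e2 | e2
    · simp [e2] at e3
    · simp [e2] at e1
  · exact Or.inr h
  refine Or.inl (le_antisymm (le_inf hle hP.le_sl) ?_)
  obtain ⟨huu, c₀, hc₀, hφc⟩ := Tv.isometric_tv hf hiso hu₀ hφ₀ h0
  have hc₀0 : c₀ ≠ 0 := fun e => hφ₀ (by rw [hφc, e, zero_smul])
  have hv0 : hv hf u₀ ≠ 0 := fun e => hφ₀ (by rw [hφc, e, smul_zero])
  have hskew : ∀ a : hsub P u₀ φ₀, C.bar ((a : F) * c₀) = -((a : F) * c₀) := by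
    rintro ⟨a, ha⟩
    rcases eq_or_ne a 0 with rfl | ha0
    · simp
    have ha' : Has P u₀ (a • φ₀) := (has_smul_iff u₀ φ₀).1 (mem_hsub.1 ha)
    obtain ⟨-, c, hcs, hce⟩ := Tv.isometric_tv hf hiso hu₀ (smul_ne_zero ha0 hφ₀) ha'
    rw [hφc, smul_smul] at hce
    show C.bar (a * c₀) = -(a * c₀)
    rw [smul_left_injective F hv0 hce]
    exact hcs
  obtain ⟨Z, hZ⟩ : ∃ Z : Finset F, Z = Finset.univ.filter fun c => C.bar c = -c := ⟨_, rfl⟩
  have hZcard : Z.card ≤ q := by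
    have hdeg : (Polynomial.X ^ q + Polynomial.X : Polynomial F).degree = q := by
      rw [Polynomial.degree_add_eq_left_of_degree_lt] <;> rw [Polynomial.degree_X_pow]
      rw [Polynomial.degree_X]
      exact_mod_cast (show 1 < q by omega)
    have hne : (Polynomial.X ^ q + Polynomial.X : Polynomial F) ≠ 0 := fun e => by
      rw [e, Polynomial.degree_zero] at hdeg
      exact absurd hdeg WithBot.bot_ne_coe
    have hsub' : Z ⊆ (Polynomial.X ^ q + Polynomial.X : Polynomial F).roots.toFinset := fun c hc => by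
      rw [hZ, Finset.mem_filter, C.bar_eq] at hc
      rw [Multiset.mem_toFinset, Polynomial.mem_roots hne]
      simp [hc.2]
    refine (Finset.card_le_card hsub').trans ((Multiset.toFinset_card_le _).trans ((Polynomial.card_roots' _).trans ?_))
    rw [Polynomial.natDegree_eq_of_degree_eq_some hdeg]
  obtain ⟨g, hg⟩ : ∃ g : hsub P u₀ φ₀ → Z, ∀ a : hsub P u₀ φ₀, ((g a : Z) : F) = a * c₀ :=
    ⟨fun a => ⟨a * c₀, by rw [hZ, Finset.mem_filter]; exact ⟨Finset.mem_univ _, hskew a⟩⟩, fun a => rfl⟩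
  have hginj : Function.Injective g := fun a b e => Subtype.ext (mul_right_cancel₀ hc₀0 (by
    rw [← hg a, ← hg b, e]))
  have hn : q ≤ Nat.card (hsub P u₀ φ₀) := by
    rw [hF] at hcard
    exact (Nat.pow_le_pow_iff_left two_ne_zero).1 hcard
  have hgsurj : Function.Surjective g := (Nat.bijective_iff_injective_and_card g).2 ⟨hginj, le_antisymm
    (Nat.card_le_card_of_injective g hginj) (by rw [Nat.card_eq_finsetCard]; exact hZcard.trans hn)⟩ |>.2
  have hall : ∀ c : F, C.bar c = -c → Has P u₀ (c • hv hf u₀) := fun c hc => by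
    obtain ⟨a, ha⟩ := hgsurj ⟨c, by rw [hZ, Finset.mem_filter]; exact ⟨Finset.mem_univ _, hc⟩⟩
    have hca : (a : F) * c₀ = c := by rw [← hg a, ha]
    rw [← hca, mul_smul, ← hφc]
    exact (has_smul_iff u₀ φ₀).1 (mem_hsub.1 a.2)
  have htop := hasTv_top_of_irreducible hf hiso (Tv.core_of_quasi hP).irr hu₀ huu hall
  exact isoU_inf_SL_le hf htop (Or.inr (by rw [hF]; nlinarith))

end CfsgLib.Perm.Trans.ThreeRes
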