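import Cfsg.Agent.Lib.Perm.Trans.ThreeRes.Tv.Frame
import Cfsg.Agent.Lib.Perm.Trans.ThreeRes.Tv.PairField

/-!
# The root set of a transvection of largest root set

Either all root sets have two elements (characteristic two), or the root set of a suitable pair is a subfield
containing all products of pairs of the class, apart from three translations inside a field of nine elements.
-/

set_option autoImplicit false
set_option linter.all false

namespace CfsgLib.Perm.Trans.ThreeRes.Tv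

open scoped Matrix
open Matrix Cfsg.Geo CfsgLib.Perm.Asch CfsgLib.Perm.Trans CfsgLib.Perm.Trans.ThreeDim
open CfsgLib.Perm.Trans.ThreeDim.SingTv (dualGrp has_dual hsub mem_hsub)
open CfsgLib.Perm.Dickson (upS loS SL2F)

variable {F : Type*} [Field F]

/-- every root set has at most two elements -/
def Two (P : Subgroup (GL (Fin 3) F)) : Prop :=
  (2 : F) = 0 ∧ ∀ u φ : Fin 3 → F, u ≠ 0 → φ ≠ 0 → Has P u φ → ∀ a : F, Has P (a • u) φ → a = 0 ∨ a = 1

/-- every root set has three elements, all products lie in the field of nine elements -/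
def Nine (P : Subgroup (GL (Fin 3) F)) (u₀ φ₀ : Fin 3 → F) (K : Subfield F) : Prop :=
  (3 : F) = 0 ∧ (∀ u φ : Fin 3 → F, u ≠ 0 → φ ≠ 0 → Has P u φ → ∀ a : F, Has P (a • u) φ → a = 0 ∨ a = 1 ∨ a = -1) ∧
    ∃ i : F, i ^ 2 = -1 ∧ (∀ x ∈ K, ∃ a b : ℕ, x = a + b * i) ∧ ∃ w ψ, Mem P u₀ φ₀ w ψ ∧ pr u₀ φ₀ w ψ = i

/-- the root data of the class of a pair -/
structure Root (P : Subgroup (GL (Fin 3) F)) (u₀ φ₀ : Fin 3 → F) (K : Subfield F) : Prop where
  ne_u : u₀ ≠ 0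
  ne_φ : φ₀ ≠ 0
  base : Has P u₀ φ₀
  sub : ∀ a : F, Has P (a • u₀) φ₀ → a ∈ K
  pr_mem : ∀ u φ w ψ, Mem P u₀ φ₀ u φ → Mem P u₀ φ₀ w ψ → pr u φ w ψ ∈ K
  dich : (∀ a ∈ K, Has P (a • u₀) φ₀) ∨ Nine P u₀ φ₀ K

variable [Fintype F]

/-- the root set of one of two opposite transvections -/
theorem pair_cases (p : ℕ) [Fact p.Prime] [CharP F p] {P : Subgroup (GL (Fin 3) F)} {u φ w ψ : Fin 3 → F}
    (h : Has P u φ) (h' : Has P w ψ) (he : pr u φ w ψ ≠ 0)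
    (hbig : p = 2 → ∃ a : F, Has P (a • u) φ ∧ a ≠ 0 ∧ a ≠ 1) :
    (∃ K : Subfield F, pr u φ w ψ ∈ K ∧ ∀ t, Has P (t • u) φ ↔ t ∈ K) ∨
      (p = 3 ∧ pr u φ w ψ ^ 2 = -1 ∧ ∀ t : F, Has P (t • u) φ ↔ t = 0 ∨ t = 1 ∨ t = -1) := by
  classical
  have hw : φ ⬝ᵥ w ≠ 0 := fun e => he (by rw [pr, e, zero_mul])
  have hu : ψ ⬝ᵥ u ≠ 0 := fun e => he (by rw [pr, e, mul_zero])
  obtain ⟨b, hb⟩ : ∃ b, b = (φ ⬝ᵥ w)⁻¹ • w := ⟨_, rfl⟩
  obtain ⟨p', hp'⟩ : ∃ p', p' = (ψ ⬝ᵥ u)⁻¹ • ψ := ⟨_, rfl⟩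
  have hpa : p' ⬝ᵥ u = 1 := by rw [hp', smul_dotProduct, smul_eq_mul, inv_mul_cancel₀ hu]
  have hpb : p' ⬝ᵥ b = 0 := by rw [hp', hb, smul_dotProduct, dotProduct_smul, h'.orth, smul_zero, smul_zero]
  have hqa : φ ⬝ᵥ u = 0 := h.orth
  have hqb : φ ⬝ᵥ b = 1 := by rw [hb, dotProduct_smul, smul_eq_mul, inv_mul_cancel₀ hw]
  obtain ⟨f, hfe⟩ : ∃ f : SL2F F →* Matrix (Fin 3) (Fin 3) F, ∀ A x, f A *ᵥ x = x +
      ((A.1 0 0 - 1) * (p' ⬝ᵥ x) + A.1 0 1 * (φ ⬝ᵥ x)) • u +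
      (A.1 1 0 * (p' ⬝ᵥ x) + (A.1 1 1 - 1) * (φ ⬝ᵥ x)) • b := by
    let m : SL2F F → Matrix (Fin 3) (Fin 3) F := fun A => 1 + vecMulVec u ((A.1 0 0 - 1) • p' + A.1 0 1 • φ) +
      vecMulVec b (A.1 1 0 • p' + (A.1 1 1 - 1) • φ)
    have hm : ∀ A x, m A *ᵥ x = x + ((A.1 0 0 - 1) * (p' ⬝ᵥ x) + A.1 0 1 * (φ ⬝ᵥ x)) • u +
        (A.1 1 0 * (p' ⬝ᵥ x) + (A.1 1 1 - 1) * (φ ⬝ᵥ x)) • b := fun A x => by
      simp only [m, add_mulVec, one_mulVec, vecMulVec_mulVec, op_smul_eq_smul, add_dotProduct, smul_dotProduct,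
        smul_eq_mul]
    refine ⟨⟨⟨m, Matrix.ext_iff_mulVec.2 fun x => ?_⟩, fun A B => Matrix.ext_iff_mulVec.2 fun x => ?_⟩, hm⟩
    · rw [hm, one_mulVec]
      simp
    · rw [← mulVec_mulVec, hm, hm B, hm]
      simp only [Matrix.SpecialLinearGroup.coe_mul, Matrix.mul_apply, Fin.sum_univ_two, dotProduct_add,
        dotProduct_smul, hpa, hpb, hqa, hqb, smul_eq_mul]
      module
  obtain ⟨Φ, hΦ⟩ : ∃ Φ : SL2F F →* GL (Fin 3) F, Φ = f.toHomUnits := ⟨_, rfl⟩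
  have hΦe : ∀ A x, (Φ A : Matrix (Fin 3) (Fin 3) F) *ᵥ x = f A *ᵥ x := fun A x => by rw [hΦ]; rfl
  have hup : ∀ t : F, upS t ∈ P.comap Φ ↔ Has P (t • u) φ := fun t => by
    have h0 : φ ⬝ᵥ (t • u) = 0 := by rw [dotProduct_smul, hqa, smul_zero]
    have e : Φ (upS t) = tv (t • u) φ h0 := gl_ext_vec fun x => by
      rw [hΦe, hfe, tv_mulVec, smul_smul]
      simp [upS, mul_comm]
    rw [Subgroup.mem_comap, e]
    exact ⟨fun hm => ⟨h0, hm⟩, fun hm => hm.2⟩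
  have hlo : loS (pr u φ w ψ) ∈ P.comap Φ := by
    have e : Φ (loS (pr u φ w ψ)) = tv w ψ h'.orth := gl_ext_vec fun x => by
      rw [hΦe, hfe, tv_mulVec, hb, hp', smul_dotProduct, smul_eq_mul, smul_smul, pr]
      simp [loS]
      congr 1
      field_simp
    rw [Subgroup.mem_comap, e]
    exact h'.2
  rcases pair_field p ((hup 1).2 (by rwa [one_smul])) he hlo (fun hp => by
    obtain ⟨a, ha, h0, h1⟩ := hbig hp
    exact ⟨a, (hup a).2 ha, h0, h1⟩) with ⟨K, hK, hiff⟩ | ⟨hp3, he2, hiff⟩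
  · exact Or.inl ⟨K, hK, fun t => (hup t).symm.trans (hiff t)⟩
  · exact Or.inr ⟨hp3, he2, fun t => (hup t).symm.trans (hiff t)⟩

omit [Fintype F] in
theorem Root.of_pr {P : Subgroup (GL (Fin 3) F)} {u₀ φ₀ : Fin 3 → F} {K : Subfield F}
    (h : ∀ w ψ, Mem P u₀ φ₀ w ψ → pr u₀ φ₀ w ψ ∈ K) :
    ∀ u φ w ψ, Mem P u₀ φ₀ u φ → Mem P u₀ φ₀ w ψ → pr u φ w ψ ∈ K := fun u φ w ψ h1 h2 => by
  obtain ⟨w', ψ', hm, e⟩ := h1.pr_base h2
  rw [e]
  exact h w' ψ' hm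

/-- the field with nine elements -/
theorem exists_nine_field {i : F} (h3 : (3 : F) = 0) (hi : i ^ 2 = -1) :
    ∃ K : Subfield F, i ∈ K ∧ ∀ x ∈ K, ∃ a b : ℕ, x = a + b * i := by
  let S : Subring F :=
    { carrier := {x | ∃ a b : ℕ, x = a + b * i}
      zero_mem' := ⟨0, 0, by simp⟩
      one_mem' := ⟨1, 0, by simp⟩
      add_mem' := by
        rintro _ _ ⟨a, b, rfl⟩ ⟨c, d, rfl⟩
        exact ⟨a + c, b + d, by push_cast; ring⟩
      neg_mem' := by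
        rintro _ ⟨a, b, rfl⟩
        exact ⟨2 * a, 2 * b, by push_cast; linear_combination (-(a : F) - b * i) * h3⟩
      mul_mem' := by
        rintro _ _ ⟨a, b, rfl⟩ ⟨c, d, rfl⟩
        exact ⟨a * c + 2 * b * d, a * d + b * c, by
          push_cast; linear_combination (b : F) * d * hi - (b : F) * d * h3⟩ }
  refine ⟨{ S with inv_mem' := fun x hx => ?_ }, ⟨0, 1, by simp⟩, fun x hx => hx⟩
  rcases eq_or_ne x 0 with rfl | h0
  · rw [_root_.inv_zero]; exact S.zero_mem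
  have hp : x ^ (Fintype.card F - 2) = x⁻¹ := by
    refine eq_inv_of_mul_eq_one_left ?_
    rw [← pow_succ, show Fintype.card F - 2 + 1 = Fintype.card F - 1 by
      have := Fintype.one_lt_card (α := F); omega, FiniteField.pow_card_sub_one_eq_one x h0]
  rw [← hp]
  exact S.pow_mem hx _

theorem exists_root {P : Subgroup (GL (Fin 3) F)} (hc : Core P) (hnt : ¬ NoTv P) :
    (∃ u₀ φ₀ K, Root P u₀ φ₀ K) ∨ Two P := by
  classical
  obtain ⟨x, ξ, hx, hx0, hξ0⟩ : ∃ x ξ : Fin 3 → F, Has P x ξ ∧ x ≠ 0 ∧ ξ ≠ 0 := by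
    simp only [NoTv, not_forall] at hnt
    obtain ⟨x, ξ, hx, hne⟩ := hnt
    push Not at hne
    exact ⟨x, ξ, hx, hne.1, hne.2⟩
  obtain ⟨⟨u₀, φ₀⟩, ⟨h0, hu, hφ⟩, hmax⟩ :=
    (Set.toFinite {v : (Fin 3 → F) × (Fin 3 → F) | Has P v.1 v.2 ∧ v.1 ≠ 0 ∧ v.2 ≠ 0}).exists_maximalFor
      (fun v => Nat.card (hsub P v.1 v.2)) _ ⟨(x, ξ), hx, hx0, hξ0⟩
  have hle : ∀ u φ : Fin 3 → F, u ≠ 0 → φ ≠ 0 → Has P u φ →
      Nat.card (hsub P u φ) ≤ Nat.card (hsub P u₀ φ₀) := fun u φ hu' hφ' h => by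
    rcases le_total (Nat.card (hsub P u φ)) (Nat.card (hsub P u₀ φ₀)) with h1 | h1
    · exact h1
    · exact hmax (j := (u, φ)) ⟨h, hu', hφ'⟩ h1
  simp only at h0 hu hφ
  obtain ⟨p, hpc⟩ := CharP.exists F
  haveI : Fact p.Prime := ⟨CharP.char_is_prime F p⟩
  haveI : CharP F p := hpc
  have hfin : ∀ (u φ : Fin 3 → F) (s : Finset F), (∀ a, Has P (a • u) φ ↔ a ∈ s) →
      Nat.card (hsub P u φ) = s.card := fun u φ s hs => by
    rw [show Nat.card (hsub P u φ) = Nat.card (↥(s : Set F)) from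
      Nat.card_congr (Equiv.subtypeEquivRight fun a => hs a), Nat.card_coe_set_eq, Set.ncard_coe_finset]
  have hmem3 : ∀ (u φ : Fin 3 → F), Has P u φ → ({0, 1, -1} : Finset F) ⊆ Finset.univ.filter (fun a => Has P (a • u) φ) := by
    intro u φ h a ha
    simp only [Finset.mem_insert, Finset.mem_singleton] at ha
    rw [Finset.mem_filter]
    refine ⟨Finset.mem_univ _, ?_⟩
    rcases ha with rfl | rfl | rfl
    · rw [zero_smul]; exact has_zero_left φ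
    · rwa [one_smul]
    · have := (has_smul_iff u φ (c := (-1 : F))).2 (by rw [neg_one_smul]; exact h.neg)
      exact this
  by_cases hbig : p = 2 → ∃ a : F, Has P (a • u₀) φ₀ ∧ a ≠ 0 ∧ a ≠ 1
  swap
  · simp only [Classical.not_imp, not_exists, not_and, not_not] at hbig
    obtain ⟨hp2, hb⟩ := hbig
    right
    refine ⟨by subst hp2; exact_mod_cast CharP.cast_eq_zero F 2, fun u φ hu' hφ' h a ha => ?_⟩
    by_contra hne
    push Not at hne
    have h2 : Nat.card (hsub P u₀ φ₀) ≤ 2 := by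
      rw [hfin u₀ φ₀ {0, 1} fun t => ⟨fun ht => by
        rcases eq_or_ne t 0 with rfl | ht0
        · simp
        · simp [hb t ht ht0], fun ht => by
        simp only [Finset.mem_insert, Finset.mem_singleton] at ht
        rcases ht with rfl | rfl
        · rw [zero_smul]; exact has_zero_left _
        · rwa [one_smul]⟩]
      exact Finset.card_le_two
    have h3 : 3 ≤ Nat.card (hsub P u φ) := by
      rw [hfin u φ (Finset.univ.filter fun t => Has P (t • u) φ) fun t => by simp]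
      calc 3 = ({0, 1, a} : Finset F).card := (Finset.card_eq_three.2 ⟨0, 1, a, zero_ne_one, hne.1.symm, hne.2.symm, rfl⟩).symm
        _ ≤ _ := Finset.card_le_card fun t ht => by
          simp only [Finset.mem_insert, Finset.mem_singleton] at ht
          rw [Finset.mem_filter]
          refine ⟨Finset.mem_univ _, ?_⟩
          rcases ht with rfl | rfl | rfl
          · rw [zero_smul]; exact has_zero_left _
          · rwa [one_smul]
          · exact ha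
    have := hle u φ hu' hφ' h
    omega
  left
  obtain ⟨w, ψ, hm, he⟩ := exists_partner hc hu hφ h0
  by_cases hN : ∃ w ψ, Mem P u₀ φ₀ w ψ ∧ p = 3 ∧ pr u₀ φ₀ w ψ ^ 2 = -1 ∧
      ∀ t : F, Has P (t • u₀) φ₀ ↔ t = 0 ∨ t = 1 ∨ t = -1
  · obtain ⟨w', ψ', hm', hp3, hi, hiff⟩ := hN
    have h3 : (3 : F) = 0 := by subst hp3; exact_mod_cast CharP.cast_eq_zero F 3
    obtain ⟨K, hiK, hK⟩ := exists_nine_field h3 hi
    have hsubK : ∀ a : F, Has P (a • u₀) φ₀ → a ∈ K := fun a ha => by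
      rcases (hiff a).1 ha with rfl | rfl | rfl
      · exact K.zero_mem
      · exact K.one_mem
      · exact K.neg_mem K.one_mem
    refine ⟨u₀, φ₀, K, hu, hφ, h0, hsubK, Root.of_pr fun z ζ hz => ?_, Or.inr ⟨h3, ?_, _, hi, hK, w', ψ', hm', rfl⟩⟩
    · rcases eq_or_ne (pr u₀ φ₀ z ζ) 0 with hz0 | hz0
      · rw [hz0]; exact K.zero_mem
      rcases pair_cases p h0 (hz.has h0) hz0 hbig with ⟨K', hK', hiff'⟩ | ⟨-, he2, -⟩
      · exact hsubK _ ((hiff' _).2 hK')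
      · have : (pr u₀ φ₀ z ζ - pr u₀ φ₀ w' ψ') * (pr u₀ φ₀ z ζ + pr u₀ φ₀ w' ψ') = 0 := by
          linear_combination he2 - hi
        rcases mul_eq_zero.1 this with h | h
        · rw [sub_eq_zero.1 h]; exact hiK
        · rw [eq_neg_of_add_eq_zero_left h]; exact K.neg_mem hiK
    · intro u φ hu' hφ' h a ha
      by_contra hne
      push Not at hne
      have h3c : Nat.card (hsub P u₀ φ₀) ≤ 3 := by
        rw [hfin u₀ φ₀ {0, 1, -1} fun t => by simpa using hiff t]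
        exact Finset.card_le_three
      have h4 : 4 ≤ Nat.card (hsub P u φ) := by
        rw [hfin u φ (Finset.univ.filter fun t => Has P (t • u) φ) fun t => by simp]
        have h2 : (-1 : F) ≠ 0 := neg_ne_zero.2 one_ne_zero
        have h12 : (1 : F) ≠ -1 := fun e => one_ne_zero (α := F) (by linear_combination h3 - e)
        calc 4 = (insert a ({0, 1, -1} : Finset F)).card := by
              rw [Finset.card_insert_of_notMem (by simp [hne]), Finset.card_eq_three.2 ⟨0, 1, -1, zero_ne_one, h2.symm, h12, rfl⟩]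
          _ ≤ _ := Finset.card_le_card (Finset.insert_subset (by simp [ha]) (hmem3 u φ h))
      have := hle u φ hu' hφ' h
      omega
  · push Not at hN
    obtain ⟨K, -, hiff⟩ := (pair_cases p h0 (hm.has h0) he hbig).resolve_right fun ⟨a, b, c⟩ => by
      obtain ⟨t, ht⟩ := hN w ψ hm a b
      have := c t
      tauto
    refine ⟨u₀, φ₀, K, hu, hφ, h0, fun a => (hiff a).1, Root.of_pr fun z ζ hz => ?_, Or.inl fun a => (hiff a).2⟩
    rcases eq_or_ne (pr u₀ φ₀ z ζ) 0 with hz0 | hz0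
    · rw [hz0]; exact K.zero_mem
    rcases pair_cases p h0 (hz.has h0) hz0 hbig with ⟨K', hK', hiff'⟩ | ⟨a, b, c⟩
    · exact (hiff _).1 ((hiff' _).2 hK')
    · obtain ⟨t, ht⟩ := hN z ζ hz a b
      have := c t
      exfalso
      tauto

omit [Fintype F] in
theorem Root.dual {P : Subgroup (GL (Fin 3) F)} {u₀ φ₀ : Fin 3 → F} {K : Subfield F} (h : Root P u₀ φ₀ K) :
    Root (dualGrp P) φ₀ u₀ K := by
  have hiff : ∀ (a : F) (u φ : Fin 3 → F), Has (dualGrp P) (a • φ) u ↔ Has P (a • u) φ := fun a u φ => by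
    rw [has_dual, has_smul_iff]
  have hpr : ∀ u φ w ψ : Fin 3 → F, pr φ u ψ w = pr u φ w ψ := fun u φ w ψ => by
    rw [pr, pr, dotProduct_comm u, dotProduct_comm w, mul_comm]
  refine ⟨h.ne_φ, h.ne_u, has_dual.2 h.base, fun a ha => h.sub a ((hiff a u₀ φ₀).1 ha),
    fun φ u ψ w h1 h2 => ?_, h.dich.imp (fun hK a ha => (hiff a u₀ φ₀).2 (hK a ha)) ?_⟩
  · rw [hpr]
    exact h.pr_mem _ _ _ _ (mem_dual.1 h1) (mem_dual.1 h2)
  · rintro ⟨h3, hs, i, hi, hK, w, ψ, hm, he⟩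
    exact ⟨h3, fun φ u hφ hu hh a ha => hs u φ hu hφ (has_dual.1 hh) a ((hiff a u φ).1 ha), i, hi, hK, ψ, w,
      mem_dual.2 hm, by rw [hpr]; exact he⟩

end CfsgLib.Perm.Trans.ThreeRes.Tv
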