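import Cfsg.Agent.Lib.Perm.Trans.ThreeRes.Defs
import Cfsg.Agent.Lib.Perm.Trans.ThreeDim.SingTvBase

/-!
# The class of a transvection in an absolutely irreducible group of degree three

`Core P` keeps the two consequences of `Quasi P` that pass to the contragredient group and to conjugates; `Mem` is
membership in the class of a centre-axis pair and `pr` the product of two pairs.
-/

set_option autoImplicit false
set_option linter.all false

namespace CfsgLib.Perm.Trans.ThreeRes.Tv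

open scoped Matrix commutatorElement
open Matrix Cfsg.Geo CfsgLib.Perm.Asch CfsgLib.Perm.Trans CfsgLib.Perm.Trans.ThreeDim
open CfsgLib.Perm.Trans.ThreeDim.SingTv (dualGrp ctr ctr_val has_dual hsub mem_hsub)

variable {F : Type*} [Field F]

/-- irreducible, and generated by every non-scalar conjugacy class -/
structure Core (P : Subgroup (GL (Fin 3) F)) : Prop where
  irr : ∀ W : Submodule F (Fin 3 → F),
    (∀ g ∈ P, ∀ w ∈ W, (g : Matrix (Fin 3) (Fin 3) F) *ᵥ w ∈ W) → W = ⊥ ∨ W = ⊤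
  nc : ∀ t ∈ P, t ∉ scalars (Fin 3) F → ∀ K : Subgroup (GL (Fin 3) F), (∀ g ∈ P, g * t * g⁻¹ ∈ K) → P ≤ K

theorem scalar_comm {z : GL (Fin 3) F} (hz : z ∈ scalars (Fin 3) F) (g : GL (Fin 3) F) : z * g = g * z := by
  obtain ⟨c, hc⟩ := (mem_scalars_iff z).1 hz
  refine Units.ext ?_
  rw [Units.val_mul, Units.val_mul, hc, smul_mul_assoc, one_mul, mul_smul_comm, mul_one]

theorem core_of_quasi {P : Subgroup (GL (Fin 3) F)} (hP : Quasi P) : Core P := by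
  refine ⟨fun W hW => hP.absIrred.1 W ?_, ?_⟩
  · rintro _ ⟨g, hg, rfl⟩
    rintro _ ⟨w, hw, rfl⟩
    rw [Matrix.toLin'_apply]
    exact hW g hg w hw
  intro t ht hts K hK
  obtain ⟨N, hN⟩ : ∃ N, N = Subgroup.closure {x | ∃ g ∈ P, x = g * t * g⁻¹} := ⟨_, rfl⟩
  have hNK : N ≤ K := by
    rw [hN, Subgroup.closure_le]
    rintro _ ⟨g, hg, rfl⟩
    exact hK g hg
  have hconj : ∀ h ∈ P, ∀ x ∈ N, h * x * h⁻¹ ∈ N := by
    intro h hh x hx
    have hle : N ≤ N.comap (MulAut.conj h).toMonoidHom := by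
      conv_lhs => rw [hN]
      rw [Subgroup.closure_le]
      rintro _ ⟨g, hg, rfl⟩
      show h * (g * t * g⁻¹) * h⁻¹ ∈ N
      rw [hN]
      exact Subgroup.subset_closure ⟨h * g, P.mul_mem hh hg, by group⟩
    exact hle hx
  haveI hn : (N.subgroupOf P).Normal := ⟨fun n hn g => Subgroup.mem_subgroupOf.2
    (hconj g g.2 n (Subgroup.mem_subgroupOf.1 hn))⟩
  haveI := hP.simple
  have hsurj : Function.Surjective (QuotientGroup.mk' ((scalars (Fin 3) F).subgroupOf P)) := QuotientGroup.mk'_surjective _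
  have hmap := (hn.map _ hsurj).eq_bot_or_eq_top.resolve_left fun hbot => hts (by
    have h1 : QuotientGroup.mk' ((scalars (Fin 3) F).subgroupOf P) ⟨t, ht⟩ = 1 := by
      rw [← Subgroup.mem_bot, ← hbot]
      refine Subgroup.mem_map_of_mem _ (Subgroup.mem_subgroupOf.2 ?_)
      rw [hN]
      exact Subgroup.subset_closure ⟨1, P.one_mem, by simp⟩
    exact Subgroup.mem_subgroupOf.1 ((QuotientGroup.eq_one_iff _).1 h1))
  have hdec : ∀ x ∈ P, ∃ n ∈ N, ∃ z ∈ scalars (Fin 3) F, x = n * z := by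
    intro x hx
    obtain ⟨n, hn', hnx⟩ : QuotientGroup.mk' ((scalars (Fin 3) F).subgroupOf P) ⟨x, hx⟩ ∈
        (N.subgroupOf P).map (QuotientGroup.mk' ((scalars (Fin 3) F).subgroupOf P)) := hmap ▸ Subgroup.mem_top _
    obtain ⟨z, hz, hzx⟩ := (QuotientGroup.mk'_eq_mk' _).1 hnx
    exact ⟨n, Subgroup.mem_subgroupOf.1 hn', z, Subgroup.mem_subgroupOf.1 hz, (congrArg Subtype.val hzx).symm⟩
  refine le_trans ?_ hNK
  conv_lhs => rw [← hP.perfect]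
  rw [Subgroup.commutator_le]
  intro a ha b hb
  obtain ⟨n, hn1, z, hz, rfl⟩ := hdec a ha
  obtain ⟨m, hm1, w, hw, rfl⟩ := hdec b hb
  have h1 : n * z * (m * w) * (n * z)⁻¹ = n * m * n⁻¹ * w := by
    calc n * z * (m * w) * (n * z)⁻¹ = n * (z * (m * w)) * z⁻¹ * n⁻¹ := by group
      _ = n * m * (w * n⁻¹) := by rw [scalar_comm hz]; group
      _ = _ := by rw [scalar_comm hw]; group
  rw [commutatorElement_def, h1]
  have h2 : n * m * n⁻¹ * w * (m * w)⁻¹ = ⁅n, m⁆ := by rw [commutatorElement_def]; group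
  rw [h2, commutatorElement_def]
  exact N.mul_mem (N.mul_mem (N.mul_mem hn1 hm1) (N.inv_mem hn1)) (N.inv_mem hm1)

theorem vecMul_inv_ne_zero {φ : Fin 3 → F} (hφ : φ ≠ 0) (g : GL (Fin 3) F) :
    φ ᵥ* ((g⁻¹ : GL (Fin 3) F) : Matrix (Fin 3) (Fin 3) F) ≠ 0 := fun e => hφ (by
  have := congrArg (fun v => v ᵥ* (g : Matrix (Fin 3) (Fin 3) F)) e
  simpa only [vecMul_vecMul, Units.inv_mul, vecMul_one, zero_vecMul] using this)

theorem exists_dot_ne_zero {φ : Fin 3 → F} (hφ : φ ≠ 0) : ∃ x, φ ⬝ᵥ x ≠ 0 := by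
  obtain ⟨i, hi⟩ := Function.ne_iff.1 hφ
  exact ⟨Pi.single i 1, by simpa using hi⟩

theorem tv_not_scalar {u φ : Fin 3 → F} (hu : u ≠ 0) (hφ : φ ≠ 0) (h : φ ⬝ᵥ u = 0) :
    tv u φ h ∉ scalars (Fin 3) F := by
  intro hs
  obtain ⟨c, hc⟩ := (mem_scalars_iff _).1 hs
  have key : ∀ x, x + (φ ⬝ᵥ x) • u = (c : F) • x := fun x => by
    rw [← tv_mulVec u φ h, hc, smul_mulVec, one_mulVec]
  have h1 := key u
  rw [h, zero_smul, add_zero] at h1
  have hc1 : (c : F) = 1 := by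
    have h2 : ((c : F) - 1) • u = 0 := by rw [sub_smul, one_smul, ← h1, sub_self]
    exact sub_eq_zero.1 ((smul_eq_zero.1 h2).resolve_right hu)
  obtain ⟨x, hx⟩ := exists_dot_ne_zero hφ
  have h2 := key x
  rw [hc1, one_smul, add_eq_left] at h2
  exact (smul_eq_zero.1 h2).elim hx hu

/-- two functionals killing a common vector and a second one agree up to a scalar, or the vectors do -/
theorem smul_or_smul {φ ψ u z : Fin 3 → F} (hu : u ≠ 0) (hφ : φ ≠ 0) (h1 : φ ⬝ᵥ u = 0) (h2 : φ ⬝ᵥ z = 0)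
    (h3 : ψ ⬝ᵥ u = 0) (h4 : ψ ⬝ᵥ z = 0) : (∃ c : F, z = c • u) ∨ ∃ c : F, ψ = c • φ := by
  by_cases hli : LinearIndependent F ![u, z]
  · exact Or.inr (SingTv.prop_of_vanish hφ hli h3 h4 h1 h2)
  · rw [LinearIndependent.pair_iff' hu] at hli
    push Not at hli
    obtain ⟨c, hc⟩ := hli
    exact Or.inl ⟨c, hc.symm⟩

/-- the pair `(u, φ)` lies in the class of `(u₀, φ₀)` -/
def Mem (P : Subgroup (GL (Fin 3) F)) (u₀ φ₀ u φ : Fin 3 → F) : Prop :=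
  ∃ g ∈ P, ∃ l : F, l ≠ 0 ∧ u = l • ((g : Matrix (Fin 3) (Fin 3) F) *ᵥ u₀) ∧
    φ = l⁻¹ • (φ₀ ᵥ* ((g⁻¹ : GL (Fin 3) F) : Matrix (Fin 3) (Fin 3) F))

/-- the product of two pairs -/
def pr (u φ w ψ : Fin 3 → F) : F := (φ ⬝ᵥ w) * (ψ ⬝ᵥ u)

theorem pr_comm (u φ w ψ : Fin 3 → F) : pr u φ w ψ = pr w ψ u φ := mul_comm _ _

theorem pr_conj (g : GL (Fin 3) F) (u φ w ψ : Fin 3 → F) :
    pr ((g : Matrix (Fin 3) (Fin 3) F) *ᵥ u) (φ ᵥ* ((g⁻¹ : GL (Fin 3) F) : Matrix (Fin 3) (Fin 3) F))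
      ((g : Matrix (Fin 3) (Fin 3) F) *ᵥ w) (ψ ᵥ* ((g⁻¹ : GL (Fin 3) F) : Matrix (Fin 3) (Fin 3) F)) = pr u φ w ψ := by
  rw [pr, pr, ← dotProduct_mulVec, ← dotProduct_mulVec, gl_inv_mulVec, gl_inv_mulVec]

theorem pr_smul_left (u φ w ψ : Fin 3 → F) {l : F} (hl : l ≠ 0) : pr (l • u) (l⁻¹ • φ) w ψ = pr u φ w ψ := by
  rw [pr, pr, smul_dotProduct, dotProduct_smul, smul_eq_mul, smul_eq_mul]
  field_simp

theorem has_scale_iff {P : Subgroup (GL (Fin 3) F)} (u φ : Fin 3 → F) {c : F} (hc : c ≠ 0) (a : F) :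
    Has P (a • c • u) (c⁻¹ • φ) ↔ Has P (a • u) φ := by
  rw [smul_comm a c, has_smul_iff, smul_smul, mul_inv_cancel₀ hc, one_smul]

theorem Has.conj_iff {P : Subgroup (GL (Fin 3) F)} {g : GL (Fin 3) F} (hg : g ∈ P) (u φ : Fin 3 → F) :
    Has P ((g : Matrix (Fin 3) (Fin 3) F) *ᵥ u) (φ ᵥ* ((g⁻¹ : GL (Fin 3) F) : Matrix (Fin 3) (Fin 3) F)) ↔
      Has P u φ := by
  refine ⟨fun h => ?_, fun h => h.conj hg⟩
  have := h.conj (P.inv_mem hg)
  rwa [gl_inv_mulVec, vecMul_vecMul, inv_inv, Units.inv_mul, vecMul_one] at this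

variable {P : Subgroup (GL (Fin 3) F)} {u₀ φ₀ : Fin 3 → F}

theorem Mem.refl : Mem P u₀ φ₀ u₀ φ₀ :=
  ⟨1, P.one_mem, 1, one_ne_zero, by simp, by simp⟩

theorem Mem.scale {u φ : Fin 3 → F} (h : Mem P u₀ φ₀ u φ) {c : F} (hc : c ≠ 0) :
    Mem P u₀ φ₀ (c • u) (c⁻¹ • φ) := by
  obtain ⟨g, hg, l, hl, rfl, rfl⟩ := h
  exact ⟨g, hg, c * l, mul_ne_zero hc hl, by rw [smul_smul], by rw [smul_smul, mul_inv]⟩

theorem Mem.conj {u φ : Fin 3 → F} (h : Mem P u₀ φ₀ u φ) {g : GL (Fin 3) F} (hg : g ∈ P) :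
    Mem P u₀ φ₀ ((g : Matrix (Fin 3) (Fin 3) F) *ᵥ u)
      (φ ᵥ* ((g⁻¹ : GL (Fin 3) F) : Matrix (Fin 3) (Fin 3) F)) := by
  obtain ⟨h, hh, l, hl, rfl, rfl⟩ := h
  exact ⟨g * h, P.mul_mem hg hh, l, hl, by rw [mulVec_smul, gl_mul_mulVec],
    by rw [smul_vecMul, vecMul_vecMul, _root_.mul_inv_rev, Units.val_mul]⟩

theorem Mem.tvconj {u φ : Fin 3 → F} (h : Mem P u₀ φ₀ u φ) {w ψ : Fin 3 → F} (hw : Has P w ψ) :
    Mem P u₀ φ₀ (u + (ψ ⬝ᵥ u) • w) (φ - (φ ⬝ᵥ w) • ψ) := by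
  obtain ⟨h0, hm⟩ := hw
  have := h.conj hm
  rw [tv_mulVec] at this
  convert this using 2
  show _ = φ ᵥ* (1 - vecMulVec w ψ)
  rw [vecMul_sub, vecMul_one, vecMul_vecMulVec]

theorem Mem.hsub_iff {u φ : Fin 3 → F} (h : Mem P u₀ φ₀ u φ) (a : F) : Has P (a • u) φ ↔ Has P (a • u₀) φ₀ := by
  obtain ⟨g, hg, l, hl, rfl, rfl⟩ := h
  rw [has_scale_iff _ _ hl, ← mulVec_smul, Has.conj_iff hg]

theorem Mem.has {u φ : Fin 3 → F} (h : Mem P u₀ φ₀ u φ) (h0 : Has P u₀ φ₀) : Has P u φ := by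
  simpa using (h.hsub_iff 1).2 (by simpa using h0)

theorem Mem.ne_zero {u φ : Fin 3 → F} (h : Mem P u₀ φ₀ u φ) (hu : u₀ ≠ 0) (hφ : φ₀ ≠ 0) : u ≠ 0 ∧ φ ≠ 0 := by
  obtain ⟨g, hg, l, hl, rfl, rfl⟩ := h
  exact ⟨smul_ne_zero hl fun e => hu (gl_mulVec_eq_zero.1 e),
    smul_ne_zero (inv_ne_zero hl) (vecMul_inv_ne_zero hφ g)⟩

/-- products of class pairs, moved to the base pair -/
theorem Mem.pr_base {u φ w ψ : Fin 3 → F} (h : Mem P u₀ φ₀ u φ) (h' : Mem P u₀ φ₀ w ψ) :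
    ∃ w' ψ', Mem P u₀ φ₀ w' ψ' ∧ pr u φ w ψ = pr u₀ φ₀ w' ψ' := by
  obtain ⟨g, hg, l, hl, rfl, rfl⟩ := h
  refine ⟨_, _, h'.conj (P.inv_mem hg), ?_⟩
  rw [pr_smul_left _ _ _ _ hl]
  conv_rhs => rw [← pr_conj g, gl_mulVec_inv, inv_inv, vecMul_vecMul, Units.mul_inv, vecMul_one]

/-- the centres of the class span -/
theorem exists_centre (hc : Core P) (hu : u₀ ≠ 0) {W : Submodule F (Fin 3 → F)} (hW : W ≠ ⊤) :
    ∃ w ψ, Mem P u₀ φ₀ w ψ ∧ w ∉ W := by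
  by_contra hcon
  push Not at hcon
  refine hW (eq_top_iff.2 ?_)
  have hS : Submodule.span F {w | ∃ ψ, Mem P u₀ φ₀ w ψ} = ⊤ := by
    refine (hc.irr _ fun g hg w hw => ?_).resolve_left fun e => hu ?_
    · induction hw using Submodule.span_induction with
      | mem v hv => obtain ⟨ψ, hψ⟩ := hv; exact Submodule.subset_span ⟨_, hψ.conj hg⟩
      | zero => simp
      | add x y _ _ hx hy => rw [mulVec_add]; exact add_mem hx hy
      | smul c x _ hx => rw [mulVec_smul]; exact Submodule.smul_mem _ c hx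
    · have : u₀ ∈ Submodule.span F {w | ∃ ψ, Mem P u₀ φ₀ w ψ} := Submodule.subset_span ⟨φ₀, Mem.refl⟩
      rwa [e, Submodule.mem_bot] at this
  rw [← hS, Submodule.span_le]
  rintro w ⟨ψ, hψ⟩
  exact hcon w ψ hψ

/-- a third member with independent centre -/
theorem exists_third (hc : Core P) (hu : u₀ ≠ 0) (u w : Fin 3 → F) :
    ∃ z ζ, Mem P u₀ φ₀ z ζ ∧ ∀ a b : F, z ≠ a • u + b • w := by
  obtain ⟨z, ζ, hz, hout⟩ := exists_centre (φ₀ := φ₀) hc hu (W := Submodule.span F (Set.range ![u, w])) fun e => by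
    have h1 := finrank_range_le_card (R := F) (M := Fin 3 → F) ![u, w]
    rw [Set.finrank, e, finrank_top, Module.finrank_fin_fun, Fintype.card_fin] at h1
    omega
  refine ⟨z, ζ, hz, fun a b h => hout (h ▸ add_mem ?_ ?_)⟩
  · exact Submodule.smul_mem _ a (Submodule.subset_span ⟨0, rfl⟩)
  · exact Submodule.smul_mem _ b (Submodule.subset_span ⟨1, rfl⟩)

/-- an opposite pair in the class -/
theorem exists_partner (hc : Core P) (hu : u₀ ≠ 0) (hφ : φ₀ ≠ 0) (h0 : Has P u₀ φ₀) :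
    ∃ w ψ, Mem P u₀ φ₀ w ψ ∧ pr u₀ φ₀ w ψ ≠ 0 := by
  by_contra hcon
  push Not at hcon
  have hall : ∀ u φ w ψ, Mem P u₀ φ₀ u φ → Mem P u₀ φ₀ w ψ → φ ⬝ᵥ w = 0 ∨ ψ ⬝ᵥ u = 0 := by
    intro u φ w ψ h h'
    obtain ⟨w', ψ', hm, e⟩ := h.pr_base h'
    exact mul_eq_zero.1 (show pr u φ w ψ = 0 by rw [e, hcon w' ψ' hm])
  obtain ⟨w, ψ, hm, hw⟩ := exists_centre (φ₀ := φ₀) hc hu (W := LinearMap.ker (SingTv.fnl φ₀)) fun e => by
    obtain ⟨x, hx⟩ := exists_dot_ne_zero hφ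
    exact hx (LinearMap.mem_ker.1 (e ▸ Submodule.mem_top : x ∈ LinearMap.ker (SingTv.fnl φ₀)))
  have hw' : φ₀ ⬝ᵥ w ≠ 0 := fun e => hw (LinearMap.mem_ker.2 e)
  have hψu : ψ ⬝ᵥ u₀ = 0 := (hall _ _ _ _ Mem.refl hm).resolve_left hw'
  have hψ := (hm.ne_zero hu hφ).2
  have h2 := (Mem.refl (P := P) (u₀ := u₀) (φ₀ := φ₀)).tvconj (hm.has h0)
  rw [hψu, zero_smul, add_zero] at h2
  -- every axis of the class contains the base centre
  have hax : ∀ z ζ, Mem P u₀ φ₀ z ζ → ζ ⬝ᵥ u₀ = 0 := by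
    intro z ζ hz
    by_contra hne
    have a := (hall _ _ _ _ Mem.refl hz).resolve_right hne
    have b := (hall _ _ _ _ h2 hz).resolve_right hne
    rw [sub_dotProduct, a, smul_dotProduct, zero_sub, neg_eq_zero, smul_eq_mul] at b
    rcases smul_or_smul hu hψ hψu ((mul_eq_zero.1 b).resolve_left hw') h0.orth a with ⟨c, rfl⟩ | ⟨c, hc'⟩
    · refine hne ?_
      have hh := (hz.has h0).orth
      rw [dotProduct_smul, smul_eq_mul] at hh
      exact (mul_eq_zero.1 hh).resolve_left fun e => (hz.ne_zero hu hφ).1 (by rw [e, zero_smul])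
    · exact hw' (by rw [hc', smul_dotProduct, (hm.has h0).orth, smul_zero])
  let W : Submodule F (Fin 3 → F) :=
    { carrier := {v | ∀ z ζ, Mem P u₀ φ₀ z ζ → ζ ⬝ᵥ v = 0}
      add_mem' := fun {a b} ha hb z ζ hz => by rw [dotProduct_add, ha z ζ hz, hb z ζ hz, add_zero]
      zero_mem' := fun z ζ _ => dotProduct_zero ζ
      smul_mem' := fun c a ha z ζ hz => by rw [dotProduct_smul, ha z ζ hz, smul_zero] }
  rcases hc.irr W (fun g hg v hv z ζ hz => by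
    have := hv _ _ (hz.conj (P.inv_mem hg))
    rwa [inv_inv, ← dotProduct_mulVec] at this) with e | e
  · exact hu ((Submodule.mem_bot F).1 (e ▸ (hax : u₀ ∈ W)))
  · obtain ⟨x, hx⟩ := exists_dot_ne_zero hφ
    exact hx ((e ▸ Submodule.mem_top : x ∈ W) u₀ φ₀ Mem.refl)

/-- two axes at one centre -/
def TwoAx (P : Subgroup (GL (Fin 3) F)) (u₀ φ₀ : Fin 3 → F) : Prop :=
  ∃ ψ, Mem P u₀ φ₀ u₀ ψ ∧ ∀ c : F, ψ ≠ c • φ₀

theorem twoAx_of {u φ φ' : Fin 3 → F} {c : F} (h : Mem P u₀ φ₀ u φ) (h' : Mem P u₀ φ₀ (c • u) φ') (hc : c ≠ 0)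
    (hne : ∀ d : F, φ' ≠ d • φ) : TwoAx P u₀ φ₀ := by
  have h1 := h'.scale (inv_ne_zero hc)
  rw [smul_smul, inv_mul_cancel₀ hc, one_smul, inv_inv] at h1
  obtain ⟨g, hg, l, hl, rfl, rfl⟩ := h
  have h2 := (h1.conj (P.inv_mem hg)).scale (inv_ne_zero hl)
  rw [mulVec_smul, gl_inv_mulVec, inv_inv, inv_inv, smul_smul, inv_mul_cancel₀ hl, one_smul] at h2
  refine ⟨_, h2, fun d hd => hne (c⁻¹ * d) ?_⟩
  have := congrArg (fun v => (l⁻¹ * c⁻¹) • (v ᵥ* ((g⁻¹ : GL (Fin 3) F) : Matrix (Fin 3) (Fin 3) F))) hd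
  simp only [smul_vecMul, vecMul_vecMul, Units.mul_inv, vecMul_one, smul_smul] at this
  rw [show l⁻¹ * c⁻¹ * (l * c) = 1 by field_simp, one_smul] at this
  rw [this, smul_smul]
  congr 1
  ring

/-! ### the contragredient group -/

theorem scalars_ctr {z : GL (Fin 3) F} (hz : z ∈ scalars (Fin 3) F) : ctr z ∈ scalars (Fin 3) F := by
  obtain ⟨c, hc⟩ := hz
  refine ⟨c⁻¹, Units.ext ?_⟩
  rw [ctr_val, ← hc, ← map_inv]
  simp [Matrix.diagonal_transpose]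

theorem Core.dual (hc : Core P) : Core (dualGrp P) := by
  refine ⟨fun W hW => ?_, ?_⟩
  · let W' : Submodule F (Fin 3 → F) :=
      { carrier := {v | ∀ w ∈ W, w ⬝ᵥ v = 0}
        add_mem' := fun {a b} ha hb w hw => by rw [dotProduct_add, ha w hw, hb w hw, add_zero]
        zero_mem' := fun w _ => dotProduct_zero w
        smul_mem' := fun c a ha w hw => by rw [dotProduct_smul, ha w hw, smul_zero] }
    rcases hc.irr W' (fun g hg v hv w hw => by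
      have hm := hW _ ⟨g⁻¹, P.inv_mem hg, rfl⟩ w hw
      rw [ctr_val, inv_inv, mulVec_transpose] at hm
      rw [dotProduct_mulVec]
      exact hv _ hm) with e | e
    · right
      by_contra hne
      obtain ⟨L, hL0, hL⟩ := Submodule.exists_le_ker_of_lt_top W (lt_top_iff_ne_top.2 hne)
      have hmem : fvec L ∈ W' := fun w hw => by
        rw [dotProduct_comm, fvec_dot]
        exact LinearMap.mem_ker.1 (hL hw)
      rw [e, Submodule.mem_bot] at hmem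
      exact hL0 (LinearMap.ext fun x => by rw [← fvec_dot, hmem, zero_dotProduct, LinearMap.zero_apply])
    · left
      refine eq_bot_iff.2 fun w hw => (Submodule.mem_bot F).2 (funext fun i => ?_)
      simpa using (e ▸ Submodule.mem_top : (Pi.single i 1 : Fin 3 → F) ∈ W') w hw
  · rintro _ ⟨t, ht, rfl⟩ hts K hK x hx
    obtain ⟨y, hy, rfl⟩ := hx
    exact (hc.nc t ht (fun h => hts (scalars_ctr h)) (K.comap ctr) (fun g hg => by
      show ctr (g * t * g⁻¹) ∈ K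
      rw [map_mul, map_mul, map_inv]
      exact hK _ ⟨g, hg, rfl⟩)) hy

theorem mem_dual {u φ : Fin 3 → F} : Mem (dualGrp P) φ₀ u₀ φ u ↔ Mem P u₀ φ₀ u φ := by
  constructor
  · rintro ⟨_, ⟨g, hg, rfl⟩, l, hl, h1, h2⟩
    refine ⟨g, hg, l⁻¹, inv_ne_zero hl, ?_, ?_⟩
    · rw [h2, ← map_inv, ctr_val, inv_inv, vecMul_transpose]
    · rw [h1, inv_inv, ctr_val, mulVec_transpose]
  · rintro ⟨g, hg, l, hl, rfl, rfl⟩
    refine ⟨_, ⟨g, hg, rfl⟩, l⁻¹, inv_ne_zero hl, ?_, ?_⟩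
    · rw [ctr_val, mulVec_transpose]
    · rw [inv_inv, ← map_inv, ctr_val, inv_inv, vecMul_transpose]

/-- two centres on one axis -/
def TwoCen (P : Subgroup (GL (Fin 3) F)) (u₀ φ₀ : Fin 3 → F) : Prop := TwoAx (dualGrp P) φ₀ u₀

theorem twoCen_of {u u' φ : Fin 3 → F} {c : F} (h : Mem P u₀ φ₀ u φ) (h' : Mem P u₀ φ₀ u' (c • φ)) (hc : c ≠ 0)
    (hne : ∀ d : F, u' ≠ d • u) : TwoCen P u₀ φ₀ :=
  twoAx_of (mem_dual.2 h) (mem_dual.2 h') hc hne

end CfsgLib.Perm.Trans.ThreeRes.Tv
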