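import Cfsg.Agent.Lib.Perm.Trans.ThreeRes.Tv.Conj

/-!
# Centres and axes in bijection: triangles

Two members of the class with different centres are opposite; for three members with independent centres the zero
rule holds, and the field of nine elements does not occur.
-/

set_option autoImplicit false
set_option linter.all false

namespace CfsgLib.Perm.Trans.ThreeRes.Tv

open scoped Matrix
open Matrix Cfsg.Geo CfsgLib.Perm.Asch CfsgLib.Perm.Trans CfsgLib.Perm.Trans.ThreeDim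

variable {F : Type*} [Field F] {P : Subgroup (GL (Fin 3) F)} {u₀ φ₀ : Fin 3 → F} {K : Subfield F}

/-- one axis at each centre and one centre on each axis -/
def Single (P : Subgroup (GL (Fin 3) F)) (u₀ φ₀ : Fin 3 → F) : Prop := ¬ TwoAx P u₀ φ₀ ∧ ¬ TwoCen P u₀ φ₀

theorem Single.opp (hS : Single P u₀ φ₀) (hr : Root P u₀ φ₀ K) {u φ z ζ : Fin 3 → F} (h : Mem P u₀ φ₀ u φ)
    (h' : Mem P u₀ φ₀ z ζ) (hne : ∀ c : F, z ≠ c • u) : φ ⬝ᵥ z ≠ 0 ∧ ζ ⬝ᵥ u ≠ 0 := by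
  obtain ⟨hu, hφ⟩ := h.ne_zero hr.ne_u hr.ne_φ
  obtain ⟨hz, hζ⟩ := h'.ne_zero hr.ne_u hr.ne_φ
  have key : ∀ {u φ z ζ : Fin 3 → F}, Mem P u₀ φ₀ u φ → Mem P u₀ φ₀ z ζ → (∀ c : F, z ≠ c • u) →
      φ ⬝ᵥ z = 0 → ζ ⬝ᵥ u = 0 := by
    intro u φ z ζ h h' hne h0
    by_contra h1
    have hm := h.tvconj (h'.has hr.base)
    rw [h0, zero_smul, sub_zero] at hm
    refine hS.2 (twoCen_of (c := 1) h (by rw [one_smul]; exact hm) one_ne_zero fun d hd => ?_)
    obtain ⟨e, he⟩ : ∃ e, e = d - 1 := ⟨_, rfl⟩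
    refine hne ((ζ ⬝ᵥ u)⁻¹ * e) ?_
    rw [mul_smul, he, sub_smul, one_smul, ← hd, add_sub_cancel_left, smul_smul, inv_mul_cancel₀ h1, one_smul]
  have hne' : ∀ c : F, u ≠ c • z := fun c hc => by
    have hc0 : c ≠ 0 := fun e => hu (by rw [hc, e, zero_smul])
    exact hne c⁻¹ (by rw [hc, smul_smul, inv_mul_cancel₀ hc0, one_smul])
  have both : φ ⬝ᵥ z = 0 → ζ ⬝ᵥ u = 0 → False := fun a b => by
    rcases smul_or_smul hu hφ (h.has hr.base).orth a b (h'.has hr.base).orth with ⟨c, hc⟩ | ⟨c, hc⟩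
    · exact hne c hc
    · exact hS.2 (twoCen_of h (hc ▸ h') (fun e => hζ (by rw [hc, e, zero_smul])) hne)
  exact ⟨fun a => both a (key h h' hne a), fun b => both (key h' h hne' b) b⟩

/-- the conjugate of the second member by the first, paired with the third -/
theorem Single.zero_rule (hS : Single P u₀ φ₀) (hr : Root P u₀ φ₀ K) {u₁ φ₁ u₂ φ₂ u₃ φ₃ : Fin 3 → F}
    (h₁ : Mem P u₀ φ₀ u₁ φ₁) (h₂ : Mem P u₀ φ₀ u₂ φ₂) (h₃ : Mem P u₀ φ₀ u₃ φ₃)
    (hind : ∀ a b : F, u₃ ≠ a • u₁ + b • u₂) {c : F} (hc : Has P (c • u₁) φ₁) :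
    (φ₃ ⬝ᵥ u₂ + c * (φ₁ ⬝ᵥ u₂) * (φ₃ ⬝ᵥ u₁)) * (φ₂ ⬝ᵥ u₃ - c * (φ₂ ⬝ᵥ u₁) * (φ₁ ⬝ᵥ u₃)) ∈ K ∧
      φ₃ ⬝ᵥ u₂ + c * (φ₁ ⬝ᵥ u₂) * (φ₃ ⬝ᵥ u₁) ≠ 0 ∧ φ₂ ⬝ᵥ u₃ - c * (φ₂ ⬝ᵥ u₁) * (φ₁ ⬝ᵥ u₃) ≠ 0 := by
  have hm := h₂.tvconj hc
  have e1 : φ₃ ⬝ᵥ (u₂ + (φ₁ ⬝ᵥ u₂) • c • u₁) = φ₃ ⬝ᵥ u₂ + c * (φ₁ ⬝ᵥ u₂) * (φ₃ ⬝ᵥ u₁) := by
    simp only [dotProduct_add, dotProduct_smul, smul_eq_mul]
    ring
  have e2 : (φ₂ - (φ₂ ⬝ᵥ c • u₁) • φ₁) ⬝ᵥ u₃ = φ₂ ⬝ᵥ u₃ - c * (φ₂ ⬝ᵥ u₁) * (φ₁ ⬝ᵥ u₃) := by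
    simp only [sub_dotProduct, smul_dotProduct, dotProduct_smul, smul_eq_mul]
  obtain ⟨o1, o2⟩ := hS.opp hr hm h₃ fun a h => hind (a * (φ₁ ⬝ᵥ u₂) * c) a (by
    rw [h, smul_add, smul_smul, smul_smul]
    abel)
  rw [e2] at o1
  rw [e1] at o2
  have hk := hr.pr_mem _ _ _ _ hm h₃
  rw [pr, e1, e2, mul_comm] at hk
  exact ⟨hk, o2, o1⟩

/-- the fourth roots of unity in the field of nine elements -/
def fsq (v : ZMod 3 × ZMod 3) : Prop := v = (1, 0) ∨ v = (2, 0) ∨ v = (0, 1) ∨ v = (0, 2)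

instance : DecidablePred fsq := fun v => by unfold fsq; infer_instance

/-- multiplication in the field of nine elements -/
def fmul (v w : ZMod 3 × ZMod 3) : ZMod 3 × ZMod 3 := (v.1 * w.1 - v.2 * w.2, v.1 * w.2 + v.2 * w.1)

theorem square_form : ∀ b k d : ZMod 3 × ZMod 3, fsq b → fsq k → ∃ x, ¬ fsq (b + fmul d x - fmul k (fmul x x)) := by
  decide +kernel

theorem fsq_mul_i : ∀ y, fsq y → fsq (fmul (0, 1) y) := by decide +kernel

theorem fsq_div : ∀ m y, m ≠ 0 → fsq (fmul (fmul m m) y) → fsq y := by decide +kernel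

variable [Fintype F]

/-- the field of nine elements does not occur -/
theorem Single.nine_false (hS : Single P u₀ φ₀) (hc : Core P) (hr : Root P u₀ φ₀ K) (hn : Nine P u₀ φ₀ K) :
    False := by
  classical
  obtain ⟨h3, hs, i, hi, hK, w, ψ, hm, he⟩ := hn
  have h13 : (1 : F) ≠ -1 := fun e => one_ne_zero (α := F) (by linear_combination h3 - e)
  have hi0 : i ≠ 0 := fun h => by rw [h] at hi; simp at hi
  haveI : CharP F 3 := by
    obtain ⟨p, hp⟩ := CharP.exists F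
    haveI := hp
    rcases CharP.char_is_prime_or_zero F p with hpp | rfl
    · have h3' : ((3 : ℕ) : F) = 0 := by exact_mod_cast h3
      rwa [(Nat.prime_dvd_prime_iff_eq hpp Nat.prime_three).1 ((CharP.cast_eq_zero_iff F p 3).1 h3')] at hp
    · exfalso
      haveI := CharP.charP_to_charZero F
      norm_num at h3
  obtain ⟨φc, hφc⟩ : ∃ φc : ZMod 3 →+* F, φc = ZMod.castHom (dvd_refl 3) F := ⟨_, rfl⟩
  obtain ⟨v, hv⟩ : ∃ v : ZMod 3 × ZMod 3 → F, ∀ x, v x = φc x.1 + φc x.2 * i := ⟨fun x => _, fun x => rfl⟩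
  have hvK : ∀ x ∈ K, ∃ y, v y = x := fun x hx => by
    obtain ⟨a, b, rfl⟩ := hK x hx
    exact ⟨((a : ZMod 3), (b : ZMod 3)), by rw [hv, map_natCast, map_natCast]⟩
  have hvadd : ∀ x y, v (x + y) = v x + v y := fun x y => by
    rw [hv, hv, hv, Prod.fst_add, Prod.snd_add, map_add, map_add]; ring
  have hvsub : ∀ x y, v (x - y) = v x - v y := fun x y => by
    rw [hv, hv, hv, Prod.fst_sub, Prod.snd_sub, map_sub, map_sub]; ring
  have hvmul : ∀ x y, v (x.1 * y.1 - x.2 * y.2, x.1 * y.2 + x.2 * y.1) = v x * v y := fun x y => by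
    simp only [hv, map_sub, map_add, map_mul]
    linear_combination (-(φc x.2 * φc y.2)) * hi
  have hvinj : ∀ x y, v x = v y → x = y := by
    intro x y h
    rw [← sub_eq_zero, ← hvsub] at h
    rw [← sub_eq_zero]
    generalize x - y = z at h ⊢
    rw [hv] at h
    by_cases h2 : z.2 = 0
    · rw [h2, map_zero, zero_mul, add_zero, ← map_zero φc] at h
      exact Prod.ext (φc.injective h) h2
    · exfalso
      have hb : φc z.2 ≠ 0 := (map_ne_zero φc).2 h2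
      have hi' : i = φc (-z.1 * z.2⁻¹) := by
        rw [map_mul, map_neg, map_inv₀, ← div_eq_mul_inv, eq_div_iff hb]
        linear_combination h
      rw [hi', ← map_pow, ← map_one φc, ← map_neg φc] at hi
      have := φc.injective hi
      revert this
      rcases zmod_three_cases (-z.1 * z.2⁻¹) with e | e | e <;> rw [e] <;> decide
  obtain ⟨hu, hφ⟩ := hm.ne_zero hr.ne_u hr.ne_φ
  have hroot : ∀ z ζ, Mem P u₀ φ₀ z ζ → ∀ a : F, a = 1 ∨ a = -1 → Has P (a • z) ζ := by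
    intro z ζ hz a ha
    rcases ha with rfl | rfl
    · rw [one_smul]; exact hz.has hr.base
    · exact (has_smul_iff z ζ).2 (by rw [neg_one_smul]; exact (hz.has hr.base).neg)
  -- a product different from zero is a fourth root of unity
  have hsq : ∀ y : ZMod 3 × ZMod 3, v y = 1 ∨ v y = -1 ∨ v y = i ∨ v y = -i → fsq y := by
    have c1 : v (1, 0) = 1 := by simp [hv]
    have c2 : v (2, 0) = -1 := by
      rw [hv]; simp only [map_zero, zero_mul, add_zero]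
      rw [show (2 : ZMod 3) = -1 by decide, map_neg, map_one]
    have c3 : v (0, 1) = i := by simp [hv]
    have c4 : v (0, 2) = -i := by
      rw [hv]; simp only [map_zero, zero_add]
      rw [show (2 : ZMod 3) = -1 by decide, map_neg, map_one, neg_one_mul]
    intro y h
    rcases h with h | h | h | h
    · exact Or.inl (hvinj _ _ (h.trans c1.symm))
    · exact Or.inr (Or.inl (hvinj _ _ (h.trans c2.symm)))
    · exact Or.inr (Or.inr (Or.inl (hvinj _ _ (h.trans c3.symm))))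
    · exact Or.inr (Or.inr (Or.inr (hvinj _ _ (h.trans c4.symm))))
  haveI : Fact (Nat.Prime 3) := ⟨Nat.prime_three⟩
  have hpr : ∀ u φ z ζ, Mem P u₀ φ₀ u φ → Mem P u₀ φ₀ z ζ → pr u φ z ζ ≠ 0 →
      ∀ y, v y = pr u φ z ζ → fsq y := by
    intro u φ z ζ h h' hne y hy
    refine hsq y ?_
    rcases pair_cases 3 (h.has hr.base) (h'.has hr.base) hne (fun e => by omega) with ⟨K', hK', hiff⟩ | ⟨-, h2, -⟩
    · obtain ⟨a, b⟩ := h.ne_zero hr.ne_u hr.ne_φ
      rcases hs u φ a b (h.has hr.base) _ ((hiff _).2 hK') with e | e | e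
      · exact absurd e hne
      · exact Or.inl (hy.trans e)
      · exact Or.inr (Or.inl (hy.trans e))
    · have : (pr u φ z ζ - i) * (pr u φ z ζ + i) = 0 := by linear_combination h2 - hi
      rcases mul_eq_zero.1 this with e | e
      · exact Or.inr (Or.inr (Or.inl (hy.trans (sub_eq_zero.1 e))))
      · exact Or.inr (Or.inr (Or.inr (hy.trans (eq_neg_of_add_eq_zero_left e))))
  -- the ten centres on a line
  obtain ⟨s12, hs12⟩ : ∃ s, s = φ₀ ⬝ᵥ w := ⟨_, rfl⟩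
  obtain ⟨s21, hs21⟩ : ∃ s, s = ψ ⬝ᵥ u₀ := ⟨_, rfl⟩
  have he' : s12 * s21 = i := by rw [hs12, hs21]; exact he
  obtain ⟨Good, hGood⟩ : ∃ G : F → Prop, ∀ x, G x ↔ ∃ μ : F, μ ∈ K ∧ μ ≠ 0 ∧
      Mem P u₀ φ₀ (μ • (w + (x * s12) • u₀)) (μ • (ψ - (x * s21) • φ₀)) := ⟨_, fun x => Iff.rfl⟩
  have hstart : Good 0 := (hGood 0).2 ⟨1, K.one_mem, one_ne_zero, by simpa using hm⟩
  have hψw : ψ ⬝ᵥ w = 0 := (hm.has hr.base).orth
  have hadd : ∀ x c : F, Good x → c = 1 ∨ c = -1 → Good (x + c) := by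
    intro x c hx hc'
    obtain ⟨μ, hμ, hμ0, hmem⟩ := (hGood x).1 hx
    refine (hGood _).2 ⟨μ, hμ, hμ0, ?_⟩
    convert hmem.tvconj (hroot _ _ Mem.refl c hc') using 1
    · simp only [dotProduct_add, dotProduct_smul, smul_eq_mul, hr.base.orth, ← hs12, mul_zero, add_zero, smul_add,
        smul_smul, add_assoc, ← add_smul]
      congr 2
      ring
    · simp only [smul_dotProduct, sub_dotProduct, dotProduct_smul, smul_eq_mul, hr.base.orth, ← hs21, mul_zero,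
        sub_zero, smul_sub, smul_smul, sub_sub, ← add_smul]
      congr 2
      ring
  have hinv : ∀ c : F, c = 1 ∨ c = -1 → Good 1 → Good (-1 + c * i) := by
    intro c hc' hx
    obtain ⟨μ, hμ, hμ0, hmem⟩ := (hGood 1).1 hx
    have hc2 : c * c = 1 := by rcases hc' with rfl | rfl <;> ring
    have hcK : c ∈ K := by
      rcases hc' with rfl | rfl
      exacts [K.one_mem, K.neg_mem K.one_mem]
    have hiK : i ∈ K := he ▸ hr.pr_mem _ _ _ _ Mem.refl hm
    have hprod : (1 + c * i) * (-1 + c * i) = 1 := by linear_combination c * c * hi - hc2 - h3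
    refine (hGood _).2 ⟨μ * (1 + c * i), K.mul_mem hμ (K.add_mem K.one_mem (K.mul_mem hcK hiK)),
      mul_ne_zero hμ0 (left_ne_zero_of_mul_eq_one hprod), ?_⟩
    convert hmem.tvconj (hroot _ _ hm c hc') using 1
    · simp only [dotProduct_add, dotProduct_smul, smul_eq_mul, hψw, ← hs21, zero_add, smul_add, smul_smul,
        one_mul, ← add_assoc]
      rw [add_right_comm, ← add_smul]
      congr 2
      · linear_combination (-(μ * c)) * he'
      · linear_combination (μ * s12) * hprod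
    · ext j
      simp only [smul_dotProduct, sub_dotProduct, dotProduct_smul, smul_eq_mul, hψw, ← hs12, zero_sub,
        Pi.smul_apply, Pi.sub_apply, one_mul]
      linear_combination (-(μ * c * ψ j)) * he' - (μ * s21 * φ₀ j) * hprod
  have h1 : Good 1 := by simpa using hadd 0 1 hstart (Or.inl rfl)
  have hall : ∀ y, Good (v y) := by
    have shift : ∀ x, Good x → ∀ a : ZMod 3, Good (x + φc a) := by
      intro x hx a
      rcases zmod_three_cases a with e | e | e <;> rw [e]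
      · simpa using hx
      · rw [map_one]; exact hadd x 1 hx (Or.inl rfl)
      · rw [map_neg, map_one]; exact hadd x (-1) hx (Or.inr rfl)
    rintro ⟨a, b⟩
    rw [hv]
    rcases zmod_three_cases b with e | e | e <;> simp only [e]
    · simpa using shift 0 hstart a
    · have := shift _ (hinv 1 (Or.inl rfl) h1) (a + 1)
      rw [map_one, one_mul]
      convert this using 1
      rw [map_add, map_one]
      ring
    · have := shift _ (hinv (-1) (Or.inr rfl) h1) (a + 1)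
      rw [map_neg, map_one, neg_one_mul]
      convert this using 1
      rw [map_add, map_one]
      ring
  -- a third member
  obtain ⟨z, ζ, hz, hind⟩ := exists_third (φ₀ := φ₀) hc hr.ne_u u₀ w
  obtain ⟨a13, a31⟩ := hS.opp hr Mem.refl hz fun c h => hind c 0 (by simpa using h)
  obtain ⟨a23, a32⟩ := hS.opp hr hm hz fun c h => hind 0 c (by simpa using h)
  obtain ⟨yb, hyb⟩ := hvK _ (hr.pr_mem _ _ _ _ hm hz)
  obtain ⟨ya, hya⟩ := hvK _ (hr.pr_mem _ _ _ _ Mem.refl hz)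
  have hb := hpr _ _ _ _ hm hz (mul_ne_zero a23 a32) yb hyb
  have ha := hpr _ _ _ _ Mem.refl hz (mul_ne_zero a13 a31) ya hya
  obtain ⟨k, hk⟩ : ∃ k, k = fmul (0, 1) ya := ⟨_, rfl⟩
  have hks : fsq k := hk ▸ fsq_mul_i ya ha
  have hvi : v (0, 1) = i := by simp [hv]
  have hvk : v k = i * pr u₀ φ₀ z ζ := by rw [hk, fmul, hvmul, hvi, hya]
  obtain ⟨d, hd⟩ : ∃ d, d = s12 * (ψ ⬝ᵥ z) * (ζ ⬝ᵥ u₀) - (φ₀ ⬝ᵥ z) * (ζ ⬝ᵥ w) * s21 := ⟨_, rfl⟩
  obtain ⟨yd, hyd⟩ : ∃ yd, v yd = d := by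
    refine hvK d ?_
    have h' := (hS.zero_rule hr Mem.refl hm hz hind (hroot _ _ Mem.refl 1 (Or.inl rfl))).1
    have hbK := hr.pr_mem _ _ _ _ hm hz
    have haK := K.mul_mem (he ▸ hr.pr_mem _ _ _ _ Mem.refl hm : i ∈ K) (hr.pr_mem _ _ _ _ Mem.refl hz)
    convert K.add_mem (K.sub_mem h' hbK) haK using 1
    rw [pr, pr, hd, ← hs12, ← hs21, ← he']
    ring
  obtain ⟨x, hx⟩ := square_form yb k yd hb hks
  obtain ⟨μ, hμ, hμ0, hmem⟩ := (hGood _).1 (hall x)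
  obtain ⟨ym, rfl⟩ := hvK μ hμ
  have hne : ∀ c : F, z ≠ c • (v ym • (w + (v x * s12) • u₀)) := fun c h =>
    hind (c * v ym * (v x * s12)) (c * v ym) (by rw [h, smul_add, smul_add, smul_smul, smul_smul, smul_smul, add_comm])
  obtain ⟨o1, o2⟩ := hS.opp hr hmem hz hne
  have hval : v (fmul (fmul ym ym) (yb + fmul yd x - fmul k (fmul x x))) =
      pr (v ym • (w + (v x * s12) • u₀)) (v ym • (ψ - (v x * s21) • φ₀)) z ζ := by
    have hfm : ∀ x y, v (fmul x y) = v x * v y := hvmul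
    simp only [hfm, hvsub, hvadd, hvk, hyb, hyd, hd, ← he', pr, smul_dotProduct, dotProduct_smul, smul_eq_mul,
      sub_dotProduct, dotProduct_add, ← hs12, ← hs21]
    ring
  refine hx (fsq_div ym _ (fun h => hμ0 ?_) (hpr _ _ _ _ hmem hz (mul_ne_zero o1 o2) _ hval))
  rw [h, hv]
  simp

end CfsgLib.Perm.Trans.ThreeRes.Tv
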