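import Cfsg.Agent.Lib.Perm.Trans.ThreeRes.Tv.Base

/-!
# Characteristic two, root sets of size two: no large group of transvections with one centre

If commuting transvections always share their centre, the centres on a line give `SL(2, K)`; three independent
centres then make the transvections with one centre a full root group, against root sets of size two.
-/

set_option autoImplicit false
set_option linter.all false

namespace CfsgLib.Perm.Trans.ThreeRes.Tv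

open scoped Matrix
open Matrix Cfsg.Geo CfsgLib.Perm.Asch CfsgLib.Perm.Trans CfsgLib.Perm.Trans.ThreeDim
open CfsgLib.Perm.Trans.ThreeDim.SingTv (cng mem_cng Cen)
open CfsgLib.Perm.Dickson (upS loS)

variable {F : Type*} [Field F] {P : Subgroup (GL (Fin 3) F)}

/-- commuting transvections share their centre -/
def CommCentre (P : Subgroup (GL (Fin 3) F)) : Prop :=
  ∀ u φ z ζ : Fin 3 → F, u ≠ 0 → φ ≠ 0 → z ≠ 0 → ζ ≠ 0 → Has P u φ → Has P z ζ →
    (∀ x, x + (φ ⬝ᵥ x) • u + (ζ ⬝ᵥ (x + (φ ⬝ᵥ x) • u)) • z = x + (ζ ⬝ᵥ x) • z + (φ ⬝ᵥ (x + (ζ ⬝ᵥ x) • z)) • u) →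
    ∃ c : F, z = c • u

theorem CommCentre.opp (hC : CommCentre P) {u φ z ζ : Fin 3 → F} (hu : u ≠ 0) (hφ : φ ≠ 0) (hz : z ≠ 0)
    (hζ : ζ ≠ 0) (h : Has P u φ) (h' : Has P z ζ) (hne : ∀ c : F, z ≠ c • u) : φ ⬝ᵥ z ≠ 0 := by
  intro h0
  by_cases h1 : ζ ⬝ᵥ u = 0
  · obtain ⟨c, hc⟩ := hC u φ z ζ hu hφ hz hζ h h' fun x => by
      simp only [dotProduct_add, dotProduct_smul, smul_eq_mul, h0, h1, mul_zero, add_zero]
      abel
    exact hne c hc
  · obtain ⟨h'0, hm⟩ := h'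
    have hh := h.conj hm
    rw [tv_mulVec] at hh
    have hφ' : φ ᵥ* (((tv z ζ h'0)⁻¹ : GL (Fin 3) F) : Matrix (Fin 3) (Fin 3) F) = φ := by
      show φ ᵥ* (1 - vecMulVec z ζ) = φ
      rw [vecMul_sub, vecMul_one, vecMul_vecMulVec, h0, zero_smul, sub_zero]
    rw [hφ'] at hh
    obtain ⟨c, hc⟩ := hC u φ _ φ hu hφ (fun e => hne (-(ζ ⬝ᵥ u)⁻¹) (by
      have h2 := congrArg (fun v => (ζ ⬝ᵥ u)⁻¹ • v) e
      simp only [smul_add, smul_smul, inv_mul_cancel₀ h1, one_smul, smul_zero] at h2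
      rw [neg_smul]
      exact eq_neg_of_add_eq_zero_right h2))
      hφ h hh fun x => by
      simp only [dotProduct_add, dotProduct_smul, smul_eq_mul, h.orth, hh.orth, h0, mul_zero, add_zero, smul_add]
      abel
    refine hne ((ζ ⬝ᵥ u)⁻¹ * (c - 1)) ?_
    rw [mul_smul, sub_smul, one_smul, ← hc, add_sub_cancel_left, smul_smul, inv_mul_cancel₀ h1, one_smul]

variable [Fintype F]

theorem line_field [CharP F 2] (hsl : P ≤ specialLinear (Fin 3) F) (hC : CommCentre P) {u z φ₁ : Fin 3 → F} (hu : u ≠ 0) (hz : Cen P z)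
    (hne : ∀ c : F, z ≠ c • u) (hφ₁ : Has P u φ₁) (hφ₁0 : φ₁ ≠ 0) (h3 : 3 ≤ Nat.card (cng P u)) :
    ∃ K : Subfield F, Nat.card (cng P u) = Nat.card K ∧
      (∀ φ, Has P u φ → φ ⬝ᵥ z / (φ₁ ⬝ᵥ z) ∈ K) ∧
      (∀ k ∈ K, ∃ φ, Has P u φ ∧ φ ⬝ᵥ z = k * (φ₁ ⬝ᵥ z)) ∧
      ∀ ζ, Has P z ζ → (ζ ⬝ᵥ u) * (φ₁ ⬝ᵥ z) ∈ K := by
  classical
  haveI : Fact (Nat.Prime 2) := ⟨Nat.prime_two⟩
  obtain ⟨hz0, ζ₁, hζ₁0, hζ₁⟩ := hz
  have hd : φ₁ ⬝ᵥ z ≠ 0 := hC.opp hu hφ₁0 hz0 hζ₁0 hφ₁ hζ₁ hne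
  have hopp : ∀ φ, Has P u φ → φ ≠ 0 → φ ⬝ᵥ z ≠ 0 := fun φ h h0 => hC.opp hu h0 hz0 hζ₁0 h hζ₁ hne
  obtain ⟨w, hw⟩ : ∃ w, w = (φ₁ ⬝ᵥ z)⁻¹ • z := ⟨_, rfl⟩
  have hw0 : w ≠ 0 := hw ▸ smul_ne_zero (inv_ne_zero hd) hz0
  let G : Subgroup (SpecialLinearGroup (Fin 2) F) :=
    { carrier := {A | ∃ g ∈ P, (g : Matrix (Fin 3) (Fin 3) F) *ᵥ u = A.1 0 0 • u + A.1 1 0 • w ∧
        (g : Matrix (Fin 3) (Fin 3) F) *ᵥ w = A.1 0 1 • u + A.1 1 1 • w}
      one_mem' := ⟨1, P.one_mem, by simp, by simp⟩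
      mul_mem' := by
        rintro A B ⟨g, hg, g1, g2⟩ ⟨h, hh, h1, h2⟩
        refine ⟨g * h, P.mul_mem hg hh, ?_, ?_⟩
        · rw [gl_mul_mulVec, h1, mulVec_add, mulVec_smul, mulVec_smul, g1, g2, Matrix.SpecialLinearGroup.coe_mul]
          simp only [Matrix.mul_apply, Fin.sum_univ_two]
          module
        · rw [gl_mul_mulVec, h2, mulVec_add, mulVec_smul, mulVec_smul, g1, g2, Matrix.SpecialLinearGroup.coe_mul]
          simp only [Matrix.mul_apply, Fin.sum_univ_two]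
          module
      inv_mem' := by
        rintro A ⟨g, hg, g1, g2⟩
        have hdet := A.2
        rw [Matrix.det_fin_two] at hdet
        have hA : (A⁻¹).1 = A.1.adjugate := rfl
        refine ⟨g⁻¹, P.inv_mem hg, ?_, ?_⟩ <;> rw [hA, Matrix.adjugate_fin_two]
        · have e : (g : Matrix (Fin 3) (Fin 3) F) *ᵥ (A.1 1 1 • u + (-A.1 1 0) • w) = u := by
            rw [mulVec_add, mulVec_smul, mulVec_smul, g1, g2]
            linear_combination (norm := module) hdet • u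
          have e' := congrArg (fun v => ((g⁻¹ : GL (Fin 3) F) : Matrix (Fin 3) (Fin 3) F) *ᵥ v) e
          simp only [gl_inv_mulVec] at e'
          simpa using e'.symm
        · have e : (g : Matrix (Fin 3) (Fin 3) F) *ᵥ ((-A.1 0 1) • u + A.1 0 0 • w) = w := by
            rw [mulVec_add, mulVec_smul, mulVec_smul, g1, g2]
            linear_combination (norm := module) hdet • w
          have e' := congrArg (fun v => ((g⁻¹ : GL (Fin 3) F) : Matrix (Fin 3) (Fin 3) F) *ᵥ v) e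
          simp only [gl_inv_mulVec] at e'
          simpa using e'.symm }
  have hdw : ∀ φ, φ ⬝ᵥ w = φ ⬝ᵥ z / (φ₁ ⬝ᵥ z) := fun φ => by
    rw [hw, dotProduct_smul, smul_eq_mul, div_eq_mul_inv, mul_comm]
  have hup : ∀ φ, Has P u φ → upS (φ ⬝ᵥ w) ∈ G := fun φ h => by
    obtain ⟨h0, hm⟩ := h
    exact ⟨_, hm, by rw [tv_mulVec, h0]; simp [upS], by rw [tv_mulVec]; simp [upS, add_comm]⟩
  have hlo : ∀ ζ, Has P z ζ → loS ((ζ ⬝ᵥ u) * (φ₁ ⬝ᵥ z)) ∈ G := fun ζ h => by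
    obtain ⟨h0, hm⟩ := h
    refine ⟨_, hm, ?_, ?_⟩
    · rw [tv_mulVec, hw, smul_smul]
      simp [loS, mul_assoc, hd]
    · rw [tv_mulVec, hw, dotProduct_smul, h0, smul_zero, zero_smul, add_zero]
      simp [loS]
  have hwne : ∀ c : F, w ≠ c • u := fun c h => hne ((φ₁ ⬝ᵥ z) * c) (by
    rw [mul_smul, ← h, hw, smul_smul, mul_inv_cancel₀ hd, one_smul])
  have hwz : ∀ {x : Fin 3 → F}, (∃ c : F, x = c • z) → (∃ c : F, x = c • u) → x = 0 := by
    rintro x ⟨a, rfl⟩ ⟨b, hb⟩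
    rcases eq_or_ne a 0 with rfl | ha
    · rw [zero_smul]
    · exact absurd (show z = (a⁻¹ * b) • u by rw [mul_smul, ← hb, smul_smul, inv_mul_cancel₀ ha, one_smul]) (hne _)
  -- translations come from transvections with centre `u`
  have hback : ∀ t : F, upS t ∈ G → ∃ φ, Has P u φ ∧ φ ⬝ᵥ w = t := by
    rintro t ⟨g, hg, g1, g2⟩
    simp [upS] at g1 g2
    rcases eq_or_ne t 0 with rfl | ht
    · exact ⟨0, has_zero_right u, zero_dotProduct w⟩
    have hsq1 : ((g * g : GL (Fin 3) F) : Matrix (Fin 3) (Fin 3) F) *ᵥ u = u := by rw [gl_mul_mulVec, g1, g1]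
    have hsq2 : ((g * g : GL (Fin 3) F) : Matrix (Fin 3) (Fin 3) F) *ᵥ w = w := by
      rw [gl_mul_mulVec, g2, mulVec_add, mulVec_smul, g1, g2, ← add_assoc, ← add_smul, CharTwo.add_self_eq_zero,
        zero_smul, zero_add]
    obtain ⟨N, hN⟩ : ∃ N : (Fin 3 → F) →ₗ[F] (Fin 3 → F),
        ∀ x, N x = (g : Matrix (Fin 3) (Fin 3) F) *ᵥ x - x :=
      ⟨Matrix.toLin' ((g : Matrix (Fin 3) (Fin 3) F) - 1), fun x => by
        rw [Matrix.toLin'_apply, sub_mulVec, one_mulVec]⟩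
    have hgg : g * g = 1 := by
      obtain ⟨ε, hε0, hεu, hεw⟩ : ∃ ε : Fin 3 → F, ε ≠ 0 ∧ ε ⬝ᵥ u = 0 ∧ ε ⬝ᵥ w = 0 := by
        obtain ⟨L, hL0, hL⟩ := Submodule.exists_le_ker_of_lt_top (Submodule.span F (Set.range ![u, w]))
          (lt_top_iff_ne_top.2 fun e => by
            have h1 := finrank_range_le_card (R := F) (M := Fin 3 → F) ![u, w]
            rw [Set.finrank, e, finrank_top, Module.finrank_fin_fun, Fintype.card_fin] at h1
            omega)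
        refine ⟨fvec L, fun e => hL0 (LinearMap.ext fun x => by
          rw [← fvec_dot, e, zero_dotProduct, LinearMap.zero_apply]), ?_, ?_⟩
        · rw [fvec_dot]; exact LinearMap.mem_ker.1 (hL (Submodule.subset_span ⟨0, rfl⟩))
        · rw [fvec_dot]; exact LinearMap.mem_ker.1 (hL (Submodule.subset_span ⟨1, rfl⟩))
      obtain ⟨x, hx⟩ := exists_dot_ne_zero hε0
      obtain ⟨y, hy⟩ : ∃ y, y = (ε ⬝ᵥ x)⁻¹ • (((g * g : GL (Fin 3) F) : Matrix (Fin 3) (Fin 3) F) *ᵥ x - x) := ⟨_, rfl⟩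
      have hli : LinearIndependent F ![u, w] := (LinearIndependent.pair_iff' hu).2 fun c hc => hwne c hc.symm
      have hall : ∀ v, ((g * g : GL (Fin 3) F) : Matrix (Fin 3) (Fin 3) F) *ᵥ v = v + (ε ⬝ᵥ v) • y := by
        intro v
        have hk : ∀ r, ε ⬝ᵥ r = 0 → ((g * g : GL (Fin 3) F) : Matrix (Fin 3) (Fin 3) F) *ᵥ r = r := by
          intro r hr
          have hle : Submodule.span F (Set.range ![u, w]) ≤ LinearMap.ker (SingTv.fnl ε) := by
            rw [Submodule.span_le]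
            rintro _ ⟨i, rfl⟩
            fin_cases i
            exacts [hεu, hεw]
          have heq := Submodule.eq_of_le_of_finrank_eq hle (by
            rw [SingTv.finrank_ker_fnl hε0, finrank_span_eq_card hli, Fintype.card_fin])
          have hr' : r ∈ Submodule.span F (Set.range ![u, w]) := heq ▸ LinearMap.mem_ker.2 hr
          clear hr
          induction hr' using Submodule.span_induction with
          | mem q hq =>
            obtain ⟨i, rfl⟩ := hq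
            fin_cases i
            exacts [hsq1, hsq2]
          | zero => rw [mulVec_zero]
          | add a b _ _ ha hb => rw [mulVec_add, ha, hb]
          | smul a b _ hb => rw [mulVec_smul, hb]
        have h0 := hk (v - (ε ⬝ᵥ v / (ε ⬝ᵥ x)) • x) (by
          rw [dotProduct_sub, dotProduct_smul, smul_eq_mul, div_mul_cancel₀ _ hx, sub_self])
        rw [mulVec_sub, mulVec_smul, sub_eq_iff_eq_add] at h0
        rw [h0, hy, smul_smul, ← div_eq_mul_inv]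
        module
      have hεy : ε ⬝ᵥ y = 0 := by
        have hd1 : ((g * g : GL (Fin 3) F) : Matrix (Fin 3) (Fin 3) F) = 1 + vecMulVec y ε :=
          Matrix.ext_iff_mulVec.2 fun v => by
            rw [hall, add_mulVec, one_mulVec, vecMulVec_mulVec, op_smul_eq_smul]
        have hd2 := congrArg Matrix.det hd1
        rw [Units.val_mul, det_mul, vecMulVec_eq Unit, det_one_add_replicateCol_mul_replicateRow] at hd2
        have hg2 : ((g : Matrix (Fin 3) (Fin 3) F)).det * (g : Matrix (Fin 3) (Fin 3) F).det = 1 := by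
          have hd3 : ((g : Matrix (Fin 3) (Fin 3) F)).det = 1 := det_one_of_mem hsl hg
          rw [hd3, one_mul]
        rw [hg2] at hd2
        linear_combination -hd2
      have hH : Has P y ε := ⟨hεy, by
        rw [show tv y ε hεy = g * g from gl_ext_vec fun v => by rw [tv_mulVec, hall]]
        exact P.mul_mem hg hg⟩
      have hy0 : y = 0 := by
        by_contra hy0
        have a1 : ∃ c : F, u = c • y := by
          by_contra h
          push Not at h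
          exact hC.opp hy0 hε0 hu hφ₁0 hH hφ₁ h hεu
        have a2 : ∃ c : F, z = c • y := by
          by_contra h
          push Not at h
          refine hC.opp hy0 hε0 hz0 hζ₁0 hH hζ₁ h ?_
          rw [show z = (φ₁ ⬝ᵥ z) • w by rw [hw, smul_smul, mul_inv_cancel₀ hd, one_smul], dotProduct_smul, hεw,
            smul_zero]
        obtain ⟨a, ha⟩ := a1
        obtain ⟨b, hb⟩ := a2
        have ha0 : a ≠ 0 := fun e => hu (by rw [ha, e, zero_smul])
        exact hne (b * a⁻¹) (by rw [ha, smul_smul, inv_mul_cancel_right₀ ha0, hb])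
      refine gl_ext_vec fun v => ?_
      rw [hall, hy0, smul_zero, add_zero, Units.val_one, one_mulVec]
    have hNN : ∀ x, N (N x) = 0 := fun x => by
      rw [hN, hN, mulVec_sub, ← gl_mul_mulVec, hgg, Units.val_one, one_mulVec,
        show x - (g : Matrix (Fin 3) (Fin 3) F) *ᵥ x - ((g : Matrix (Fin 3) (Fin 3) F) *ᵥ x - x) =
          (2 : F) • x - (2 : F) • ((g : Matrix (Fin 3) (Fin 3) F) *ᵥ x) by module]
      simp [show (2 : F) = 0 from CharTwo.two_eq_zero]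
    have hu_mem : u ∈ LinearMap.range N := ⟨t⁻¹ • w, by
      rw [map_smul, hN, g2, add_sub_cancel_right, smul_smul, inv_mul_cancel₀ ht, one_smul]⟩
    have hspan : LinearMap.range N = Submodule.span F {u} := by
      refine (Submodule.eq_of_le_of_finrank_le ((Submodule.span_singleton_le_iff_mem _ _).2 hu_mem) ?_).symm
      rw [finrank_span_singleton hu]
      have h1 := LinearMap.finrank_range_add_finrank_ker N
      have h2 : LinearMap.range N ≤ LinearMap.ker N := by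
        rintro _ ⟨x, rfl⟩
        exact LinearMap.mem_ker.2 (hNN x)
      have h3 := Submodule.finrank_mono h2
      rw [Module.finrank_fin_fun] at h1
      omega
    have hc : ∀ x, ∃ c : F, c • u = N x := fun x => Submodule.mem_span_singleton.1 (hspan ▸ ⟨x, rfl⟩)
    choose c hc using hc
    obtain ⟨φ, hφ⟩ : ∃ φ : Fin 3 → F, φ = fun k => c (Pi.single k 1) := ⟨_, rfl⟩
    have hall : ∀ x, (g : Matrix (Fin 3) (Fin 3) F) *ᵥ x = x + (φ ⬝ᵥ x) • u := by
      intro x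
      have hcol : (g : Matrix (Fin 3) (Fin 3) F) = 1 + vecMulVec u φ := by
        ext i k
        rw [← show ((g : Matrix (Fin 3) (Fin 3) F) *ᵥ Pi.single k 1) i = (g : Matrix (Fin 3) (Fin 3) F) i k by
          rw [mulVec_single_one]; rfl, sub_eq_iff_eq_add.1 (hN (Pi.single k 1)).symm, ← hc, hφ]
        simp [Matrix.vecMulVec_apply, Pi.single_apply, Matrix.one_apply]
        ring
      rw [hcol, add_mulVec, one_mulVec, vecMulVec_mulVec, op_smul_eq_smul]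
    have hφu : φ ⬝ᵥ u = 0 := by
      have := hall u
      rw [g1, left_eq_add, smul_eq_zero] at this
      exact this.resolve_right hu
    refine ⟨φ, ⟨hφu, ?_⟩, ?_⟩
    · rw [show tv u φ hφu = g from gl_ext_vec fun x => by rw [tv_mulVec, hall]]
      exact hg
    · have := hall w
      rw [g2, add_comm, add_right_inj] at this
      have h' : (t - φ ⬝ᵥ w) • u = 0 := by rw [sub_smul, this, sub_self]
      exact (sub_eq_zero.1 ((smul_eq_zero.1 h').resolve_right hu)).symm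
  have hinj : ∀ φ ψ, Has P u φ → Has P u ψ → φ ⬝ᵥ z = ψ ⬝ᵥ z → φ = ψ := fun φ ψ a b h => by
    by_contra hne'
    refine hopp (φ - ψ) ((cng P u).sub_mem a b) (sub_ne_zero.2 hne') ?_
    rw [sub_dotProduct, h, sub_self]
  have h1 : upS 1 ∈ G := by
    have := hup φ₁ hφ₁
    rwa [hdw, div_self hd] at this
  have hbig : ∃ a, upS a ∈ G ∧ a ≠ 0 ∧ a ≠ 1 := by
    by_contra hcon
    push Not at hcon
    have hle : Nat.card (cng P u) ≤ ({0, 1} : Finset F).card := by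
      rw [← Nat.card_eq_finsetCard]
      refine Nat.card_le_card_of_injective (fun φ => (⟨(φ : Fin 3 → F) ⬝ᵥ w, by
        rcases eq_or_ne ((φ : Fin 3 → F) ⬝ᵥ w) 0 with e | e
        · simp [e]
        · simp [hcon _ (hup φ φ.2) e]⟩ : {x // x ∈ ({0, 1} : Finset F)})) fun φ ψ h => ?_
      have h' : (φ : Fin 3 → F) ⬝ᵥ w = (ψ : Fin 3 → F) ⬝ᵥ w := congrArg Subtype.val h
      rw [hdw, hdw, div_left_inj' hd] at h'
      exact Subtype.ext (hinj _ _ φ.2 ψ.2 h')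
    have := (Finset.card_le_two : ({0, 1} : Finset F).card ≤ 2)
    omega
  have he : (ζ₁ ⬝ᵥ u) * (φ₁ ⬝ᵥ z) ≠ 0 := mul_ne_zero (hC.opp hz0 hζ₁0 hu hφ₁0 hζ₁ hφ₁ fun c hc => by
    rcases eq_or_ne c 0 with rfl | h
    · exact hu (by rw [hc, zero_smul])
    · exact hne c⁻¹ (by rw [hc, smul_smul, inv_mul_cancel₀ h, one_smul])) hd
  obtain ⟨K, -, hK⟩ := (pair_field 2 h1 he (hlo ζ₁ hζ₁) fun _ => hbig).resolve_right fun h => absurd h.1 (by norm_num)
  refine ⟨K, ?_, fun φ h => hdw φ ▸ (hK _).1 (hup φ h), fun k hk => ?_, fun ζ h => ?_⟩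
  · refine Nat.card_congr (Equiv.ofBijective (fun φ => (⟨(φ : Fin 3 → F) ⬝ᵥ w, (hK _).1 (hup φ φ.2)⟩ : K)) ⟨?_, ?_⟩)
    · intro φ ψ hh
      have h' : (φ : Fin 3 → F) ⬝ᵥ w = (ψ : Fin 3 → F) ⬝ᵥ w := congrArg Subtype.val hh
      rw [hdw, hdw, div_left_inj' hd] at h'
      exact Subtype.ext (hinj _ _ φ.2 ψ.2 h')
    · rintro ⟨k, hk⟩
      obtain ⟨φ, h, e⟩ := hback k ((hK k).2 hk)
      exact ⟨⟨φ, h⟩, Subtype.ext e⟩
  · obtain ⟨φ, h, e⟩ := hback k ((hK k).2 hk)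
    rw [hdw] at e
    exact ⟨φ, h, by rw [← e, div_mul_cancel₀ _ hd]⟩
  · rcases eq_or_ne ((ζ ⬝ᵥ u) * (φ₁ ⬝ᵥ z)) 0 with e | e
    · rw [e]; exact K.zero_mem
    obtain ⟨K', hK'm, hK'⟩ := (pair_field 2 h1 e (hlo ζ h) fun _ => hbig).resolve_right fun h => absurd h.1 (by norm_num)
    exact (hK _).1 ((hK' _).2 hK'm)

theorem no_large_centre (hc : Core P) (hsl : P ≤ specialLinear (Fin 3) F) (h2 : Two P) (hC : CommCentre P)
    {u₀ φ₁ : Fin 3 → F} (hu : u₀ ≠ 0) (hφ : φ₁ ≠ 0) (h1 : Has P u₀ φ₁) (h3 : 3 ≤ Nat.card (cng P u₀))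
    (hall : ∀ u φ : Fin 3 → F, u ≠ 0 → φ ≠ 0 → Has P u φ → Nat.card (cng P u) = Nat.card (cng P u₀)) : False := by
  classical
  haveI : CharP F 2 := by
    obtain ⟨p, hp⟩ := CharP.exists F
    haveI := hp
    have hd := (CharP.cast_eq_zero_iff F p 2).1 (by exact_mod_cast h2.1)
    rwa [(Nat.prime_dvd_prime_iff_eq (CharP.char_is_prime F p) Nat.prime_two).1 hd] at hp
  obtain ⟨z₂, η₂, hm2, hout⟩ := exists_centre (φ₀ := φ₁) hc hu (W := Submodule.span F {u₀}) fun e => by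
    have h' := finrank_span_singleton (K := F) hu
    rw [e, finrank_top, Module.finrank_fin_fun] at h'
    omega
  have hne2 : ∀ c : F, z₂ ≠ c • u₀ := fun c h => hout (h ▸ Submodule.smul_mem _ c (Submodule.mem_span_singleton_self u₀))
  obtain ⟨z₃, η₃, hm3, hind⟩ := exists_third (φ₀ := φ₁) hc hu u₀ z₂
  have hz2 : Cen P z₂ := ⟨(hm2.ne_zero hu hφ).1, η₂, (hm2.ne_zero hu hφ).2, hm2.has h1⟩
  have hz3 : Cen P z₃ := ⟨(hm3.ne_zero hu hφ).1, η₃, (hm3.ne_zero hu hφ).2, hm3.has h1⟩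
  have hne3 : ∀ c : F, z₃ ≠ c • u₀ := fun c h => hind c 0 (by simpa using h)
  obtain ⟨K, hcard, hKa, hKs, hKb⟩ := line_field hsl hC hu hz2 hne2 h1 hφ h3
  obtain ⟨K₂, hcard₂, hK₂a, -, -⟩ := line_field hsl hC hu hz3 hne3 h1 hφ h3
  obtain rfl : K₂ = K := CfsgLib.Perm.Dickson.subfield_eq_of_card (hcard₂.symm.trans hcard)
  obtain ⟨ζ₁, hζ0, hζ⟩ : ∃ ζ, ζ ≠ 0 ∧ Has P z₂ ζ := ⟨η₂, (hm2.ne_zero hu hφ).2, hm2.has h1⟩
  have hc2 := hall z₂ ζ₁ hz2.1 hζ0 hζ
  obtain ⟨K₃, hcard₃, -, hK₃s, -⟩ := line_field hsl hC hz2.1 hz3 (fun c h => hind 0 c (by simpa using h)) hζ hζ0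
    (hc2 ▸ h3)
  obtain rfl : K₃ = K₂ := CfsgLib.Perm.Dickson.subfield_eq_of_card (hcard₃.symm.trans (hc2.trans hcard))
  have ha0 : φ₁ ⬝ᵥ z₂ ≠ 0 := hC.opp hu hφ hz2.1 hζ0 h1 hζ hne2
  have hτ : φ₁ ⬝ᵥ z₃ ≠ 0 := hC.opp hu hφ hz3.1 (hm3.ne_zero hu hφ).2 h1 (hm3.has h1) hne3
  have hσ : ζ₁ ⬝ᵥ z₃ ≠ 0 := hC.opp hz2.1 hζ0 hz3.1 (hm3.ne_zero hu hφ).2 hζ (hm3.has h1)
    fun c h => hind 0 c (by simpa using h)
  -- a conjugate of the third centre
  have hv : ∀ ζ, Has P z₂ ζ → Cen P (z₃ + (ζ ⬝ᵥ z₃) • z₂) ∧ ∀ c : F, z₃ + (ζ ⬝ᵥ z₃) • z₂ ≠ c • u₀ := fun ζ h => by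
    obtain ⟨h0, hm⟩ := h
    refine ⟨?_, fun c hc => hind c (-(ζ ⬝ᵥ z₃)) (by rw [← hc, neg_smul, add_neg_cancel_right])⟩
    have := hz3.conj hm
    rwa [tv_mulVec] at this
  by_cases hr : (ζ₁ ⬝ᵥ z₃) * (φ₁ ⬝ᵥ z₂) / (φ₁ ⬝ᵥ z₃) ∈ K₃
  · obtain ⟨ζ, hh, he⟩ := hK₃s _ (K₃.inv_mem hr)
    obtain ⟨hvc, hvn⟩ := hv ζ hh
    obtain ⟨hv0, ε, hε0, hε⟩ := hvc
    refine hC.opp hu hφ hv0 hε0 h1 hε hvn ?_
    rw [dotProduct_add, dotProduct_smul, smul_eq_mul, he]
    field_simp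
    rw [CharTwo.add_self_eq_zero, mul_zero]
  · have hprop : ∀ φ, Has P u₀ φ → φ = 0 ∨ φ = φ₁ := by
      intro φ h
      obtain ⟨hvc, hvn⟩ := hv ζ₁ hζ
      obtain ⟨K₄, hcard₄, hK₄a, -, -⟩ := line_field hsl hC hu hvc hvn h1 hφ h3
      obtain rfl : K₄ = K₃ := CfsgLib.Perm.Dickson.subfield_eq_of_card (hcard₄.symm.trans hcard)
      obtain ⟨q, hq⟩ : ∃ q, q = φ ⬝ᵥ z₂ / (φ₁ ⬝ᵥ z₂) := ⟨_, rfl⟩
      obtain ⟨p, hp⟩ : ∃ p, p = φ ⬝ᵥ z₃ / (φ₁ ⬝ᵥ z₃) := ⟨_, rfl⟩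
      have hqK : q ∈ K₄ := hq ▸ hKa φ h
      have hpK : p ∈ K₄ := hp ▸ hK₂a φ h
      have eq2 : φ ⬝ᵥ z₂ = q * (φ₁ ⬝ᵥ z₂) := by rw [hq, div_mul_cancel₀ _ ha0]
      have eq3 : φ ⬝ᵥ z₃ = p * (φ₁ ⬝ᵥ z₃) := by rw [hp, div_mul_cancel₀ _ hτ]
      have hden : φ₁ ⬝ᵥ (z₃ + (ζ₁ ⬝ᵥ z₃) • z₂) ≠ 0 := by
        obtain ⟨hv0, ε, hε0, hε⟩ := hvc
        exact hC.opp hu hφ hv0 hε0 h1 hε hvn
      obtain ⟨k, hk⟩ : ∃ k, k = φ ⬝ᵥ (z₃ + (ζ₁ ⬝ᵥ z₃) • z₂) / (φ₁ ⬝ᵥ (z₃ + (ζ₁ ⬝ᵥ z₃) • z₂)) := ⟨_, rfl⟩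
      have hkK : k ∈ K₄ := hk ▸ hK₄a φ h
      have heq : (p - k) * (φ₁ ⬝ᵥ z₃) = (k - q) * ((ζ₁ ⬝ᵥ z₃) * (φ₁ ⬝ᵥ z₂)) := by
        rw [eq_div_iff hden, dotProduct_add, dotProduct_add, dotProduct_smul, dotProduct_smul, smul_eq_mul, smul_eq_mul,
          eq2, eq3] at hk
        linear_combination -hk
      have hkq : k = q := by
        by_contra hne
        refine hr ?_
        convert K₄.div_mem (K₄.sub_mem hpK hkK) (K₄.sub_mem hkK hqK) using 1
        rw [div_eq_div_iff hτ (sub_ne_zero.2 hne)]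
        linear_combination -heq
      have hpq : p = q := by
        rw [hkq, sub_self, zero_mul, mul_eq_zero] at heq
        exact sub_eq_zero.1 (heq.resolve_right hτ)
      have hφq : φ = q • φ₁ := by
        by_contra hne
        obtain ⟨W, hW⟩ : ∃ W, W = LinearMap.ker (SingTv.fnl (φ - q • φ₁)) := ⟨_, rfl⟩
        have hmem : ∀ x, (φ - q • φ₁) ⬝ᵥ x = 0 → x ∈ W := fun x hx => hW ▸ LinearMap.mem_ker.2 hx
        have hli : LinearIndependent F ![u₀, z₂, z₃] := by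
          rw [Fintype.linearIndependent_iff]
          intro g hg
          simp [Fin.sum_univ_three] at hg
          have g2 : g 2 = 0 := by
            by_contra g2
            refine hind (-(g 2)⁻¹ * g 0) (-(g 2)⁻¹ * g 1) ?_
            rw [mul_smul, mul_smul, ← smul_add, eq_neg_of_add_eq_zero_left hg, smul_neg, neg_smul, neg_neg, smul_smul,
              inv_mul_cancel₀ g2, one_smul]
          rw [g2, zero_smul, add_zero] at hg
          have g1 : g 1 = 0 := by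
            by_contra g1
            refine hne2 (-(g 1)⁻¹ * g 0) ?_
            rw [mul_smul, eq_neg_of_add_eq_zero_left hg, smul_neg, neg_smul, neg_neg, smul_smul, inv_mul_cancel₀ g1,
              one_smul]
          rw [g1, zero_smul, add_zero] at hg
          intro i
          fin_cases i
          exacts [(smul_eq_zero.1 hg).resolve_right hu, g1, g2]
        have h3' : Submodule.span F (Set.range ![u₀, z₂, z₃]) ≤ W := by
          rw [Submodule.span_le]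
          rintro _ ⟨i, rfl⟩
          refine hmem _ ?_
          fin_cases i
          · simp [sub_dotProduct, smul_dotProduct, h.orth, h1.orth]
          · simp [sub_dotProduct, smul_dotProduct, eq2]
          · simp [sub_dotProduct, smul_dotProduct, eq3, hpq]
        have h4 := Submodule.finrank_mono h3'
        rw [finrank_span_eq_card hli, Fintype.card_fin, hW, SingTv.finrank_ker_fnl (sub_ne_zero.2 hne)] at h4
        omega
      rw [hφq] at h ⊢
      rcases h2.2 u₀ φ₁ hu hφ h1 q ((has_smul_iff _ _).2 h) with e | e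
      · exact Or.inl (by rw [e, zero_smul])
      · exact Or.inr (by rw [e, one_smul])
    have : Nat.card (cng P u₀) ≤ ({0, φ₁} : Finset (Fin 3 → F)).card := by
      rw [← Nat.card_eq_finsetCard]
      refine Nat.card_le_card_of_injective
        (fun φ => (⟨(φ : Fin 3 → F), by rcases hprop φ φ.2 with e | e <;> simp [e]⟩ : {x // x ∈ ({0, φ₁} : Finset _)}))
        fun a b hab => Subtype.ext (congrArg Subtype.val hab :)
    have := (Finset.card_le_two : ({0, φ₁} : Finset (Fin 3 → F)).card ≤ 2)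
    omega

end CfsgLib.Perm.Trans.ThreeRes.Tv
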