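import Cfsg.Agent.Lib.Perm.Trans.ThreeRes.Tv.TwoCentre
import Cfsg.Agent.Lib.Coprime.UniqueOrderP

/-!
# Characteristic two, root sets of size two: the unitriangular two-subgroups

A maximal two-subgroup in upper unitriangular form is cyclic, or has a cyclic subgroup of index two with involutions
outside, or has order eight and one involution. An elementary one with a single centre would be a large group of
transvections at one centre.
-/

set_option autoImplicit false
set_option linter.all false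

namespace CfsgLib.Perm.Trans.ThreeRes.Tv

open scoped Matrix
open Matrix Cfsg.Geo CfsgLib.Perm.Asch CfsgLib.Perm.Trans CfsgLib.Perm.Trans.ThreeDim
open CfsgLib.Perm.Trans.ThreeDim.SingTv (cng mem_cng ctr ctr_injective ctr_tv dualGrp has_dual dual_le_SL)

variable {F : Type*} [Field F]

local notation "δ₀" => (Pi.single 0 1 : Fin 3 → F)
local notation "δ₂" => (Pi.single 2 1 : Fin 3 → F)
local notation "M3" => Matrix (Fin 3) (Fin 3) F
local notation "G3" => GL (Fin 3) F

/-- every commuting pair of involutions is conjugate into `S` -/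
def MaxTwo (P S : Subgroup G3) : Prop :=
  ∀ s ∈ P, ∀ t ∈ P, s * s = 1 → t * t = 1 → s * t = t * s → ∃ g ∈ P, g * s * g⁻¹ ∈ S ∧ g * t * g⁻¹ ∈ S

/-- upper unitriangular -/
def UT (g : G3) : Prop :=
  (g : M3) 0 0 = 1 ∧ (g : M3) 1 0 = 0 ∧ (g : M3) 2 0 = 0 ∧ (g : M3) 1 1 = 1 ∧ (g : M3) 2 1 = 0 ∧ (g : M3) 2 2 = 1

theorem UT.mul_entries {g h : G3} (hg : UT g) (hh : UT h) :
    ((g * h : G3) : M3) 0 1 = (g : M3) 0 1 + (h : M3) 0 1 ∧ ((g * h : G3) : M3) 1 2 = (g : M3) 1 2 + (h : M3) 1 2 ∧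
      ((g * h : G3) : M3) 0 2 = (g : M3) 0 2 + (h : M3) 0 2 + (g : M3) 0 1 * (h : M3) 1 2 := by
  obtain ⟨g00, g10, g20, g11, g21, g22⟩ := hg
  obtain ⟨h00, h10, h20, h11, h21, h22⟩ := hh
  refine ⟨?_, ?_, ?_⟩ <;>
    simp [Matrix.mul_apply, Fin.sum_univ_three, g00, g10, g20, g11, g21, g22, h00, h10, h20, h11, h21, h22] <;> ring

theorem UT.ext {g h : G3} (hg : UT g) (hh : UT h) (e1 : (g : M3) 0 1 = (h : M3) 0 1)
    (e2 : (g : M3) 1 2 = (h : M3) 1 2) (e3 : (g : M3) 0 2 = (h : M3) 0 2) : g = h := by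
  obtain ⟨g00, g10, g20, g11, g21, g22⟩ := hg
  obtain ⟨h00, h10, h20, h11, h21, h22⟩ := hh
  refine Units.ext (Matrix.ext fun i j => ?_)
  fin_cases i <;> fin_cases j <;> simp only [Fin.zero_eta, Fin.isValue, Fin.mk_one, Fin.reduceFinMk] <;>
    first | assumption | (simp only [g00, g10, g20, g11, g21, g22, h00, h10, h20, h11, h21, h22])

theorem UT.one : UT (1 : G3) := by
  refine ⟨?_, ?_, ?_, ?_, ?_, ?_⟩ <;> simp

theorem UT.axis_form {g : G3} (hg : UT g) (h0 : (g : M3) 0 1 = 0) :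
    ∃ h : δ₂ ⬝ᵥ ![(g : M3) 0 2, (g : M3) 1 2, 0] = 0, g = tv ![(g : M3) 0 2, (g : M3) 1 2, 0] δ₂ h := by
  obtain ⟨g00, g10, g20, g11, g21, g22⟩ := hg
  refine ⟨by simp, Units.ext (Matrix.ext fun i j => ?_)⟩
  rw [tv_coe, Matrix.add_apply, vecMulVec_apply]
  fin_cases i <;> fin_cases j <;>
    simp [Pi.single_apply, Matrix.one_apply, g00, g10, g20, g11, g21, g22, h0]

theorem UT.centre_form {g : G3} (hg : UT g) (h0 : (g : M3) 1 2 = 0) :
    ∃ h : ![0, (g : M3) 0 1, (g : M3) 0 2] ⬝ᵥ δ₀ = 0, g = tv δ₀ ![0, (g : M3) 0 1, (g : M3) 0 2] h := by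
  obtain ⟨g00, g10, g20, g11, g21, g22⟩ := hg
  refine ⟨by simp, Units.ext (Matrix.ext fun i j => ?_)⟩
  rw [tv_coe, Matrix.add_apply, vecMulVec_apply]
  fin_cases i <;> fin_cases j <;>
    simp [Pi.single_apply, Matrix.one_apply, g00, g10, g20, g11, g21, g22, h0]

/-- a transvection conjugate to one with centre `w` has centre over `w` -/
theorem centre_of_conj {u φ w ψ : Fin 3 → F} {h : φ ⬝ᵥ u = 0} {h' : ψ ⬝ᵥ w = 0} {g : G3} (hu : u ≠ 0) (hφ : φ ≠ 0)
    (he : g * tv u φ h * g⁻¹ = tv w ψ h') : ∃ a : F, a ≠ 0 ∧ (g : M3) *ᵥ u = a • w := by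
  obtain ⟨y, hy⟩ := exists_dot_ne_zero hφ
  have h1 : ((g * tv u φ h * g⁻¹ : G3) : M3) *ᵥ ((g : M3) *ᵥ y) = (tv w ψ h' : M3) *ᵥ ((g : M3) *ᵥ y) := by rw [he]
  rw [gl_mul_mulVec, gl_mul_mulVec, gl_inv_mulVec, tv_mulVec, tv_mulVec, mulVec_add, mulVec_smul, add_right_inj] at h1
  have h2 : (g : M3) *ᵥ u = ((φ ⬝ᵥ y)⁻¹ * (ψ ⬝ᵥ (g : M3) *ᵥ y)) • w := by
    rw [mul_smul, ← h1, smul_smul, inv_mul_cancel₀ hy, one_smul]
  refine ⟨_, fun e => hu (gl_mulVec_eq_zero.1 (?_ : (g : M3) *ᵥ u = 0)), h2⟩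
  rw [h2, e, zero_smul]

variable [Fintype F] {P : Subgroup (GL (Fin 3) F)}

/-- no group of at least three transvections with one centre receives all commuting pairs -/
theorem no_centre_group (hc : Core P) (hsl : P ≤ specialLinear (Fin 3) F) (h2 : Two P) {S : Subgroup G3} (hS : S ≤ P)
    (hcard : 3 ≤ Nat.card S) {w : Fin 3 → F} (hw : w ≠ 0)
    (hcen : ∀ g ∈ S, ∃ φ, ∃ h : φ ⬝ᵥ w = 0, g = tv w φ h) (hmax : MaxTwo P S) : False := by
  classical
  haveI : Finite G3 := inferInstance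
  have hinv : ∀ (u φ : Fin 3 → F) (h : φ ⬝ᵥ u = 0), tv u φ h * tv u φ h = 1 := fun u φ h => gl_ext_vec fun x => by
    rw [gl_mul_mulVec, tv_mulVec, tv_mulVec, dotProduct_add, dotProduct_smul, h, smul_zero, add_zero, Units.val_one,
      one_mulVec, add_assoc, ← add_smul, ← two_mul, h2.1, zero_mul, zero_smul, add_zero]
  choose f hf hfe using hcen
  let ι : S → cng P w := fun g => ⟨f g g.2, hf g g.2, hfe g g.2 ▸ hS g.2⟩
  have hι : Function.Injective ι := fun a b e => Subtype.ext (by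
    rw [hfe a a.2, hfe b b.2]
    exact tv_congr_gl _ _ (fun x => by rw [show f a a.2 = f b b.2 from congrArg Subtype.val e]))
  have h3 : 3 ≤ Nat.card (cng P w) := hcard.trans (Nat.card_le_card_of_injective ι hι)
  obtain ⟨φ₁, h1, hφ₁⟩ : ∃ φ, Has P w φ ∧ φ ≠ 0 := by
    by_contra hcon
    push Not at hcon
    have : Nat.card (cng P w) ≤ 1 := by
      haveI : Subsingleton (cng P w) := ⟨fun a b => Subtype.ext ((hcon _ a.2).trans (hcon _ b.2).symm)⟩
      exact Finite.card_le_one_iff_subsingleton.2 inferInstance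
    omega
  have key : ∀ (g : G3) (u φ : Fin 3 → F) (h : φ ⬝ᵥ u = 0), u ≠ 0 → φ ≠ 0 → g * tv u φ h * g⁻¹ ∈ S →
      ∃ a : F, a ≠ 0 ∧ (g : M3) *ᵥ u = a • w := fun g u φ h hu hφ hg => centre_of_conj hu hφ (hfe _ hg)
  refine no_large_centre hc hsl h2 ?_ hw hφ₁ h1 h3 ?_
  · intro u φ z ζ hu hφ hz hζ h h' hcomm
    obtain ⟨h0, hm⟩ := h
    obtain ⟨h0', hm'⟩ := h'
    obtain ⟨g, -, hgs, hgt⟩ := hmax _ hm _ hm' (hinv _ _ h0) (hinv _ _ h0') (gl_ext_vec fun x => by
      rw [gl_mul_mulVec, gl_mul_mulVec, tv_mulVec, tv_mulVec, tv_mulVec, tv_mulVec]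
      exact (hcomm x).symm)
    obtain ⟨a, ha, hau⟩ := key g u φ h0 hu hφ hgs
    obtain ⟨b, -, hbz⟩ := key g z ζ h0' hz hζ hgt
    refine ⟨b * a⁻¹, ?_⟩
    have e := congrArg (fun v => ((g⁻¹ : G3) : M3) *ᵥ v) hbz
    simp only [gl_inv_mulVec, mulVec_smul] at e
    have e' := congrArg (fun v => ((g⁻¹ : G3) : M3) *ᵥ v) hau
    simp only [gl_inv_mulVec, mulVec_smul] at e'
    rw [e, e', smul_smul, mul_assoc, inv_mul_cancel₀ ha, mul_one]
  · intro u φ hu hφ h
    obtain ⟨h0, hm⟩ := h
    obtain ⟨g, hgP, hgs, -⟩ := hmax _ hm _ hm (hinv _ _ h0) (hinv _ _ h0) rfl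
    obtain ⟨a, ha, hau⟩ := key g u φ h0 hu hφ hgs
    let e : (Fin 3 → F) ≃ (Fin 3 → F) :=
      { toFun := fun θ => a • (θ ᵥ* ((g⁻¹ : G3) : M3))
        invFun := fun θ => (a⁻¹ • θ) ᵥ* (g : M3)
        left_inv := fun θ => by
          simp only [smul_smul, inv_mul_cancel₀ ha, one_smul, vecMul_vecMul, Units.inv_mul, vecMul_one]
        right_inv := fun θ => by
          simp only [vecMul_vecMul, Units.mul_inv, vecMul_one, smul_smul, mul_inv_cancel₀ ha, one_smul] }
    refine Nat.card_congr (e.subtypeEquiv fun θ => ?_)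
    show θ ∈ cng P u ↔ a • (θ ᵥ* ((g⁻¹ : G3) : M3)) ∈ cng P w
    rw [mem_cng, mem_cng, ← has_smul_iff, ← hau, Has.conj_iff hgP]

omit [Fintype F] in
theorem Two.dual (h : Two P) : Two (dualGrp P) := ⟨h.1, fun φ u hφ hu hh a ha =>
  h.2 u φ hu hφ (has_dual.1 hh) a ((has_smul_iff u φ).2 (has_dual.1 ha))⟩

/-- the possible shapes -/
theorem shape (hc : Core P) (hsl : P ≤ specialLinear (Fin 3) F) (h2 : Two P) {S : Subgroup G3} (hS : S ≤ P)
    (hut : ∀ g ∈ S, UT g) (hmax : MaxTwo P S) :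
    IsCyclic S ∨ (∃ C : Subgroup S, IsCyclic C ∧ 2 * Nat.card C = Nat.card S ∧ 2 ≤ Nat.card C ∧
        ∀ g : S, g ∉ C → g * g = 1) ∨
      (Nat.card S = 8 ∧ CfsgLib.Coprime.UniqueOrderP 2 S) := by
  classical
  have hch : (2 : F) = 0 := h2.1
  have hsq : ∀ g ∈ S, ((g * g : G3) : M3) 0 2 = (g : M3) 0 1 * (g : M3) 1 2 ∧ ((g * g : G3) : M3) 0 1 = 0 ∧
      ((g * g : G3) : M3) 1 2 = 0 := fun g hg => by
    obtain ⟨e1, e2, e3⟩ := (hut g hg).mul_entries (hut g hg)
    exact ⟨by rw [e3]; linear_combination (g : M3) 0 2 * hch, by rw [e1]; linear_combination (g : M3) 0 1 * hch,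
      by rw [e2]; linear_combination (g : M3) 1 2 * hch⟩
  by_cases hall : ∀ g ∈ S, (g : M3) 0 1 = 0 ∨ (g : M3) 1 2 = 0
  · -- elementary: a single centre or a single axis
    left
    have hx : ∀ g : S, g * g = 1 := fun g => Subtype.ext ((hut _ (S.mul_mem g.2 g.2)).ext UT.one
      (by rw [(hsq g g.2).2.1]; simp) (by rw [(hsq g g.2).2.2]; simp)
      (by
        rw [(hsq g g.2).1]
        rcases hall g g.2 with h | h <;> simp [h]))
    have hle : Nat.card S < 3 := by
      by_contra hcard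
      push Not at hcard
      by_cases hγ : ∀ g ∈ S, (g : M3) 1 2 = 0
      · exact no_centre_group hc hsl h2 hS hcard (w := δ₀) (by simp)
          (fun g hg => ⟨_, (hut g hg).centre_form (hγ g hg)⟩) hmax
      push Not at hγ
      obtain ⟨s, hs, hsγ⟩ := hγ
      have hα : ∀ g ∈ S, (g : M3) 0 1 = 0 := fun g hg => by
        by_contra hga
        have hs0 := (hall s hs).resolve_right hsγ
        have hg0 := (hall g hg).resolve_left hga
        obtain ⟨e1, e2, -⟩ := (hut g hg).mul_entries (hut s hs)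
        rcases hall _ (S.mul_mem hg hs) with h | h
        · rw [e1, hs0, add_zero] at h; exact hga h
        · rw [e2, hg0, zero_add] at h; exact hsγ h
      refine no_centre_group hc.dual (dual_le_SL hsl) h2.dual (S := S.map ctr) (Subgroup.map_mono hS) ?_ (w := δ₂)
        (by simp) ?_ ?_
      · rwa [← Nat.card_congr (Subgroup.equivMapOfInjective S ctr ctr_injective).toEquiv]
      · rintro _ ⟨g, hg, rfl⟩
        obtain ⟨h0, e⟩ := (hut g hg).axis_form (hα g hg)
        have hgi : g⁻¹ = g := inv_eq_of_mul_eq_one_right (congrArg Subtype.val (hx ⟨g, hg⟩))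
        exact ⟨_, by rw [dotProduct_comm]; exact h0, by
          rw [← ctr_tv h0]
          conv_lhs => rw [← hgi]
          rw [← e]⟩
      · rintro _ ⟨s', hs', rfl⟩ _ ⟨t', ht', rfl⟩ e1 e2 e3
        obtain ⟨g, hg, h1, h1'⟩ := hmax s' hs' t' ht' (ctr_injective (by rw [map_mul, e1, map_one]))
          (ctr_injective (by rw [map_mul, e2, map_one])) (ctr_injective (by rw [map_mul, map_mul, e3]))
        exact ⟨_, ⟨g, hg, rfl⟩, ⟨_, h1, by rw [map_mul, map_mul, map_inv]⟩, ⟨_, h1', by rw [map_mul, map_mul, map_inv]⟩⟩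
    rcases (show Nat.card S = 1 ∨ Nat.card S = 2 by have := Nat.card_pos (α := S); omega) with h | h
    · haveI : Subsingleton S := (Nat.card_eq_one_iff_unique.1 h).1
      infer_instance
    · haveI : Fact (Nat.Prime 2) := ⟨Nat.prime_two⟩
      exact isCyclic_of_prime_card (p := 2) h
  -- an element of order four
  push Not at hall
  obtain ⟨g₀, hg₀, hA, hB⟩ := hall
  obtain ⟨A, hAd⟩ : ∃ A, A = (g₀ : M3) 0 1 := ⟨_, rfl⟩
  obtain ⟨B, hBd⟩ : ∃ B, B = (g₀ : M3) 1 2 := ⟨_, rfl⟩
  rw [← hAd] at hA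
  rw [← hBd] at hB
  have hAB : A * B ≠ 0 := mul_ne_zero hA hB
  obtain ⟨hz2, hz0, hz1⟩ := hsq g₀ hg₀
  rw [← hAd, ← hBd] at hz2
  have hzS : g₀ * g₀ ∈ S := S.mul_mem hg₀ hg₀
  have hker : ∀ k ∈ S, (k : M3) 0 1 = 0 → (k : M3) 1 2 = 0 → k = 1 ∨ k = g₀ * g₀ := by
    intro k hk k1 k2
    obtain ⟨hd, e⟩ := (hut k hk).axis_form k1
    obtain ⟨hd', e'⟩ := (hut _ hzS).axis_form hz0
    have hHk : Has P (((k : M3) 0 2 / (A * B)) • ![A * B, 0, 0]) δ₂ := by
      refine Has.of_eq ⟨hd, e ▸ hS hk⟩ (by simp [smul_dotProduct]) fun x => ?_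
      congr 1
      funext i
      fin_cases i <;> simp [k2, div_mul_cancel₀ _ hAB]
    have hHz : Has P ![A * B, 0, 0] δ₂ := by
      refine Has.of_eq ⟨hd', e' ▸ hS hzS⟩ (by simp) fun x => ?_
      congr 1
      funext i
      fin_cases i <;> simp [hz1, hz2]
    rcases h2.2 _ _ (fun e => hAB (by simpa using congrFun e 0)) (by simp) hHz _ hHk with h | h
    · exact Or.inl ((hut k hk).ext UT.one (by simp [k1]) (by simp [k2])
        (by simp [(div_eq_zero_iff.1 h).resolve_right hAB]))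
    · exact Or.inr ((hut k hk).ext (hut _ hzS) (by rw [k1, hz0]) (by rw [k2, hz1])
        (by rw [hz2, (div_eq_one_iff_eq hAB).1 h]))
  have hq : ∀ g ∈ S, (g : M3) 0 1 * (g : M3) 1 2 = 0 ∨ (g : M3) 0 1 * (g : M3) 1 2 = A * B := fun g hg => by
    obtain ⟨a, b, c⟩ := hsq g hg
    rcases hker _ (S.mul_mem hg hg) b c with h | h
    · left; rw [← a, h]; simp
    · right; rw [← a, h, hz2]
  have hcross : ∀ g ∈ S, ((g : M3) 0 1 + A) * ((g : M3) 1 2 + B) = 0 ∨
      ((g : M3) 0 1 + A) * ((g : M3) 1 2 + B) = A * B := fun g hg => by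
    obtain ⟨e1, e2, -⟩ := (hut g hg).mul_entries (hut g₀ hg₀)
    have := hq _ (S.mul_mem hg hg₀)
    rwa [e1, e2, ← hAd, ← hBd] at this
  obtain ⟨v, hv⟩ : ∃ v : S → F × F, ∀ g : S, v g = (((g : G3) : M3) 0 1, ((g : G3) : M3) 1 2) := ⟨_, fun g => rfl⟩
  have hfib : ∀ b, (Finset.univ.filter fun g : S => v g = b).card ≤ 2 := by
    intro b
    rcases (Finset.univ.filter fun g : S => v g = b).eq_empty_or_nonempty with h | ⟨g, hg⟩
    · simp [h]
    refine (Finset.card_le_card (t := {g⁻¹, g⁻¹ * ⟨g₀ * g₀, hzS⟩}) fun h hh => ?_).trans Finset.card_le_two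
    rw [Finset.mem_filter, hv] at hg hh
    obtain ⟨e1, e2, -⟩ := (hut g g.2).mul_entries (hut h h.2)
    have hgh := hg.2.trans hh.2.symm
    simp only [Prod.mk.injEq] at hgh
    rw [Finset.mem_insert, Finset.mem_singleton, eq_inv_mul_iff_mul_eq]
    rcases hker _ (S.mul_mem g.2 h.2) (by rw [e1, hgh.1]; linear_combination ((h : G3) : M3) 0 1 * hch)
      (by rw [e2, hgh.2]; linear_combination ((h : G3) : M3) 1 2 * hch) with e | e
    · exact Or.inl (eq_inv_of_mul_eq_one_right (Subtype.ext e))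
    · exact Or.inr (Subtype.ext e)
  have hbound : ∀ t : Finset (F × F), t.card ≤ 4 → (∀ g : S, v g ∈ t) → Nat.card S ≤ 8 := fun t ht hm => by
    rw [Nat.card_eq_fintype_card, ← Finset.card_univ]
    have := Finset.card_le_mul_card_image_of_maps_to (s := (Finset.univ : Finset S)) (f := v) (t := t) (fun g _ => hm g) 2
      fun b _ => hfib b
    omega
  obtain ⟨c₀, hc₀⟩ : ∃ c₀ : S, (c₀ : G3) = g₀ := ⟨⟨g₀, hg₀⟩, rfl⟩
  have ho : orderOf c₀ = 4 := by
    haveI : Fact (Nat.Prime 2) := ⟨Nat.prime_two⟩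
    refine orderOf_eq_prime_pow (p := 2) (n := 1) ?_ ?_
    · intro h
      rw [pow_one, pow_two] at h
      have h' : g₀ * g₀ = 1 := by rw [← hc₀]; exact congrArg Subtype.val h
      rw [h'] at hz2
      exact hAB (by simpa using hz2.symm)
    · refine Subtype.ext ((hut _ (SetLike.coe_mem _)).ext UT.one ?_ ?_ ?_) <;>
        rw [show ((c₀ ^ 2 ^ 2 : S) : G3) = (g₀ * g₀) * (g₀ * g₀) by
          rw [← hc₀]; simp only [SubgroupClass.coe_pow]; norm_num [pow_succ, mul_assoc]]
      · rw [((hut _ hzS).mul_entries (hut _ hzS)).1, hz0]; simp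
      · rw [((hut _ hzS).mul_entries (hut _ hzS)).2.1, hz1]; simp
      · rw [((hut _ hzS).mul_entries (hut _ hzS)).2.2, hz0, hz1, hz2]
        simp only [mul_zero, add_zero]
        show A * B + A * B = (1 : M3) 0 2
        rw [Matrix.one_apply_ne (by decide)]
        linear_combination A * B * hch
  have h4 : 4 ∣ Nat.card S := ho ▸ orderOf_dvd_natCard c₀
  by_cases haxis : ∃ s ∈ S, ((s : M3) 0 1 = 0 ∨ (s : M3) 1 2 = 0) ∧ ((s : M3) 0 1 ≠ 0 ∨ (s : M3) 1 2 ≠ 0)
  · -- involutions outside the cyclic group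
    right; left
    obtain ⟨s, hs, hs0, hs1⟩ := haxis
    have hsAB : ((s : M3) 0 1 = 0 ∧ (s : M3) 1 2 = B) ∨ ((s : M3) 1 2 = 0 ∧ (s : M3) 0 1 = A) := by
      rcases hs0 with h | h
      · refine Or.inl ⟨h, ?_⟩
        have hne := hs1.resolve_left (not_not.2 h)
        rcases hcross s hs with e | e <;> rw [h, zero_add] at e
        · have := (mul_eq_zero.1 e).resolve_left hA
          linear_combination this - B * hch
        · exact absurd (mul_left_cancel₀ hA (e.trans rfl)) (fun e' => hne (by linear_combination e'))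
      · refine Or.inr ⟨h, ?_⟩
        have hne := hs1.resolve_right (not_not.2 h)
        rcases hcross s hs with e | e <;> rw [h, zero_add] at e
        · have := (mul_eq_zero.1 e).resolve_right hB
          linear_combination this - A * hch
        · exact absurd (mul_right_cancel₀ hB e) (fun e' => hne (by linear_combination e'))
    have hfour : ∀ g ∈ S, ((g : M3) 0 1 * (g : M3) 1 2 = 0 → ((g : M3) 0 1 = 0 ∨ (g : M3) 0 1 = A) ∧
        ((g : M3) 1 2 = 0 ∨ (g : M3) 1 2 = B)) ∧
        ((g : M3) 0 1 * (g : M3) 1 2 = A * B → (g : M3) 0 1 = A ∧ (g : M3) 1 2 = B) := by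
      intro g hg
      refine ⟨fun h => ?_, fun h => ?_⟩
      · rcases mul_eq_zero.1 h with h0 | h0 <;> refine ⟨?_, ?_⟩
        · exact Or.inl h0
        · rcases hcross g hg with e | e <;> rw [h0, zero_add] at e
          · exact Or.inr (by linear_combination (mul_eq_zero.1 e).resolve_left hA - B * hch)
          · exact Or.inl (by linear_combination mul_left_cancel₀ hA e)
        · rcases hcross g hg with e | e <;> rw [h0, zero_add] at e
          · exact Or.inr (by linear_combination (mul_eq_zero.1 e).resolve_right hB - A * hch)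
          · exact Or.inl (by linear_combination mul_right_cancel₀ hB e)
        · exact Or.inl h0
      · have hx0 : (g : M3) 0 1 ≠ 0 := fun e => hAB (by rw [← h, e, zero_mul])
        have hy0 : (g : M3) 1 2 ≠ 0 := fun e => hAB (by rw [← h, e, mul_zero])
        obtain ⟨e1, e2, -⟩ := (hut g hg).mul_entries (hut s hs)
        have hgs := hq _ (S.mul_mem hg hs)
        rw [e1, e2] at hgs
        rcases hsAB with ⟨ha, hb⟩ | ⟨hb, ha⟩ <;> rw [ha, hb, add_zero] at hgs
        · have hxA : (g : M3) 0 1 = A := by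
            rcases hgs with e | e
            · refine mul_right_cancel₀ hB ?_
              linear_combination e - h - A * B * hch + ((g : M3) 0 1 * B) * hch - (g : M3) 0 1 * B * hch
            · exact absurd ((mul_eq_zero.1 (by linear_combination e - h : (g : M3) 0 1 * B = 0)).resolve_right hB) hx0
          exact ⟨hxA, mul_left_cancel₀ hA (by rw [← h, hxA])⟩
        · have hyB : (g : M3) 1 2 = B := by
            rcases hgs with e | e
            · refine mul_left_cancel₀ hA ?_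
              linear_combination e - h - A * B * hch
            · exact absurd ((mul_eq_zero.1 (by linear_combination e - h : A * (g : M3) 1 2 = 0)).resolve_left hA) hy0
          exact ⟨mul_right_cancel₀ hB (by rw [← h, hyB]), hyB⟩
    have h8 := hbound {(0, 0), (A, B), (A, 0), (0, B)} Finset.card_le_four fun g => by
      simp only [hv, Finset.mem_insert, Finset.mem_singleton, Prod.mk.injEq]
      rcases hq g g.2 with h | h
      · obtain ⟨a, b⟩ := (hfour g g.2).1 h
        tauto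
      · obtain ⟨a, b⟩ := (hfour g g.2).2 h
        tauto
    have hout : (⟨s, hs⟩ : S) ∉ Subgroup.zpowers c₀ := by
      intro hsC
      rw [mem_zpowers_iff_mem_range_orderOf, ho] at hsC
      simp only [Finset.mem_image, Finset.mem_range] at hsC
      obtain ⟨k, hk, hke⟩ := hsC
      have hke' : g₀ ^ k = s := by
        have := congrArg Subtype.val hke
        simpa [hc₀] using this
      obtain ⟨e1, e2, -⟩ := (hut _ hzS).mul_entries (hut g₀ hg₀)
      interval_cases k
      · rw [← hke'] at hs1; simp at hs1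
      · rw [← hke', pow_one, ← hAd, ← hBd] at hs0; tauto
      · rw [← hke', pow_two, hz0, hz1] at hs1; simp at hs1
      · rw [← hke', pow_succ, pow_two, e1, e2, hz0, hz1, zero_add, zero_add, ← hAd, ← hBd] at hs0; tauto
    have hC : Nat.card (Subgroup.zpowers c₀) = 4 := by rw [Nat.card_zpowers, ho]
    refine ⟨Subgroup.zpowers c₀, inferInstance, ?_, by omega, fun g hg => ?_⟩
    · have h1 := Subgroup.card_mul_index (Subgroup.zpowers c₀)
      have h2' : (Subgroup.zpowers c₀).index ≠ 1 := fun e => hout (by rw [Subgroup.index_eq_one.1 e]; trivial)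
      rw [hC] at h1 ⊢
      have := Nat.card_pos (α := S)
      omega
    · refine Subtype.ext ?_
      obtain ⟨a, b, c⟩ := hsq g g.2
      rcases hker _ (S.mul_mem g.2 g.2) b c with h | h
      · exact h
      exfalso
      obtain ⟨hxA, hyB⟩ := (hfour g g.2).2 (by rw [← a, h, hz2])
      obtain ⟨e1, e2, -⟩ := (hut g g.2).mul_entries (hut g₀ hg₀)
      rcases hker _ (S.mul_mem g.2 hg₀) (by rw [e1, hxA, ← hAd]; linear_combination A * hch)
        (by rw [e2, hyB, ← hBd]; linear_combination B * hch) with e | e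
      · refine hg ?_
        rw [show g = c₀⁻¹ from Subtype.ext (by simpa [hc₀] using eq_inv_of_mul_eq_one_left e)]
        exact inv_mem (Subgroup.mem_zpowers _)
      · refine hg ?_
        rw [show g = c₀ from Subtype.ext (by rw [hc₀]; exact mul_right_cancel e)]
        exact Subgroup.mem_zpowers _
  · -- one involution
    push Not at haxis
    have hnx : ∀ g ∈ S, (g : M3) 0 1 * (g : M3) 1 2 = 0 → (g : M3) 0 1 = 0 ∧ (g : M3) 1 2 = 0 := fun g hg h =>
      haxis g hg (mul_eq_zero.1 h)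
    obtain ⟨R, hR⟩ : ∃ R : Finset F, R.card ≤ 3 ∧ ∀ t : F, t ^ 3 = 1 → t ∈ R :=
      ⟨Polynomial.nthRootsFinset 3 (1 : F), by
        rw [Polynomial.nthRootsFinset_def]
        exact (Multiset.toFinset_card_le _).trans (Polynomial.card_nthRoots 3 1),
        fun t ht => (Polynomial.mem_nthRootsFinset (by norm_num) 1).2 ht⟩
    have h8 := hbound (insert (0, 0) (R.image fun t => (t * A, B / t))) (by
      have := Finset.card_insert_le ((0 : F), (0 : F)) (R.image fun t => (t * A, B / t))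
      have := Finset.card_image_le (s := R) (f := fun t => (t * A, B / t))
      omega) fun g => by
      rw [hv, Finset.mem_insert, Finset.mem_image]
      rcases hq g g.2 with h | h
      · obtain ⟨a, b⟩ := hnx g g.2 h
        exact Or.inl (by rw [a, b])
      · obtain ⟨t, ht⟩ : ∃ t, t = ((g : G3) : M3) 0 1 / A := ⟨_, rfl⟩
        have hx : ((g : G3) : M3) 0 1 = t * A := by rw [ht, div_mul_cancel₀ _ hA]
        have hyt : t * ((g : G3) : M3) 1 2 = B := mul_left_cancel₀ hA (by rw [← h, hx]; ring)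
        have ht0 : t ≠ 0 := fun e => hB (by rw [← hyt, e, zero_mul])
        refine Or.inr ⟨t, hR.2 t ?_, ?_⟩
        · have hy : (((g : G3) : M3) 1 2 + B) * t = B + B * t := by rw [add_mul, mul_comm _ t, hyt]
          rcases hcross g g.2 with e | e <;> rw [hx] at e
          · have : (t + 1) * (B + B * t) = 0 := by
              rw [← hy]
              refine (mul_eq_zero.1 (?_ : A * ((t + 1) * ((((g : G3) : M3) 1 2 + B) * t)) = 0)).resolve_left hA
              linear_combination t * e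
            have : (t + 1) * (t + 1) = 0 := (mul_eq_zero.1 (by linear_combination this :
              B * ((t + 1) * (t + 1)) = 0)).resolve_left hB
            have t1 : t = 1 := by linear_combination (mul_self_eq_zero.1 this) - hch
            rw [t1, one_pow]
          · have : (t + 1) * (B + B * t) = t * B := by
              rw [← hy]
              refine mul_left_cancel₀ hA ?_
              linear_combination t * e
            have h' : t ^ 2 + t + 1 = 0 := (mul_eq_zero.1 (by linear_combination this :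
              B * (t ^ 2 + t + 1) = 0)).resolve_left hB
            linear_combination (t - 1) * h'
        · rw [← hx, ← hyt, mul_div_cancel_left₀ _ ht0]
    have huniq : ∀ h : S, h * h = 1 → h = 1 ∨ (h : G3) = g₀ * g₀ := fun h hh => by
      obtain ⟨a, -, -⟩ := hsq h h.2
      have hh' : (h : G3) * h = 1 := congrArg Subtype.val hh
      rw [hh'] at a
      obtain ⟨x, y⟩ := hnx h h.2 (by rw [← a]; simp)
      exact (hker h h.2 x y).imp_left fun e => Subtype.ext e
    rcases (show Nat.card S = 4 ∨ Nat.card S = 8 by have := Nat.card_pos (α := S); omega) with h | h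
    · exact Or.inl (isCyclic_of_orderOf_eq_card c₀ (by rw [ho, h]))
    · refine Or.inr (Or.inr ⟨h, fun x y hx hy hx1 => ?_⟩)
      rw [pow_two] at hx hy
      have e := (huniq x hx).resolve_left hx1
      rcases huniq y hy with rfl | e'
      · exact one_mem _
      · rw [show y = x from Subtype.ext (e'.trans e.symm)]
        exact Subgroup.mem_zpowers _

end CfsgLib.Perm.Trans.ThreeRes.Tv
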